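import Cfsg.Agent.SporFischer.ComponentM23
import Cfsg.Agent.FischerTypes.M22Primitive

/-!
# An involution with quasisimple centralizer whose central quotient is of type M(22)
-/

set_option autoImplicit false
set_option linter.unusedSectionVars false

namespace CfsgLib.SporFischer

open Cfsg CfsgLib.FischerTypes

universe u

variable {G : Type u} [Group G] [Finite G] {d : G}

/-- The centralizer data at such an involution. -/
theorem exists_m22Data (hd : orderOf d = 2) (hq : Cfsg.IsQuasisimple ↥(Subgroup.centralizer ({d} : Set G)))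
    [((Subgroup.zpowers d).subgroupOf (Subgroup.centralizer ({d} : Set G))).Normal]
    {E : Set (↥(Subgroup.centralizer ({d} : Set G)) ⧸
      (Subgroup.zpowers d).subgroupOf (Subgroup.centralizer ({d} : Set G)))}
    (hE : Cfsg.IsThreeTranspositionClass E) (h22 : Cfsg.IsOfTypeM22 _ E)
    (hnwc : ∃ g : G, g * d * g⁻¹ ∈ Subgroup.centralizer ({d} : Set G) ∧ g * d * g⁻¹ ≠ d) :
    Nonempty (M22Data G _ E d) := by
  revert E
  set C := Subgroup.centralizer ({d} : Set G) with hC
  set Z := (Subgroup.zpowers d).subgroupOf C with hZ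
  intro E hE h22
  obtain ⟨hE1, ⟨a, ha, hEa⟩, hEgen⟩ := hE
  have hd2 : d * d = 1 := by rw [← pow_two, ← hd, pow_orderOf_eq_one]
  have hd1 : d ≠ 1 := fun h1 => by rw [h1, orderOf_one] at hd; omega
  have hcentral : ∀ g : C, Commute (selfC d) g := fun g =>
    Subtype.ext (Subgroup.mem_centralizer_singleton_iff.1 g.2).symm
  have hker : ∀ z : C, QuotientGroup.mk' Z z = 1 ↔ z = 1 ∨ z = selfC d := by
    intro z
    rw [QuotientGroup.mk'_apply, QuotientGroup.eq_one_iff, hZ, Subgroup.mem_subgroupOf]
    constructor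
    · intro hz
      obtain ⟨n, hn⟩ := Subgroup.mem_zpowers_iff.1 hz
      rcases Int.even_or_odd' n with ⟨k, rfl | rfl⟩
      · left; refine Subtype.ext ?_
        rw [← hn, zpow_mul, zpow_two, hd2, one_zpow]; rfl
      · right; refine Subtype.ext ?_
        rw [← hn, zpow_add, zpow_mul, zpow_two, hd2, one_zpow, one_mul, zpow_one]; rfl
    · rintro (rfl | rfl)
      · exact one_mem _
      · exact Subgroup.mem_zpowers d
  have hπ := QuotientGroup.mk'_surjective Z
  have h : Cfsg.IsThreeTranspositionGroup E := ⟨hE1, fun g x hx => by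
    rw [hEa] at hx ⊢
    exact hx.trans (isConj_iff.2 ⟨g, rfl⟩), hEgen⟩
  have hcen : Z = Subgroup.center C := by
    refine le_antisymm (fun z hz => Subgroup.mem_center_iff.2 fun g => ?_) fun z hz => ?_
    · rcases (hker z).1 ((QuotientGroup.eq_one_iff z).2 hz) with rfl | rfl
      · simp
      · exact (hcentral g).eq.symm
    have h1 : QuotientGroup.mk' Z z ∈ Subgroup.center (C ⧸ Z) := by
      refine Subgroup.mem_center_iff.2 fun q => ?_
      obtain ⟨q, rfl⟩ := hπ q
      rw [← map_mul, ← map_mul, Subgroup.mem_center_iff.1 hz q]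
    rw [h22.1, Subgroup.mem_bot] at h1
    exact (QuotientGroup.eq_one_iff z).1 h1
  have hsimple : IsSimpleGroup (C ⧸ Z) := by
    have := hq.2
    let e : C ⧸ Z ≃* C ⧸ Subgroup.center C := QuotientGroup.quotientMulEquivOfEq hcen
    have : Nontrivial (C ⧸ Z) := e.toEquiv.nontrivial
    exact IsSimpleGroup.isSimpleGroup_of_surjective e.symm.toMonoidHom e.symm.surjective
  have hp := isPrimitive_of_simple h h22
  have H : Cover22 (QuotientGroup.mk' Z) E (selfC d) :=
    ⟨hπ, hker, hcentral, Subtype.ext hd2, fun e => hd1 (congrArg Subtype.val e), hq.1.commutator_eq_top,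
      h, hp, h22⟩
  obtain ⟨L⟩ := exists_liftsM22 H hnwc
  exact ⟨⟨L, hd2, hd1, hq, h, hp, h22, hsimple⟩⟩

/-- The conjugates form a class of 3-transpositions of type M(23). -/
theorem conclusion_m23 (hd : orderOf d = 2) (hq : Cfsg.IsQuasisimple ↥(Subgroup.centralizer ({d} : Set G)))
    [((Subgroup.zpowers d).subgroupOf (Subgroup.centralizer ({d} : Set G))).Normal]
    {E : Set (↥(Subgroup.centralizer ({d} : Set G)) ⧸
      (Subgroup.zpowers d).subgroupOf (Subgroup.centralizer ({d} : Set G)))}
    (hE : Cfsg.IsThreeTranspositionClass E) (h22 : Cfsg.IsOfTypeM22 _ E)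
    (hnwc : ∃ g : G, g * d * g⁻¹ ∈ Subgroup.centralizer ({d} : Set G) ∧ g * d * g⁻¹ ≠ d) :
    Cfsg.IsThreeTranspositionClass (conjugatesOf d) ∧ Cfsg.IsOfTypeM23 G (conjugatesOf d) := by
  obtain ⟨A⟩ := exists_m22Data hd hq hE h22 hnwc
  exact A.conclusion

end CfsgLib.SporFischer
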