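import Cfsg.Agent.SporFischer.SliceChecks

/-!
# Vectors of norm one for the standard common neighbours (generated table)
-/

set_option autoImplicit false
set_option maxRecDepth 100000

namespace CfsgLib.SporFischer.SliceData

/-- For each of the points a vector of norm one in six coordinates over three elements, coded in base three. -/
def vecs3 : List ℕ := [
  1, 243, 360, 81, 120, 40, 381, 79, 603, 624, 441, 652, 660, 201, 462, 588, 331, 684,
  409, 534, 291, 705, 345, 318, 571, 210, 352, 417, 579, 309, 630, 129, 711, 669, 574, 412,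
  703, 561, 328, 547, 435, 678, 304, 468, 426, 559, 223, 595, 433, 268, 336, 552, 387, 9,
  142, 655, 274, 280, 112, 460, 622, 499, 316, 228, 76, 97, 577, 354, 597, 334, 3, 517,
  525, 147, 282, 259, 226, 676, 511, 550, 237, 27, 49, 193, 43, 523, 184, 424, 508, 127,
  379, 256, 289, 199, 187, 667, 178, 208, 658, 415, 156, 106, 502, 145, 115, 343, 154, 307,
  67, 70, 94, 103, 139, 265, 301, 220, 196, 532, 520, 118, 277, 586, 235, 175, 544, 52]

/-- A digit in base three. -/
def d3 (c k : ℕ) : ℕ := c / 3 ^ k % 3

/-- The scalar product in base three. -/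
def dot3 (c d : ℕ) : ℕ :=
  (d3 c 0 * d3 d 0 + d3 c 1 * d3 d 1 + d3 c 2 * d3 d 2 + d3 c 3 * d3 d 3 + d3 c 4 * d3 d 4 + d3 c 5 * d3 d 5) % 3

/-- The number of the point `i` moved by the seed number `j`. -/
def mv (i j : ℕ) : ℕ := pts126.idxOf (moveN 1 (pts126.getD i 0) ((seeds 3).getD j 0))

theorem mv_ok : (List.range 126).all (fun i => (List.range 7).all fun j => Nat.blt (mv i j) 126 &&
    Nat.beq (pts126.getD (mv i j) 0) (moveN 1 (pts126.getD i 0) ((seeds 3).getD j 0))) = true := by
  decide +kernel

theorem mv_reach : (List.range ops13.length).all (fun k => match ops13.getD k (0, 0, 0) with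
    | (_, i, j) => Nat.blt i (7 + k) && Nat.blt j 7 && Nat.beq (mv i j) (7 + k)) = true := by
  decide +kernel

/-- Reflecting by a seed is moving by it: the coordinates of `v - 2 (u, v) u` are those of the image or its
negative. -/
theorem refl_ok : (List.range 126).all (fun i => (List.range 7).all fun j =>
    let v := vecs3.getD i 0
    let u := vecs3.getD j 0
    let w := vecs3.getD (mv i j) 0
    ((List.range 6).all fun k => Nat.beq ((d3 v k + dot3 u v * d3 u k) % 3) (d3 w k)) ||
      ((List.range 6).all fun k => Nat.beq ((d3 v k + dot3 u v * d3 u k + d3 w k) % 3) 0)) = true := by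
  decide +kernel

theorem vecs_ok : vecs3.length = 126 ∧ (List.range 126).all (fun i =>
    Nat.beq (dot3 (vecs3.getD i 0) (vecs3.getD i 0)) 1 && (List.range 126).all fun j => Nat.beq i j ||
      (!((List.range 6).all fun k => Nat.beq (d3 (vecs3.getD i 0) k) (d3 (vecs3.getD j 0) k)) &&
        !((List.range 6).all fun k => Nat.beq ((d3 (vecs3.getD i 0) k + d3 (vecs3.getD j 0) k) % 3) 0))) = true := by
  decide +kernel

theorem vecs_cover : (List.range 729).all (fun c => !Nat.beq (dot3 c c) 1 ||
    vecs3.any fun v => ((List.range 6).all fun k => Nat.beq (d3 c k) (d3 v k)) ||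
      ((List.range 6).all fun k => Nat.beq ((d3 c k + d3 v k) % 3) 0)) = true := by
  decide +kernel

end CfsgLib.SporFischer.SliceData
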