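import Cfsg.Agent.SporFischer.Slice
import Cfsg.Agent.SporFischer.SliceReflectData
import Cfsg.Agent.Transpositions.ReflectionsModThree

/-!
# The group of the common neighbours is a reflection group

The 126 points correspond to the pairs of opposite vectors of norm one of a six dimensional space over three
elements so that moving by a point is reflecting, so both groups act alike modulo their centres.
-/

set_option autoImplicit false
set_option linter.unusedSectionVars false
set_option maxRecDepth 20000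

namespace CfsgLib.SporFischer

open Cfsg CfsgLib.Transpositions CfsgLib.Spinor
open SliceData (pts126 seeds moveN vecs3 d3 dot3 mv)

section ModCenter

variable {A B : Type*} [Group A] [Group B] {ι κ : Type*} [Finite ι]

/-- The permutation action on a generating set and its kernel. -/
theorem exists_range_equiv (a : ι → A) (ha : Function.Injective a) (s : κ → ι) (π : κ → Equiv.Perm ι)
    (hA : ∀ j i, a (s j) * a i * (a (s j))⁻¹ = a (π j i))
    (gen : Subgroup.closure (Set.range fun j => a (s j)) = ⊤) :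
    Nonempty (A ⧸ Subgroup.center A ≃* ↥(Subgroup.closure (Set.range π))) := by
  classical
  have hex : ∀ g : A, ∃ p : Equiv.Perm ι, ∀ i, g * a i * g⁻¹ = a (p i) := by
    intro g
    have hg : g ∈ Subgroup.closure (Set.range fun j => a (s j)) := gen ▸ Subgroup.mem_top g
    induction hg using Subgroup.closure_induction with
    | mem x hx => obtain ⟨j, rfl⟩ := hx; exact ⟨π j, hA j⟩
    | one => exact ⟨1, fun i => by simp⟩
    | mul x y _ _ hx hy =>
      obtain ⟨p, hp⟩ := hx; obtain ⟨q, hq⟩ := hy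
      exact ⟨p * q, fun i => by rw [Equiv.Perm.mul_apply, ← hp, ← hq]; group⟩
    | inv x _ hx =>
      obtain ⟨p, hp⟩ := hx
      refine ⟨p⁻¹, fun i => ?_⟩
      conv_lhs => rw [show i = p (p⁻¹ i) from (Equiv.apply_symm_apply p i).symm, ← hp]
      group
  choose ρ hρ using hex
  have uniq : ∀ {g : A} {p : Equiv.Perm ι}, (∀ i, g * a i * g⁻¹ = a (p i)) → ρ g = p := fun h =>
    Equiv.ext fun i => ha ((hρ _ i).symm.trans (h i))
  let f : A →* Equiv.Perm ι := MonoidHom.mk' ρ fun x y => uniq fun i => by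
    rw [Equiv.Perm.mul_apply, ← hρ, ← hρ]; group
  have hf : ∀ j, f (a (s j)) = π j := fun j => uniq (hA j)
  have hrange : f.range = Subgroup.closure (Set.range π) := by
    rw [MonoidHom.range_eq_map, ← gen, MonoidHom.map_closure, ← Set.range_comp]
    exact congrArg _ (congrArg Set.range (funext hf))
  have hker : f.ker = Subgroup.center A := by
    ext g
    rw [MonoidHom.mem_ker, Subgroup.mem_center_iff]
    constructor
    · intro h x
      have hle : Subgroup.closure (Set.range fun j => a (s j)) ≤ Subgroup.centralizer {g} := by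
        rw [Subgroup.closure_le]
        rintro _ ⟨j, rfl⟩
        rw [SetLike.mem_coe, Subgroup.mem_centralizer_singleton_iff]
        have e := hρ g (s j)
        rw [show ρ g = 1 from h, Equiv.Perm.one_apply, mul_inv_eq_iff_eq_mul] at e
        exact e.symm
      exact Subgroup.mem_centralizer_singleton_iff.1 (hle (gen ▸ Subgroup.mem_top x))
    · intro h
      exact uniq fun i => by rw [← h (a i), mul_inv_cancel_right, Equiv.Perm.one_apply]
  exact ⟨(QuotientGroup.quotientMulEquivOfEq hker.symm).trans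
    ((QuotientGroup.quotientKerEquivRange f).trans (MulEquiv.subgroupCongr hrange))⟩

/-- Two groups moving generating sets alike are alike modulo the centres. -/
theorem exists_equiv_mod_center (a : ι → A) (b : ι → B) (ha : Function.Injective a) (hb : Function.Injective b)
    (s : κ → ι) (σ : κ → ι → ι) (hA : ∀ j i, a (s j) * a i * (a (s j))⁻¹ = a (σ j i))
    (hB : ∀ j i, b (s j) * b i * (b (s j))⁻¹ = b (σ j i))
    (genA : Subgroup.closure (Set.range fun j => a (s j)) = ⊤)
    (genB : Subgroup.closure (Set.range fun j => b (s j)) = ⊤) :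
    Nonempty (A ⧸ Subgroup.center A ≃* B ⧸ Subgroup.center B) := by
  have hinj : ∀ j, Function.Injective (σ j) := fun j i k h => ha (by
    have e : a (s j) * a i * (a (s j))⁻¹ = a (s j) * a k * (a (s j))⁻¹ := by rw [hA, hA, h]
    exact mul_left_cancel (mul_right_cancel e))
  set π := fun j => Equiv.ofBijective (σ j) (Finite.injective_iff_bijective.1 (hinj j)) with hπ
  obtain ⟨e⟩ := exists_range_equiv a ha s π hA genA
  obtain ⟨e'⟩ := exists_range_equiv b hb s π hB genB
  exact ⟨e.trans e'.symm⟩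

end ModCenter

/-- The number of the point `i` moved by the seed number `j`. -/
def mvFin (j : Fin 7) (i : Fin 126) : Fin 126 := ⟨mv i j, by
  have h := List.all_eq_true.1 (List.all_eq_true.1 SliceData.mv_ok i (List.mem_range.2 i.2)) j
    (List.mem_range.2 j.2)
  simp only [Bool.and_eq_true, Nat.blt_eq] at h
  exact h.1⟩

/-- The number of a seed. -/
def seedFin (j : Fin 7) : Fin 126 := ⟨j, j.2.trans (by norm_num)⟩

theorem mv_val (j : Fin 7) (i : Fin 126) :
    pts126.getD (mvFin j i) 0 = moveN 1 (pts126.getD i 0) (pts126.getD j 0) := by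
  have h := List.all_eq_true.1 (List.all_eq_true.1 SliceData.mv_ok i (List.mem_range.2 i.2)) j
    (List.mem_range.2 j.2)
  simp only [Bool.and_eq_true, Nat.blt_eq] at h
  rw [show pts126.getD j 0 = (seeds 3).getD j 0 from by
    rw [pts126, SliceData.pts, List.getD_append _ _ _ _ j.2]]
  exact Nat.eq_of_beq_eq_true h.2

/-- Everything is generated by the seeds. -/
theorem gen_of_moves {A : Type*} [Group A] (a : Fin 126 → A)
    (hA : ∀ j i, a (seedFin j) * a i * (a (seedFin j))⁻¹ = a (mvFin j i))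
    (gen : Subgroup.closure (Set.range a) = ⊤) :
    Subgroup.closure (Set.range fun j => a (seedFin j)) = ⊤ := by
  rw [eq_top_iff, ← gen, Subgroup.closure_le]
  rintro _ ⟨i, rfl⟩
  suffices h : ∀ n (hn : n < 126), a ⟨n, hn⟩ ∈ Subgroup.closure (Set.range fun j => a (seedFin j)) from h i i.2
  intro n
  induction n using Nat.strong_induction_on with
  | _ n ih =>
    intro hn
    rcases lt_or_ge n 7 with h7 | h7
    · exact Subgroup.subset_closure ⟨⟨n, h7⟩, rfl⟩
    · have hk : n - 7 < SliceData.ops13.length := by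
        have : SliceData.ops13.length = 119 := by decide +kernel
        omega
      have h := List.all_eq_true.1 SliceData.mv_reach (n - 7) (List.mem_range.2 hk)
      rcases hop : SliceData.ops13.getD (n - 7) (0, 0, 0) with ⟨m, i, j⟩
      simp only [hop, Bool.and_eq_true, Nat.blt_eq] at h
      obtain ⟨⟨hi, hj⟩, hij⟩ := h
      have e : mvFin ⟨j, hj⟩ ⟨i, by omega⟩ = ⟨n, hn⟩ := Fin.ext (by
        show mv i j = n
        rw [Nat.eq_of_beq_eq_true hij]; omega)
      rw [← e, ← hA]
      exact Subgroup.mul_mem _ (Subgroup.mul_mem _ (Subgroup.subset_closure ⟨_, rfl⟩) (ih i (by omega) (by omega)))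
        (Subgroup.inv_mem _ (Subgroup.subset_closure ⟨_, rfl⟩))

/-- The sum of six squares. -/
noncomputable def sumQ : QuadraticForm (ZMod 3) (Fin 6 → ZMod 3) :=
  QuadraticMap.weightedSumSquares (ZMod 3) (fun _ : Fin 6 => (1 : ZMod 3))

theorem sumQ_apply (v : Fin 6 → ZMod 3) : sumQ v = ∑ k, v k * v k := by
  simp [sumQ, QuadraticMap.weightedSumSquares_apply]

theorem polar_sumQ (u v : Fin 6 → ZMod 3) : QuadraticMap.polar (⇑sumQ) u v = 2 * ∑ k, u k * v k := by
  simp only [QuadraticMap.polar, sumQ_apply, Finset.mul_sum, ← Finset.sum_sub_distrib, Pi.add_apply]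
  exact Finset.sum_congr rfl fun k _ => by ring

theorem sumQ_nondegenerate : (QuadraticMap.polarBilin sumQ).Nondegenerate := by
  have key : ∀ x : Fin 6 → ZMod 3, (∀ y, QuadraticMap.polar (⇑sumQ) x y = 0) → x = 0 := fun x h => by
    funext k
    have e := h (Pi.single k 1)
    rw [polar_sumQ, Finset.sum_eq_single k (fun l _ hl => by rw [Pi.single_eq_of_ne hl, mul_zero])
      (fun hk => absurd (Finset.mem_univ k) hk), Pi.single_eq_same, mul_one] at e
    exact (mul_eq_zero.1 e).resolve_left two_ne_zero_zmod_three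
  exact ⟨fun x h => key x fun y => h y, fun y h => key y fun x => by
    rw [QuadraticMap.polar_comm]; exact h x⟩

theorem polarGramDet_sumQ : polarGramDet (⇑sumQ) = 1 := by
  have e : (Matrix.of fun i j : Fin 6 => QuadraticMap.polar (⇑sumQ) (Pi.single i 1) (Pi.single j 1)) =
      (2 : ZMod 3) • (1 : Matrix (Fin 6) (Fin 6) (ZMod 3)) := by
    ext i j
    rw [Matrix.of_apply, polar_sumQ, Matrix.smul_apply, smul_eq_mul, Matrix.one_apply]
    simp [Pi.single_apply, eq_comm]
  rw [polarGramDet, e, Matrix.det_smul, Matrix.det_one, Fintype.card_fin, mul_one]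
  decide

/-- The vector with a code. -/
def vec3 (c : ℕ) : Fin 6 → ZMod 3 := fun k => (d3 c k : ZMod 3)

theorem sum_vec3 (c d : ℕ) : ∑ k, vec3 c k * vec3 d k = (dot3 c d : ZMod 3) := by
  simp [vec3, dot3, Fin.sum_univ_six, ZMod.natCast_mod]

theorem sumQ_vec3 {c : ℕ} (h : dot3 c c = 1) : sumQ (vec3 c) = 1 := by
  rw [sumQ_apply, sum_vec3, h, Nat.cast_one]

theorem d3_lt (c k : ℕ) : d3 c k < 3 := Nat.mod_lt _ (by norm_num)

theorem vec3_eq_iff {c d : ℕ} : vec3 c = vec3 d ↔ ∀ k < 6, d3 c k = d3 d k := by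
  refine ⟨fun h k hk => ?_, fun h => funext fun k => by rw [vec3, vec3, h k k.2]⟩
  have e := (ZMod.natCast_eq_natCast_iff' _ _ _).1 (congrFun h ⟨k, hk⟩)
  rwa [Nat.mod_eq_of_lt (d3_lt _ _), Nat.mod_eq_of_lt (d3_lt _ _)] at e

theorem vec3_eq_neg_iff {c d : ℕ} : vec3 c = -vec3 d ↔ ∀ k < 6, (d3 c k + d3 d k) % 3 = 0 := by
  have key : ∀ k : Fin 6, vec3 c k = -vec3 d k ↔ (d3 c k + d3 d k) % 3 = 0 := fun k => by
    rw [vec3, vec3, eq_neg_iff_add_eq_zero, ← Nat.cast_add, ZMod.natCast_eq_zero_iff]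
    exact Nat.dvd_iff_mod_eq_zero
  exact ⟨fun h k hk => (key ⟨k, hk⟩).1 (congrFun h _), fun h => funext fun k => (key k).2 (h k k.2)⟩

theorem all_six {p : ℕ → Bool} : (List.range 6).all p = true ↔ ∀ k < 6, p k = true := by
  simp [List.all_eq_true]

/-- The vector at a point. -/
def vecAt (i : Fin 126) : Fin 6 → ZMod 3 := vec3 (vecs3.getD i 0)

theorem sumQ_vecAt (i : Fin 126) : sumQ (vecAt i) = 1 := by
  have h := List.all_eq_true.1 SliceData.vecs_ok.2 i (List.mem_range.2 i.2)
  rw [Bool.and_eq_true] at h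
  exact sumQ_vec3 (Nat.eq_of_beq_eq_true h.1)

/-- The reflection at a point. -/
noncomputable def reflAt (i : Fin 126) : ↥(reflectionSubgroup (⇑sumQ) (1 : ZMod 3)) :=
  classRefl one_ne_zero (vecAt i) (sumQ_vecAt i)

theorem reflAt_injective : Function.Injective reflAt := by
  intro i j h
  by_contra hne
  have hcm : Commute (reflAt i) (reflAt j) := by rw [h]
  rcases (commute_classRefl_iff one_ne_zero (sumQ_vecAt i) (sumQ_vecAt j)).1 hcm with h0 | h0
  · exact classRefl_ne one_ne_zero (sumQ_vecAt i) (sumQ_vecAt j) h0 h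
  have hh := List.all_eq_true.1 SliceData.vecs_ok.2 j (List.mem_range.2 j.2)
  rw [Bool.and_eq_true] at hh
  have h2 := List.all_eq_true.1 hh.2 i (List.mem_range.2 i.2)
  simp only [Bool.or_eq_true, Bool.and_eq_true, Bool.not_eq_true'] at h2
  obtain ⟨n1, n2⟩ := h2.resolve_left fun e => hne (Fin.ext (Nat.eq_of_beq_eq_true e).symm)
  rcases h0 with h0 | h0
  · rw [← Bool.not_eq_true, all_six] at n1
    exact n1 fun k hk => by rw [vec3_eq_iff.1 h0 k hk]; exact Nat.beq_refl _
  · rw [← Bool.not_eq_true, all_six] at n2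
    exact n2 fun k hk => by rw [vec3_eq_neg_iff.1 h0 k hk]; rfl

theorem refl_vecAt (j : Fin 7) (i : Fin 126) :
    refl sumQ (vecAt (seedFin j)) (vecAt i) = vecAt (mvFin j i) ∨
      refl sumQ (vecAt (seedFin j)) (vecAt i) = -vecAt (mvFin j i) := by
  have h := List.all_eq_true.1 (List.all_eq_true.1 SliceData.refl_ok i (List.mem_range.2 i.2)) j
    (List.mem_range.2 j.2)
  simp only [Bool.or_eq_true, all_six] at h
  set u := vecs3.getD j 0 with hu
  set v := vecs3.getD i 0 with hv
  have hcoord : ∀ k : Fin 6, refl sumQ (vecAt (seedFin j)) (vecAt i) k =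
      (((d3 v k + dot3 u v * d3 u k) % 3 : ℕ) : ZMod 3) := by
    intro k
    rw [refl_apply, sumQ_vecAt, inv_one, one_mul, polar_sumQ, Pi.sub_apply, Pi.smul_apply, smul_eq_mul,
      ZMod.natCast_mod]
    show vec3 v k - 2 * (∑ l, vec3 u l * vec3 v l) * vec3 u k = _
    rw [sum_vec3, vec3, vec3, Nat.cast_add, Nat.cast_mul]
    have h3 : (3 : ZMod 3) = 0 := rfl
    linear_combination -((dot3 u v : ZMod 3) * (d3 u k : ZMod 3)) * h3
  rcases h with h | h
  · refine Or.inl (funext fun k => ?_)
    rw [hcoord, Nat.eq_of_beq_eq_true (h k k.2)]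
    rfl
  · refine Or.inr (funext fun k => ?_)
    rw [hcoord, Pi.neg_apply, eq_neg_iff_add_eq_zero]
    show _ + ((d3 (vecs3.getD (mv i j) 0) k : ℕ) : ZMod 3) = 0
    rw [ZMod.natCast_mod, ← Nat.cast_add, ← ZMod.natCast_mod, Nat.eq_of_beq_eq_true (h k k.2), Nat.cast_zero]

theorem reflAt_conj (j : Fin 7) (i : Fin 126) :
    reflAt (seedFin j) * reflAt i * (reflAt (seedFin j))⁻¹ = reflAt (mvFin j i) := by
  have hq : sumQ (refl sumQ (vecAt (seedFin j)) (vecAt i)) = 1 := by
    rw [quad_refl sumQ (by rw [sumQ_vecAt]; exact one_ne_zero), sumQ_vecAt]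
  have e : reflAt (seedFin j) * reflAt i * (reflAt (seedFin j))⁻¹ = classRefl one_ne_zero _ hq := by
    refine Subtype.ext ((conj_reflIso sumQ _ (vecAt i) (by rw [sumQ_vecAt]; exact one_ne_zero)).trans ?_)
    exact mat_ext sumQ (congrArg (reflectionMatrix (⇑sumQ)) (reflectionMatrix_mulVec sumQ _ _))
  rw [e]
  exact classRefl_eq_of_polar_ne one_ne_zero (sumQ_vecAt _) hq (refl_vecAt j i)

theorem reflAt_generate : Subgroup.closure (Set.range reflAt) = ⊤ := by
  refine (Subgroup.map_injective (reflectionSubgroup (⇑sumQ) (1 : ZMod 3)).subtype_injective) ?_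
  rw [MonoidHom.map_closure, ← MonoidHom.range_eq_map, Subgroup.range_subtype]
  refine congrArg Subgroup.closure (Set.Subset.antisymm ?_ ?_)
  · rintro _ ⟨_, ⟨i, rfl⟩, rfl⟩
    exact reflIso_mem one_ne_zero (sumQ_vecAt i)
  intro g hg
  obtain ⟨v, hv, rfl⟩ := exists_eq_reflIso one_ne_zero hg
  -- the code of the vector
  obtain ⟨c, hc, rfl⟩ : ∃ c < 729, vec3 c = v := by
    refine ⟨∑ k : Fin 6, (v k).val * 3 ^ (k : ℕ), ?_, ?_⟩
    · have := fun k => ZMod.val_lt (v k)
      simp only [Fin.sum_univ_six]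
      have h0 := this 0; have h1 := this 1; have h2 := this 2
      have h3 := this 3; have h4 := this 4; have h5 := this 5
      norm_num
      omega
    · funext k
      have := fun k => ZMod.val_lt (v k)
      have h0 := this 0; have h1 := this 1; have h2 := this 2
      have h3 := this 3; have h4 := this 4; have h5 := this 5
      rw [vec3, ← ZMod.natCast_zmod_val (v k)]
      congr 1
      simp only [d3, Fin.sum_univ_six]
      fin_cases k <;> simp only [Fin.zero_eta, Fin.mk_one, Fin.reduceFinMk] <;> norm_num <;> omega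
  have hd : dot3 c c = 1 := by
    have e : ((dot3 c c : ℕ) : ZMod 3) = ((1 : ℕ) : ZMod 3) := by
      rw [← sum_vec3, ← sumQ_apply, hv, Nat.cast_one]
    have := (ZMod.natCast_eq_natCast_iff' _ _ _).1 e
    rwa [Nat.mod_eq_of_lt (show dot3 c c < 3 from Nat.mod_lt _ (by norm_num))] at this
  have h := List.all_eq_true.1 SliceData.vecs_cover c (List.mem_range.2 hc)
  simp only [hd, Bool.or_eq_true, List.any_eq_true, all_six] at h
  obtain ⟨w, hw, hw'⟩ := h.resolve_left (by decide)
  obtain ⟨i, hi, rfl⟩ := List.getElem_of_mem hw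
  have hi' : i < 126 := SliceData.vecs_ok.1 ▸ hi
  refine ⟨reflAt ⟨i, hi'⟩, ⟨_, rfl⟩, ?_⟩
  refine congrArg Subtype.val (classRefl_eq_of_polar_ne one_ne_zero hv (sumQ_vecAt ⟨i, hi'⟩) ?_)
  have hval : vecAt ⟨i, hi'⟩ = vec3 vecs3[i] := congrArg vec3 (List.getD_eq_getElem vecs3 0 hi)
  rcases hw' with hw' | hw'
  · exact Or.inl (hval.trans (vec3_eq_iff.2 fun k hk => (Nat.eq_of_beq_eq_true (hw' k hk)).symm))
  · exact Or.inr (hval.trans (vec3_eq_neg_iff.2 fun k hk => by
      rw [add_comm]; exact Nat.eq_of_beq_eq_true (hw' k hk)))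

variable {G : Type*} [Group G] {D : Set G}

/-- Modulo centres, the common neighbours generate the reflection group. -/
theorem isProjRefl_of_sliceRep (hD : Geom22 D) {x v : G} {M : UModel (nbr D v)} (Φ : SliceRep D x v M) :
    IsProjReflectionGroupModThree (↥(Subgroup.closure (nbr D x ∩ nbr D v)) ⧸
      Subgroup.center ↥(Subgroup.closure (nbr D x ∩ nbr D v))) 6 1 1 := by
  have hlen := SliceData.pts_props.1
  have hmem : ∀ i : Fin 126, pts126.getD i 0 ∈ pts126 := fun i => by
    rw [List.getD_eq_getElem _ _ (hlen.symm ▸ i.2)]; exact List.getElem_mem _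
  have hS : ∀ i : Fin 126, Φ.φ (pts126.getD i 0) ∈ nbr D x ∩ nbr D v := fun i =>
    ⟨(Φ.mem _ (hmem i)).1, (Φ.mem _ (hmem i)).2.1⟩
  let a : Fin 126 → ↥(Subgroup.closure (nbr D x ∩ nbr D v)) := fun i =>
    ⟨Φ.φ (pts126.getD i 0), Subgroup.subset_closure (hS i)⟩
  have hinj : Function.Injective a := by
    intro i j h
    have e := Φ.R.at_unique (by norm_num) (Φ.mem _ (hmem i)).2
      (by rw [show Φ.φ (pts126.getD i 0) = Φ.φ (pts126.getD j 0) from congrArg Subtype.val h]
          exact (Φ.mem _ (hmem j)).2)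
    rw [List.getD_eq_getElem _ _ (hlen.symm ▸ i.2), List.getD_eq_getElem _ _ (hlen.symm ▸ j.2)] at e
    exact Fin.ext ((SliceData.pts_props.2.1.getElem_inj_iff).1 e)
  have hA : ∀ j i, a (seedFin j) * a i * (a (seedFin j))⁻¹ = a (mvFin j i) := by
    intro j i
    apply Subtype.ext
    show Φ.φ _ * Φ.φ _ * (Φ.φ _)⁻¹ = Φ.φ _
    rw [inv_eq_of_mul_eq_one_right (hD.inv _ (hS (seedFin j)).1.1)]
    refine Φ.R.at_inj ?_ (Φ.mem _ (hmem (mvFin j i))).2
    rw [mv_val]
    exact Φ.R.at_conj (by norm_num) (Φ.mem _ (hmem i)).2 (Φ.mem _ (hmem (seedFin j))).2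
  have hgen : Subgroup.closure (Set.range a) = ⊤ := by
    refine (Subgroup.map_injective (Subgroup.closure (nbr D x ∩ nbr D v)).subtype_injective) ?_
    rw [MonoidHom.map_closure, ← MonoidHom.range_eq_map, Subgroup.range_subtype]
    refine congrArg Subgroup.closure (Set.Subset.antisymm ?_ ?_)
    · rintro _ ⟨_, ⟨i, rfl⟩, rfl⟩
      exact hS i
    · intro z hz
      obtain ⟨c, hc, rfl⟩ := Φ.surj z hz.1 hz.2
      obtain ⟨k, hk, rfl⟩ := List.getElem_of_mem hc
      exact ⟨a ⟨k, hlen ▸ hk⟩, ⟨_, rfl⟩, congrArg Φ.φ (List.getD_eq_getElem _ _ hk)⟩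
  obtain ⟨e⟩ := exists_equiv_mod_center a reflAt hinj reflAt_injective seedFin mvFin hA reflAt_conj
    (gen_of_moves a hA hgen) (gen_of_moves reflAt reflAt_conj reflAt_generate)
  exact ⟨sumQ, sumQ_nondegenerate, polarGramDet_sumQ, ⟨e⟩⟩

end CfsgLib.SporFischer
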