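import Cfsg.Prelude.Def_FischerSpaces

/-!
# Transporting generated subgroups and their quotients by the centre
-/

set_option autoImplicit false

namespace CfsgLib.SporFischer

variable {X G : Type*} [Group X] [Group G]

/-- An injective homomorphism identifies generated subgroups. -/
noncomputable def closureEquiv (f : X →* G) (hf : Function.Injective f) (A : Set X) :
    ↥(Subgroup.closure A) ≃* ↥(Subgroup.closure (f '' A)) :=
  ((Subgroup.closure A).equivMapOfInjective f hf).trans (MulEquiv.subgroupCongr (MonoidHom.map_closure f A))

theorem closureEquiv_val (f : X →* G) (hf : Function.Injective f) (A : Set X) (x : ↥(Subgroup.closure A)) :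
    (closureEquiv f hf A x : G) = f x := rfl

/-- An isomorphism maps the centre onto the centre. -/
theorem map_center_equiv (e : X ≃* G) : (Subgroup.center X).map e.toMonoidHom = Subgroup.center G := by
  ext y
  constructor
  · rintro ⟨x, hx, rfl⟩
    exact Subgroup.mem_center_iff.2 fun z => e.symm.injective (by
      simp [Subgroup.mem_center_iff.1 hx (e.symm z)])
  · intro hy
    exact ⟨e.symm y, Subgroup.mem_center_iff.2 fun z => e.injective (by
      simp [Subgroup.mem_center_iff.1 hy (e z)]), e.apply_symm_apply y⟩

/-- An isomorphism of the quotients by the centres. -/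
noncomputable def centerQuotEquiv (e : X ≃* G) : X ⧸ Subgroup.center X ≃* G ⧸ Subgroup.center G :=
  QuotientGroup.congr _ _ e (map_center_equiv e)

theorem centerQuotEquiv_mk (e : X ≃* G) (x : X) :
    centerQuotEquiv e (QuotientGroup.mk x) = QuotientGroup.mk (e x) := rfl

/-- An equality of subgroups. -/
noncomputable def centerQuotOfEq {A B : Subgroup G} (h : A = B) :
    ↥A ⧸ Subgroup.center ↥A ≃* ↥B ⧸ Subgroup.center ↥B :=
  centerQuotEquiv (MulEquiv.subgroupCongr h)

end CfsgLib.SporFischer
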