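import Cfsg.Agent.SporFischer.LocalM22
import Cfsg.Agent.SporFischer.Transfer
import Cfsg.Agent.SporFischer.SliceReflect
import Cfsg.Agent.FischerTypes.InvolutionClasses
import Cfsg.Agent.FischerTypes.M22Connected
import Cfsg.Agent.FischerTypes.PSU62

/-!
# A group with an involution whose centralizer is a double cover of `PSU₆(2)` is of type M(22)
-/

set_option autoImplicit false
set_option linter.unusedSectionVars false
set_option linter.style.haveILetI false

namespace CfsgLib.SporFischer

open Cfsg CfsgLib.FischerTypes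

universe u v

variable {G : Type u} [Group G] {d : G}

/-- Neighbourhoods seen from a group mapped onto the component. -/
theorem image_nbr (L : Local d) {X : Type v} [Group X] (f : X →* G) (hf : Function.Injective f) (E : Set X)
    (hE : f '' E = compSet d) {a : X} (ha : a ∈ E) :
    f '' {y | y ∈ E ∧ y ≠ a ∧ Commute a y} = nbr (conjugatesOf d) (f a) := by
  have hfa : f a ∈ compSet d := hE ▸ Set.mem_image_of_mem f ha
  ext z
  constructor
  · rintro ⟨y, ⟨hy, hne, hc⟩, rfl⟩
    exact ⟨(hE ▸ Set.mem_image_of_mem f hy : f y ∈ compSet d).1, fun h => hne (hf h), hc.map f⟩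
  · intro hz
    obtain ⟨y, hy, rfl⟩ : z ∈ f '' E := hE ▸ L.nbr_sub hfa hz
    exact ⟨y, ⟨hy, fun h => hz.2.1 (h ▸ rfl), hf (by rw [map_mul, map_mul]; exact hz.2.2.eq)⟩, rfl⟩

/-- Type M(22) from the centralizer and the common neighbours. -/
theorem isOfTypeM22_of_component (L : Local d) (hG : Geom22 (conjugatesOf d))
    [((Subgroup.zpowers d).subgroupOf (Subgroup.centralizer ({d} : Set G))).Normal]
    (F : Type) [Field F] [Fintype F] (hF : Fintype.card F = 4)
    (e : ↥(Subgroup.centralizer ({d} : Set G)) ⧸ (Subgroup.zpowers d).subgroupOf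
      (Subgroup.centralizer ({d} : Set G)) ≃* Cfsg.PSU 6 F 2)
    {X : Type v} [Group X] (f : X →* G) (hf : Function.Injective f) (E : Set X) (hE : f '' E = compSet d)
    (hZ : Subgroup.center X = ⊥) : IsOfTypeM22 X E := by
  obtain ⟨c, hc, hdc⟩ := L.exists_noncommuting
  obtain ⟨d', hd', hfd⟩ : d ∈ f '' E := hE ▸ L.mem_d
  obtain ⟨c', hc', hfc⟩ : c ∈ f '' E := hE ▸ hc
  refine ⟨hZ, d', hd', c', hc', fun h => hdc (hfd ▸ hfc ▸ h.map f), ?_, 1, one_ne_zero, ?_⟩
  · refine ⟨F, inferInstance, inferInstance, hF, ⟨?_⟩⟩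
    have h1 : f '' {y | y ∈ E ∧ y ≠ d' ∧ Commute d' y} = nbr (conjugatesOf d) d := by
      rw [image_nbr L f hf E hE hd', hfd]
    have h2 : Subgroup.closure (f '' {y | y ∈ E ∧ y ≠ d' ∧ Commute d' y}) =
        Subgroup.centralizer ({d} : Set G) := by rw [h1, L.gen]
    have hcen : Subgroup.center ↥(Subgroup.centralizer ({d} : Set G)) =
        (Subgroup.zpowers d).subgroupOf (Subgroup.centralizer ({d} : Set G)) := by
      ext z
      rw [Subgroup.mem_center_iff, Subgroup.mem_subgroupOf]
      constructor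
      · intro h
        rcases L.zc z z.2 fun g hg => (congrArg Subtype.val (h ⟨g, hg⟩)).symm with e | e
        · rw [e]; exact one_mem _
        · rw [e]; exact Subgroup.mem_zpowers d
      · intro h g
        obtain ⟨k, hk⟩ := Subgroup.mem_zpowers_iff.1 h
        refine Subtype.ext ?_
        show (g : G) * z = z * g
        rw [← hk]
        exact ((show Commute (g : G) d from Subgroup.mem_centralizer_singleton_iff.1 g.2).zpow_right k).eq
    exact ((centerQuotEquiv (closureEquiv f hf _)).trans (centerQuotOfEq h2)).trans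
      ((QuotientGroup.quotientMulEquivOfEq hcen).trans e)
  · obtain ⟨-, h | ⟨u, hu1, hu2⟩⟩ := L.mem_ball_of_mem L.mem_d hc
    · exact absurd h hdc
    obtain ⟨U⟩ := hG.model c hc.1
    obtain ⟨Φ⟩ := hG.exists_sliceRep hu1.1 (nbr_symm (IsConj.refl d) hu1) (nbr_symm hc.1 hu2) hdc U
    have h1 : f '' ({y | y ∈ E ∧ y ≠ d' ∧ Commute d' y} ∩ {y | y ∈ E ∧ y ≠ c' ∧ Commute c' y}) =
        nbr (conjugatesOf d) d ∩ nbr (conjugatesOf d) c := by
      rw [Set.image_inter hf, image_nbr L f hf E hE hd', image_nbr L f hf E hE hc', hfd, hfc]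
    obtain ⟨Q, hQ1, hQ2, ⟨φ⟩⟩ := isProjRefl_of_sliceRep hG Φ
    exact ⟨Q, hQ1, hQ2, ⟨((centerQuotEquiv (closureEquiv f hf _)).trans
      (centerQuotOfEq (congrArg Subgroup.closure h1))).trans φ⟩⟩

namespace U62Data

/-- The conjugates form a class of 3-transpositions, of type M(22). -/
theorem conclusion [Finite G] (M : U62Data G d) (hd : orderOf d = 2)
    (hqs : IsQuasisimple ↥(Subgroup.centralizer ({d} : Set G)))
    [((Subgroup.zpowers d).subgroupOf (Subgroup.centralizer ({d} : Set G))).Normal]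
    (F : Type) [Field F] [Fintype F] (hF : Fintype.card F = 4)
    (e : ↥(Subgroup.centralizer ({d} : Set G)) ⧸ (Subgroup.zpowers d).subgroupOf
      (Subgroup.centralizer ({d} : Set G)) ≃* Cfsg.PSU 6 F 2) :
    IsThreeTranspositionClass (conjugatesOf d) ∧ IsOfTypeM22 G (conjugatesOf d) := by
  have hd2 : d * d = 1 := by rw [← pow_two, ← hd, pow_orderOf_eq_one]
  have hd1 : d ≠ 1 := fun h1 => by rw [h1, orderOf_one] at hd; omega
  set C := Subgroup.centralizer ({d} : Set G) with hC
  set Z := (Subgroup.zpowers d).subgroupOf C with hZdef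
  have hker : ∀ z : ↥C, (e.toMonoidHom.comp (QuotientGroup.mk' Z)) z = 1 ↔ (z : G) = 1 ∨ (z : G) = d := by
    intro z
    show e (QuotientGroup.mk' Z z) = 1 ↔ _
    rw [map_eq_one_iff e e.injective, QuotientGroup.mk'_apply, QuotientGroup.eq_one_iff, hZdef,
      Subgroup.mem_subgroupOf]
    constructor
    · intro hz
      obtain ⟨n, hn⟩ := Subgroup.mem_zpowers_iff.1 hz
      rcases Int.even_or_odd' n with ⟨k, rfl | rfl⟩
      · exact Or.inl (by rw [← hn, zpow_mul, zpow_two, hd2, one_zpow])
      · exact Or.inr (by rw [← hn, zpow_add, zpow_mul, zpow_two, hd2, one_zpow, one_mul, zpow_one])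
    · rintro (h | h) <;> rw [h]
      exacts [one_mem _, Subgroup.mem_zpowers d]
  have hπ : Function.Surjective (e.toMonoidHom.comp (QuotientGroup.mk' Z)) :=
    e.surjective.comp (QuotientGroup.mk'_surjective Z)
  haveI : IsSimpleGroup (Cfsg.PSU 6 F 2) := (psu62Facts F hF).1
  have hzc := zc_of_ker (e.toMonoidHom.comp (QuotientGroup.mk' Z)) hπ hker
    (center_eq_bot_of_cover _ hπ hqs.1.commutator_eq_top)
  have L := M.isLocal hd2 hd1 hqs hzc
  have hG := M.geom22 hd2
  -- the component
  set H := compGroup d with hH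
  have hE : H.subtype '' compClass d = compSet d := by
    ext x
    exact ⟨fun ⟨y, hy, h⟩ => h ▸ hy, fun hx => ⟨⟨x, Subgroup.subset_closure hx⟩, hx, rfl⟩⟩
  have h22 := isOfTypeM22_of_component L hG F hF e H.subtype H.subtype_injective _ hE L.center_eq
  have hgrp := L.group
  have hp := isPrimitive_of_M22 hgrp h22
  have hcl := involution_classes22 hgrp hp h22
  have hpu := pairUnique hgrp.1 (noTwins_of_primitive hgrp h22.1 hp)
  have hclq : ∀ N : Set ↥(compGroup d), IsMaxClique (compClass d) N → N.ncard = 22 := by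
    intro N hN
    obtain ⟨m, hm⟩ : ∃ m, m ∈ N := by
      by_contra hno
      push Not at hno
      exact hno _ (hN.max ⟨d, Subgroup.subset_closure L.mem_d⟩ L.mem_d fun m hm => absurd hm (hno m))
    exact (ncard_clique hgrp h22 hN hm).2
  have S := L.comp hcl hpu hclq (fun b hb P => M.no_odd hd2 b hb P) (Or.inl (by decide))
  have h3 := L.isThreeTranspositionClass S
  refine ⟨h3, isOfTypeM22_of_component L hG F hF e (MonoidHom.id G) Function.injective_id _ ?_ ?_⟩
  · rw [MonoidHom.coe_id, Set.image_id]; exact S.eq_class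
  · rw [Subgroup.eq_bot_iff_forall]
    intro z hz
    have hzH : z ∈ H := by rw [hH, S.eq_top]; exact Subgroup.mem_top z
    have h1 : (⟨z, hzH⟩ : ↥H) ∈ Subgroup.center ↥H :=
      Subgroup.mem_center_iff.2 fun g => Subtype.ext (Subgroup.mem_center_iff.1 hz g)
    rw [L.center_eq, Subgroup.mem_bot] at h1
    exact congrArg Subtype.val h1

end U62Data

end CfsgLib.SporFischer
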