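import Cfsg.Agent.U62Pencil.Decide

/-!
# The conjugates of the involution in the elementary abelian subgroup: one further orbit

In each of the three cases a pattern of 22 codes is the centre and one orbit of 21, no two of which differ by
the centre, and this orbit lies over the transvections at the points of the plane.
-/

set_option autoImplicit false
set_option maxRecDepth 100000

namespace CfsgLib.SporFischer

open CfsgLib.U62Pencil

/-- A pattern of 22 codes is the centre and one orbit over the transvections. -/
def okLift (T : Case) : Bool :=
  (List.range 32).all fun ch => !Nat.beq (T.size ch) 22 || [2, 6].any fun l =>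
    ((List.range 1024).all fun c => T.pat ch c == (Nat.beq (T.lab c) 1 || Nat.beq (T.lab c) l) &&
      (!Nat.beq (T.lab c) 1 || Nat.beq c 512) &&
      (!Nat.beq (T.lab c) l || (!Nat.beq (T.lab (Nat.xor c 512)) l && !Nat.beq c 512))) &&
    (List.range 64).any fun j => !Nat.beq (plane.getD j 0) 0 &&
      Nat.blt (ap (prj T.k) (planeTv.getD j 0)) 1024 &&
      (Nat.beq (T.lab (ap (prj T.k) (planeTv.getD j 0))) l ||
        Nat.beq (T.lab (Nat.xor (ap (prj T.k) (planeTv.getD j 0)) 512)) l)

theorem okLift_one : okLift case1 = true := by decide +kernel
theorem okLift_two : okLift case2 = true := by decide +kernel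
theorem okLift_three : okLift case3 = true := by decide +kernel

end CfsgLib.SporFischer
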