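import Cfsg.Agent.SporFischer.Lifts
import Cfsg.Agent.SporFischer.LiftsData
import Cfsg.Agent.U62Pencil.Fusion
import Cfsg.Agent.FormTranspositions.Unitary
import Cfsg.Prelude.Def_Classical

/-!
# The conjugates of an involution with centralizer a double cover of `PSU₆(2)` that commute with it

They are the involution itself and one member over each transvection.
-/

set_option autoImplicit false
set_option linter.unusedSectionVars false
set_option maxRecDepth 100000

namespace CfsgLib.SporFischer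

open CfsgLib.RepBounds.Unit CfsgLib.USixMult
open CfsgLib.U62Pencil (Setup Case selfC el10 elG ap prj plane planeTv gl wa)
open CfsgLib.Schur.Pc (ev)

universe u

/-- The neighbours of `d` over the transvections of `PSU₆(2)`. -/
structure U62Data (G : Type u) [Group G] (d : G) where
  /-- the field of four elements -/
  K : Type
  [instField : Field K]
  [instFintype : Fintype K]
  /-- its involution -/
  C : ConjField K
  hq : C.q = 2
  /-- the quotient -/
  S : Type
  [instGroup : Group S]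
  /-- the map onto it -/
  θ : suG C U62.I6 →* S
  surj : Function.Surjective θ
  hker : θ.ker = Subgroup.center (suG C U62.I6)
  /-- the lifts -/
  L : Lifts (conjugatesOf d) d S {e | ∃ v, herm C v v = 0 ∧ v ≠ 0 ∧ e = θ (U62.tv C v)}

attribute [instance] U62Data.instField U62Data.instFintype U62Data.instGroup

namespace U62Data

variable {G : Type u} [Group G] {d : G} (M : U62Data G d)
include M

theorem exists_uModel (hinv : ∀ x ∈ conjugatesOf d, x * x = 1)
    (hcl : ∀ x ∈ conjugatesOf d, ∀ y ∈ conjugatesOf d, y * x * y ∈ conjugatesOf d) :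
    Nonempty (UModel (nbr (conjugatesOf d) d)) :=
  M.L.exists_uModel hinv hcl M.C M.hq M.θ M.hker fun _ => Iff.rfl

theorem braid (hinv : ∀ x ∈ conjugatesOf d, x * x = 1)
    (hcl : ∀ x ∈ conjugatesOf d, ∀ y ∈ conjugatesOf d, y * x * y ∈ conjugatesOf d) {x y : G}
    (hx : x ∈ nbr (conjugatesOf d) d) (hy : y ∈ nbr (conjugatesOf d) d) (hxy : ¬ Commute x y) :
    x * y * x = y * x * y := by
  refine M.L.braid hinv hcl ?_ hx hy hxy
  rintro a ⟨v, hv, -, rfl⟩ b ⟨w, hw, -, rfl⟩ hne
  have hv2 := U62.tv_mul_self M.C M.hq hv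
  have hw2 := U62.tv_mul_self M.C M.hq hw
  rcases FormTranspositions.transv_sq_or_cube M.C M.hq (U62.isTransv_tv M.C M.hq hv)
      (U62.isTransv_tv M.C M.hq hw) hv hw with h | h
  · refine absurd (Commute.map (show Commute (U62.tv M.C v) (U62.tv M.C w) from ?_) M.θ) hne
    rw [pow_two, mul_eq_one_iff_eq_inv, _root_.mul_inv_rev, inv_eq_of_mul_eq_one_right hv2,
      inv_eq_of_mul_eq_one_right hw2] at h
    exact h
  · rw [← map_mul, ← map_mul, ← map_mul, ← map_mul]
    congr 1
    rw [pow_succ, pow_two] at h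
    calc U62.tv M.C v * U62.tv M.C w * U62.tv M.C v
        = U62.tv M.C v * U62.tv M.C w * U62.tv M.C v * (U62.tv M.C w * (U62.tv M.C v *
            (U62.tv M.C w * U62.tv M.C w) * U62.tv M.C v) * U62.tv M.C w) := by
          rw [hw2, mul_one, hv2, mul_one, hw2, mul_one]
      _ = (U62.tv M.C v * U62.tv M.C w * (U62.tv M.C v * U62.tv M.C w) * (U62.tv M.C v * U62.tv M.C w)) *
            (U62.tv M.C w * U62.tv M.C v * U62.tv M.C w) := by simp only [mul_assoc]
      _ = _ := by rw [h, one_mul]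

end U62Data

variable {G : Type u} [Group G] [Finite G] {d : G}

/-- The lifts, from the coordinates of the centralizer. -/
theorem exists_u62Data_of_setup {F : Type} [Field F] [Fintype F] {X : Ctx F}
    {q : X.cover →* ↥(Subgroup.centralizer ({d} : Set G))} {T : Case} (H : Setup X (selfC d) q T)
    (hT : T = U62Pencil.case1 ∨ T = U62Pencil.case2 ∨ T = U62Pencil.case3)
    (hnwc : ∃ g : G, g * d * g⁻¹ ∈ Subgroup.centralizer ({d} : Set G) ∧ g * d * g⁻¹ ≠ d) :
    Nonempty (U62Data G d) := by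
  classical
  have hok : okLift T = true := by
    rcases hT with rfl | rfl | rfl
    exacts [okLift_one, okLift_two, okLift_three]
  obtain ⟨ch, hch, hpat⟩ := H.exists_pat
  have hsize : T.size ch = 22 := by
    rw [← H.ncard_eq hnwc]
    have himg : H.omega = ↑(((Finset.range 1024).filter fun c => T.pat ch c = true).image (elG q)) := by
      ext g
      simp only [Finset.coe_image, Finset.coe_filter, Finset.mem_range, Set.mem_image, Set.mem_ofPred_eq]
      constructor
      · intro hg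
        obtain ⟨c, hc, rfl⟩ := H.mem_AG.1 hg.1
        exact ⟨c, ⟨hc, (hpat c hc).1 hg⟩, rfl⟩
      · rintro ⟨c, ⟨hc, h⟩, rfl⟩; exact (hpat c hc).2 h
    rw [himg, Set.ncard_coe_finset, Finset.card_image_of_injOn (fun x hx y hy =>
      H.elG_inj (Finset.mem_range.1 (Finset.mem_filter.1 hx).1) (Finset.mem_range.1 (Finset.mem_filter.1 hy).1)),
      Case.size, List.countP_eq_length_filter]
    show _ = ((List.range 1024).filter fun c => decide (T.pat ch c = true)).length
    simp
  simp only [okLift, List.all_eq_true, List.mem_range, Bool.or_eq_true, Bool.not_eq_true', List.any_eq_true,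
    Bool.and_eq_true, Nat.blt_eq, beq_iff_eq] at hok
  obtain ⟨l, -, horb, j, hj, ⟨hpl, halt⟩, hlab⟩ := (hok ch hch).resolve_left (by rw [hsize]; decide)
  set n := ap (prj T.k) (planeTv.getD j 0) with hn
  obtain ⟨c0, hc0, hc0l, hc0π⟩ : ∃ c0 < 1024, T.lab c0 = l ∧ (c0 = n ∨ c0 = Nat.xor n 512) := by
    rcases hlab with h | h
    · exact ⟨n, halt, Nat.eq_of_beq_eq_true h, Or.inl rfl⟩
    · exact ⟨_, Nat.xor_lt_two_pow (n := 10) halt (by norm_num), Nat.eq_of_beq_eq_true h, Or.inr rfl⟩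
  have hlab0 : ∀ c < 1024, T.pat ch c = true → (c = 512 ∨ T.lab c = l) := fun c hc h => by
    obtain ⟨⟨h1, h2⟩, -⟩ := horb c hc
    rw [h1, Bool.or_eq_true] at h
    rcases h with h | h
    · refine Or.inl (Nat.eq_of_beq_eq_true (h2.resolve_left ?_))
      rw [h]; simp
    · exact Or.inr (Nat.eq_of_beq_eq_true h)
  have hlpat : ∀ c < 1024, T.lab c = l → T.pat ch c = true ∧ T.lab (Nat.xor c 512) ≠ l ∧ c ≠ 512 := by
    intro c hc h
    obtain ⟨⟨h1, -⟩, h3⟩ := horb c hc
    obtain ⟨h4, h5⟩ := h3.resolve_left (by rw [h, Nat.beq_refl]; simp)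
    refine ⟨by rw [h1, h, Nat.beq_refl, Bool.or_true], fun e => ?_, fun e => ?_⟩
    · rw [e, Nat.beq_refl] at h4; simp at h4
    · rw [e] at h5; simp at h5
  have hd2 : d * d = 1 := congrArg Subtype.val H.sq
  -- conjugate in the centralizer to the representative
  have hrep : ∀ c < 1024, IsConj (el10 q (selfC d) (T.reps.getD (T.lab c) 0)) (el10 q (selfC d) c) := by
    have hf := H.ok.forest
    simp only [Case.okForest, Bool.and_eq_true, Mathieu.allBelow_iff, List.all_eq_true, Bool.or_eq_true,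
      Nat.blt_eq] at hf
    obtain ⟨-, hstep⟩ := hf
    have step : ∀ c < 1024, T.stp c < 1024 ∧ IsConj (el10 q (selfC d) (T.stp c)) (el10 q (selfC d) c) := by
      intro c hc
      obtain ⟨⟨-, hg⟩, -⟩ := hstep c hc
      unfold Case.stp
      rcases hg with hg | ⟨hg9, hg⟩
      · rw [hg, cond_true]; exact ⟨hc, IsConj.refl _⟩
      cases hbq : Nat.beq (T.gen c) 9
      · rw [cond_false]
        refine ⟨Nat.lt_succ_of_le (show Nat.shiftRight T.forest _ &&& 1023 ≤ 1023 from Nat.and_le_right), ?_⟩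
        refine isConj_iff.2 ⟨_, (H.conj_gl hg9 (T.par c)).trans ?_⟩
        rw [Nat.eq_of_beq_eq_true hg]
      · rw [cond_true]; exact ⟨hc, IsConj.refl _⟩
    intro c hc
    obtain ⟨⟨-, -⟩, hroot⟩ := hstep c hc
    obtain ⟨l1, e1⟩ := step c hc
    obtain ⟨l2, e2⟩ := step _ l1
    obtain ⟨l3, e3⟩ := step _ l2
    obtain ⟨l4, e4⟩ := step _ l3
    obtain ⟨l5, e5⟩ := step _ l4
    obtain ⟨l6, e6⟩ := step _ l5
    obtain ⟨l7, e7⟩ := step _ l6
    obtain ⟨-, e8⟩ := step _ l7
    rw [← Nat.eq_of_beq_eq_true hroot]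
    exact ((((((e8.trans e7).trans e6).trans e5).trans e4).trans e3).trans e2).trans e1
  -- the quotient
  let S := ↥(suG X.C (Fin 6)) ⧸ Subgroup.center (suG X.C (Fin 6))
  let nb : X.cover →* S := (QuotientGroup.mk' _).comp X.nat
  have hle : q.ker ≤ nb.ker := fun c hc => by
    rw [MonoidHom.mem_ker, MonoidHom.comp_apply, QuotientGroup.mk'_apply, QuotientGroup.eq_one_iff]
    exact (H.ker c).1 (Or.inl hc)
  set π : ↥(Subgroup.centralizer ({d} : Set G)) →* S := q.liftOfSurjective H.surj ⟨nb, hle⟩ with hπ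
  have hπq : ∀ c, π (q c) = QuotientGroup.mk' _ (X.nat c) := fun c =>
    q.liftOfRightInverse_comp_apply _ (Function.rightInverse_surjInv H.surj) ⟨nb, hle⟩ c
  have hker : ∀ z, π z = 1 ↔ (z : G) = 1 ∨ (z : G) = d := by
    intro z
    obtain ⟨c, rfl⟩ := H.surj z
    rw [hπq, QuotientGroup.mk'_apply, QuotientGroup.eq_one_iff, ← H.ker c]
    refine or_congr ⟨fun h => by rw [h]; rfl, fun h => Subtype.ext h⟩ ⟨fun h => ?_, fun h => Subtype.ext h⟩
    rw [h]; rfl
  have hπd : π (selfC d) = 1 := (hker _).2 (Or.inr rfl)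
  -- the transvection
  let e6 : U62.I6 ≃ Fin 6 := ((Equiv.refl (Fin 2)).sumCongr finSumFinEquiv).trans finSumFinEquiv
  let θ : suG X.C U62.I6 →* S := (QuotientGroup.mk' _).comp (U62.reindexEquiv X.C e6).toMonoidHom
  have hθs : Function.Surjective θ := (QuotientGroup.mk'_surjective _).comp (MulEquiv.surjective _)
  have hθk : θ.ker = Subgroup.center (suG X.C U62.I6) := by
    ext x
    rw [MonoidHom.mem_ker, MonoidHom.comp_apply, QuotientGroup.mk'_apply, QuotientGroup.eq_one_iff,
      Subgroup.mem_center_iff, Subgroup.mem_center_iff]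
    exact ⟨fun h g => (U62.reindexEquiv X.C e6).injective (by rw [map_mul, map_mul]; exact h _), fun h g => by
      obtain ⟨g, rfl⟩ := (U62.reindexEquiv X.C e6).surjective g
      show U62.reindexEquiv X.C e6 g * U62.reindexEquiv X.C e6 x = U62.reindexEquiv X.C e6 x * _
      rw [← map_mul, h g, map_mul]⟩
  obtain ⟨v0, hv0, hv00, hv0π⟩ : ∃ v, herm X.C v v = 0 ∧ v ≠ 0 ∧ π (el10 q (selfC d) c0) = θ (U62.tv X.C v) := by
    have hpl' := U62Pencil.okPlane_true
    simp only [U62Pencil.okPlane, Bool.and_eq_true, List.all_eq_true, List.mem_range, Mathieu.allBelow_iff,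
      Nat.blt_eq] at hpl'
    obtain ⟨⟨⟨⟨hlen, hvec⟩, -⟩, -⟩, htv⟩ := hpl'
    set p := plane.getD j 0 with hp
    have hmem : p ∈ plane := by
      rw [hp, List.getD_eq_getElem _ _ (by rw [Nat.eq_of_beq_eq_true hlen]; exact hj)]
      exact List.getElem_mem _
    obtain ⟨⟨hp4, hpiso⟩, -⟩ := hvec p hmem
    have hpiso' := Nat.eq_of_beq_eq_true hpiso
    have hnat : X.nat (ev X.el (wa (planeTv.getD j 0))) = X.T p := X.ext_bas fun i hi => by
      rw [X.nat_ev, (X.app_wmap _ (bas_lt hi)).1, X.app_T hp4 hpiso', ← state_getD _ hi,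
        Nat.eq_of_beq_eq_true ((htv j hj).2 i hi)]
    have hdec : X.dec p ≠ 0 := fun h0 => by
      rw [← X.dec_zero] at h0
      rw [X.dec_injective hp4 (by norm_num) h0, Nat.beq_refl] at hpl
      simp at hpl
    have hiso := X.herm_iso hpiso'
    refine ⟨X.dec p ∘ e6, ?_, fun h0 => hdec ?_, ?_⟩
    · rw [← hiso]
      exact Equiv.sum_comp e6 fun i => X.dec p i * X.C.σ (X.dec p i)
    · funext i
      simpa using congrFun h0 (e6.symm i)
    · have h1 : π (el10 q (selfC d) c0) = π (el10 q (selfC d) n) := by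
        rcases hc0π with h | h <;> rw [h]
        rw [← H.el10_mul, map_mul, H.el10_d, hπd, mul_one]
      have hiso6 : herm X.C (X.dec p ∘ e6) (X.dec p ∘ e6) = 0 := by
        rw [← hiso]
        exact Equiv.sum_comp e6 fun i => X.dec p i * X.C.σ (X.dec p i)
      rw [h1, hn, ← H.q_wa, hπq, hnat, MonoidHom.comp_apply]
      congr 1
      have ht := IsTransv.reindexHom X.C e6 (U62.isTransv_tv X.C X.hC hiso6)
      rw [show (X.dec p ∘ e6) ∘ e6.symm = X.dec p from funext fun i => by simp] at ht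
      exact ((U62.isTransv_tv X.C X.hC hiso).unique X.C ht)
  -- members over the class
  set E : Set S := {e | ∃ v, herm X.C v v = 0 ∧ v ≠ 0 ∧ e = θ (U62.tv X.C v)} with hE
  have hEconj : ∀ g : S, ∀ e ∈ E, g * e * g⁻¹ ∈ E := by
    rintro g _ ⟨v, hv, hv0', rfl⟩
    obtain ⟨k, rfl⟩ := hθs g
    refine ⟨app X.C k v, by rw [herm_app, hv], fun h0 => hv0' ?_, ?_⟩
    · rw [← app_inv_app X.C k v, h0]; exact Matrix.mulVec_zero _
    · rw [← map_inv, ← map_mul, ← map_mul, U62.conj_tv X.C X.hC k hv]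
  have hmem0 : elG q c0 ∈ conjugatesOf d := ((hpat c0 hc0).2 (hlpat c0 hc0 hc0l).1).2
  -- every neighbour is conjugate to one code of the orbit
  have key : ∀ x (hx : x ∈ nbr (conjugatesOf d) d), ∃ g : ↥(Subgroup.centralizer ({d} : Set G)),
      ∃ c < 1024, T.lab c = l ∧ g * inC hx * g⁻¹ = el10 q (selfC d) c := by
    intro x hx
    obtain ⟨g, hg⟩ := H.exists_conj_mem (y := inC hx) (Subtype.ext (by
      obtain ⟨k, hk⟩ := isConj_iff.1 hx.1
      show x * x = 1
      rw [← hk, show k * d * k⁻¹ * (k * d * k⁻¹) = k * (d * d) * k⁻¹ by group, hd2, mul_one, mul_inv_cancel]))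
    obtain ⟨c, hc, hce⟩ := hg
    refine ⟨g, c, hc, ?_, hce⟩
    have hω : elG q c ∈ H.omega := ⟨H.mem_AG.2 ⟨c, hc, rfl⟩, (show IsConj d x from hx.1).trans
      (isConj_iff.2 ⟨(g : G), congrArg Subtype.val hce⟩)⟩
    rcases hlab0 c hc ((hpat c hc).1 hω) with rfl | h
    · exfalso
      refine hx.2.1 ?_
      have e : (g : G) * x * (g : G)⁻¹ = d := (congrArg Subtype.val hce).trans H.elG_d
      have hgd : Commute (g : G) d := Subgroup.mem_centralizer_singleton_iff.1 g.2
      calc x = (g : G)⁻¹ * ((g : G) * x * (g : G)⁻¹) * g := by group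
        _ = d := by rw [e, mul_assoc, ← hgd.eq, inv_mul_cancel_left]
    · exact h
  refine ⟨⟨F, X.C, X.hC, S, θ, hθs, hθk, ⟨π, ?_, hker, fun x hx => ?_, fun x hx y hy he => ?_,
    fun e he => ?_⟩⟩⟩
  · intro s
    obtain ⟨s, rfl⟩ := QuotientGroup.mk'_surjective _ s
    obtain ⟨c, rfl⟩ := X.nat_surjective s
    exact ⟨q c, hπq c⟩
  · obtain ⟨g, c, hc, hcl, hce⟩ := key x hx
    obtain ⟨k, hk⟩ := isConj_iff.1 ((hrep c0 hc0).symm.trans (hc0l.symm ▸ hcl ▸ hrep c hc))
    have e : π (inC hx) = π (g⁻¹ * k) * π (el10 q (selfC d) c0) * (π (g⁻¹ * k))⁻¹ := by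
      rw [← map_inv, ← map_mul, ← map_mul]
      congr 1
      calc inC hx = g⁻¹ * (g * inC hx * g⁻¹) * g := by group
        _ = _ := by rw [hce, ← hk]; group
    rw [e]
    exact hEconj _ _ ⟨v0, hv0, hv00, hv0π⟩
  · by_contra hne
    have hz : π ((inC hx)⁻¹ * inC hy) = 1 := by rw [map_mul, map_inv, he, inv_mul_cancel]
    rcases (hker _).1 hz with h | h
    · exact hne (inv_mul_eq_one.1 h)
    obtain ⟨g, c, hc, hcl, hce⟩ := key x hx
    obtain ⟨g', c', hc', hcl', hce'⟩ := key y hy
    have hy' : y = x * d := by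
      rw [← show x * (x⁻¹ * y) = y by group]; exact congrArg (x * ·) h
    have e : g * inC hy * g⁻¹ = el10 q (selfC d) (Nat.xor c 512) := by
      rw [← H.el10_mul, ← hce, H.el10_d]
      apply Subtype.ext
      show (g : G) * y * (g : G)⁻¹ = (g : G) * x * (g : G)⁻¹ * d
      rw [hy', mul_assoc ((g : G) * x), show (g : G)⁻¹ * d = d * (g : G)⁻¹ from
        (Commute.inv_left (Subgroup.mem_centralizer_singleton_iff.1 g.2 : Commute (g : G) d)).eq]
      group
    have hω : elG q (Nat.xor c 512) ∈ H.omega :=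
      ⟨H.mem_AG.2 ⟨_, Nat.xor_lt_two_pow (n := 10) hc (by norm_num), rfl⟩, (show IsConj d y from hy.1).trans
        (isConj_iff.2 ⟨(g : G), congrArg Subtype.val e⟩)⟩
    rcases hlab0 _ (Nat.xor_lt_two_pow (n := 10) hc (by norm_num))
      ((hpat _ (Nat.xor_lt_two_pow (n := 10) hc (by norm_num))).1 hω) with h' | h'
    · refine hy.2.1 ?_
      have e' : (g : G) * y * (g : G)⁻¹ = d :=
        ((congrArg Subtype.val e).trans (congrArg (fun c => elG q c) h')).trans H.elG_d
      have hgd : Commute (g : G) d := Subgroup.mem_centralizer_singleton_iff.1 g.2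
      calc y = (g : G)⁻¹ * ((g : G) * y * (g : G)⁻¹) * g := by group
        _ = d := by rw [e', mul_assoc, ← hgd.eq, inv_mul_cancel_left]
    · exact (hlpat c hc hcl).2.1 h'
  · obtain ⟨v, hv, hvne, rfl⟩ := he
    obtain ⟨a, ha⟩ := U62.exists_map_eq X.C hv0 hv00
    obtain ⟨b, hb⟩ := U62.exists_map_eq X.C hv hvne
    obtain ⟨g, hg⟩ : ∃ g, π g = θ (b⁻¹ * a) := by
      obtain ⟨s, hs⟩ := QuotientGroup.mk'_surjective (Subgroup.center (suG X.C (Fin 6))) (θ (b⁻¹ * a))
      obtain ⟨c, rfl⟩ := X.nat_surjective s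
      exact ⟨q c, (hπq c).trans hs⟩
    have hmem : (g : G) * elG q c0 * (g : G)⁻¹ ∈ nbr (conjugatesOf d) d := by
      have hgd : Commute (g : G) d := Subgroup.mem_centralizer_singleton_iff.1 g.2
      have hcd : Commute (elG q c0) d := Subgroup.mem_centralizer_singleton_iff.1 (el10 q (selfC d) c0).2
      refine ⟨(show IsConj d _ from hmem0).trans (isConj_iff.2 ⟨g, rfl⟩), fun h => ?_,
        (((hgd.mul_left hcd).mul_left hgd.inv_left).symm)⟩
      refine (hlpat c0 hc0 hc0l).2.2 (H.elG_inj hc0 (by norm_num) ?_)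
      rw [H.elG_d, show elG q c0 = (g : G)⁻¹ * ((g : G) * elG q c0 * (g : G)⁻¹) * g by group, h,
        mul_assoc, ← hgd.eq, inv_mul_cancel_left]
    refine ⟨_, hmem, ?_⟩
    rw [show inC hmem = g * el10 q (selfC d) c0 * g⁻¹ from Subtype.ext rfl, map_mul, map_mul, map_inv, hg, hv0π,
      ← map_inv, ← map_mul, ← map_mul, U62.conj_tv X.C X.hC _ hv0]
    congr 2
    rw [app_mul, ha, ← hb, app_inv_app]

/-- The lifts, from the centralizer. -/
theorem exists_u62Data (hd : orderOf d = 2) (hq : Cfsg.IsQuasisimple ↥(Subgroup.centralizer ({d} : Set G)))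
    [((Subgroup.zpowers d).subgroupOf (Subgroup.centralizer ({d} : Set G))).Normal]
    (K : Type) [Field K] [Fintype K] (hK : Fintype.card K = 4)
    (e : ↥(Subgroup.centralizer ({d} : Set G)) ⧸ (Subgroup.zpowers d).subgroupOf
      (Subgroup.centralizer ({d} : Set G)) ≃* Cfsg.PSU 6 K 2)
    (hnwc : ∃ g : G, g * d * g⁻¹ ∈ Subgroup.centralizer ({d} : Set G) ∧ g * d * g⁻¹ ≠ d) :
    Nonempty (U62Data G d) := by
  set C := Subgroup.centralizer ({d} : Set G) with hC
  set Z := (Subgroup.zpowers d).subgroupOf C with hZ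
  have hd2 : d * d = 1 := by rw [← pow_two, ← hd, pow_orderOf_eq_one]
  have hd1 : d ≠ 1 := fun h1 => by rw [h1, orderOf_one] at hd; omega
  have hker : ∀ z : C, e.toMonoidHom.comp (QuotientGroup.mk' Z) z = 1 ↔ z = 1 ∨ z = selfC d := by
    intro z
    show e (QuotientGroup.mk' Z z) = 1 ↔ _
    rw [map_eq_one_iff e e.injective, QuotientGroup.mk'_apply, QuotientGroup.eq_one_iff, hZ,
      Subgroup.mem_subgroupOf]
    constructor
    · intro hz
      obtain ⟨n, hn⟩ := Subgroup.mem_zpowers_iff.1 hz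
      rcases Int.even_or_odd' n with ⟨k, rfl | rfl⟩
      · left; refine Subtype.ext ?_
        rw [← hn, zpow_mul, zpow_two, hd2, one_zpow]; rfl
      · right; refine Subtype.ext ?_
        rw [← hn, zpow_add, zpow_mul, zpow_two, hd2, one_zpow, one_mul, zpow_one]; rfl
    · rintro (rfl | rfl)
      · exact one_mem _
      · exact Subgroup.mem_zpowers d
  have hcen : ∀ g : C, Commute (selfC d) g := fun g =>
    Subtype.ext (Subgroup.mem_centralizer_singleton_iff.1 g.2).symm
  obtain ⟨X, q, T, H, hT⟩ := U62Pencil.exists_setup_cases hK (e.toMonoidHom.comp (QuotientGroup.mk' Z))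
    (e.surjective.comp (QuotientGroup.mk'_surjective Z)) hker hcen (Subtype.ext hd2)
    (fun h => hd1 (congrArg Subtype.val h)) hq.1.commutator_eq_top
  exact exists_u62Data_of_setup H hT hnwc

end CfsgLib.SporFischer
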