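import Cfsg.Agent.SporFischer.ComponentM22
import Cfsg.Agent.CosetEnum.Fi22U.Transposition
import Cfsg.Agent.S5517

/-!
# The presented Fischer group Fi22 has type M(22)
-/

set_option autoImplicit false
set_option linter.unusedSectionVars false
set_option maxRecDepth 4000

namespace CfsgLib.SporFischer

open Cfsg CfsgLib.CosetEnum
open CfsgLib.SporB

universe u v

/-- A nonsplit double cover of a nonabelian simple group is quasisimple. -/
theorem isQuasisimple_of_nonsplit {X : Type u} {Y : Type v} [Group X] [Finite X] [Group Y]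
    (h : Cfsg.IsNonsplitDoubleCover X Y) (hY : IsSimpleGroup Y) (hna : commutator Y = ⊤) :
    Cfsg.IsQuasisimple X := by
  obtain ⟨hcard, ⟨e⟩, hns⟩ := h
  set Z := Subgroup.center X with hZ
  haveI : Nontrivial (X ⧸ Z) := e.toEquiv.nontrivial
  refine ⟨?_, IsSimpleGroup.isSimpleGroup_of_surjective e.symm.toMonoidHom e.symm.surjective⟩
  set q := e.toMonoidHom.comp (QuotientGroup.mk' Z)
  have hq : Function.Surjective q := e.surjective.comp (QuotientGroup.mk'_surjective _)
  have hmap : (commutator X).map q = ⊤ := by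
    rw [← hna, commutator_def, commutator_def, Subgroup.map_commutator, Subgroup.map_top_of_surjective q hq]
  have hsup : ∀ x : X, ∃ c ∈ commutator X, ∃ z ∈ Z, x = c * z := by
    intro x
    obtain ⟨c, hc, hcx⟩ := hmap ▸ Subgroup.mem_top (q x)
    refine ⟨c, hc, c⁻¹ * x, ?_, by group⟩
    rw [← QuotientGroup.eq_one_iff]
    refine e.injective ?_
    rw [map_one]
    show q (c⁻¹ * x) = 1
    rw [map_mul, map_inv, hcx, inv_mul_cancel]
  rw [Group.isPerfect_def]
  by_cases hZle : Z ≤ commutator X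
  · rw [eq_top_iff]
    intro x _
    obtain ⟨c, hc, z, hz, rfl⟩ := hsup x
    exact mul_mem hc (hZle hz)
  exfalso
  haveI : Fact (Nat.Prime (Nat.card Z)) := ⟨by rw [hcard]; exact Nat.prime_two⟩
  refine hns (commutator X) ((Subgroup.isComplement'_of_disjoint_and_mul_eq_univ ?_ ?_))
  · rcases ((commutator X).subgroupOf Z).eq_bot_or_eq_top_of_prime_card with hb | ht
    · exact (Subgroup.subgroupOf_eq_bot.1 hb).symm
    · exact absurd (Subgroup.subgroupOf_eq_top.1 ht) hZle
  · rw [Set.eq_univ_iff_forall]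
    intro x
    obtain ⟨c, hc, z, hz, rfl⟩ := hsup x
    refine ⟨z, hz, c, hc, ?_⟩
    exact (Subgroup.mem_center_iff.1 hz c).symm

/-- The first generator. -/
noncomputable abbrev gen0 : Fi22.setup.Grp := Fi22.setup.g 0

/-- The centralizer of the first generator. -/
theorem centralizer_gen0 : Subgroup.centralizer ({gen0} : Set Fi22.setup.Grp) = Fi22H.enum.H := by
  haveI := Fi22.finite_grp
  obtain ⟨φ, e, hφ, he, he0, hinj, -⟩ := Fi22.order_and_action
  obtain ⟨-, hcomm, hzz, hz1, -⟩ := Fi22U.stabiliser_facts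
  have hle : Fi22H.enum.H ≤ Subgroup.centralizer ({gen0} : Set Fi22.setup.Grp) := fun u hu =>
    Subgroup.mem_centralizer_singleton_iff.2 (mul_inv_eq_iff_eq_mul.mp (hcomm u hu))
  refine (Fi22H.maximal φ e hφ he he0 hle).resolve_right fun htop => hz1 ?_
  have hz : gen0 ∈ Subgroup.center Fi22.setup.Grp := Subgroup.mem_center_iff.2 fun g =>
    Subgroup.mem_centralizer_singleton_iff.1 (htop.symm ▸ Subgroup.mem_top g)
  haveI : IsSimpleGroup Fi22.setup.Grp := Fi22.isSimpleGroup_Fi22
  rcases (inferInstance : (Subgroup.center Fi22.setup.Grp).Normal).eq_bot_or_eq_top with h | h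
  · rwa [h, Subgroup.mem_bot] at hz
  · exfalso
    letI : CommGroup Fi22.setup.Grp := Group.commGroupOfCenterEqTop h
    have hp : (Nat.card Fi22.setup.Grp).Prime := IsSimpleGroup.prime_card
    obtain ⟨-, -, -, -, -, -, hG⟩ := Fi22.order_and_action
    rw [hG] at hp
    exact absurd hp (by norm_num)

/-- The presented Fischer group Fi22 has a class of 3-transpositions of type M(22). -/
theorem exists_class_M22 :
    ∃ D : Set Cfsg.Spor.Fi22, Cfsg.IsThreeTranspositionClass D ∧ Cfsg.IsOfTypeM22 Cfsg.Spor.Fi22 D := by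
  haveI := Fi22.finite_grp
  suffices h : Cfsg.IsThreeTranspositionClass (conjugatesOf gen0) ∧
      Cfsg.IsOfTypeM22 Fi22.setup.Grp (conjugatesOf gen0) from ⟨_, h⟩
  obtain ⟨-, -, hzz, hz1, hcov⟩ := Fi22U.stabiliser_facts
  have hC := centralizer_gen0
  set C := Subgroup.centralizer ({gen0} : Set Fi22.setup.Grp) with hCdef
  have hcov' : Cfsg.IsNonsplitDoubleCover ↥C (Cfsg.PSU 6 FFour 2) := by rw [hC]; exact hcov
  haveI hsimple : IsSimpleGroup (Cfsg.PSU 6 FFour 2) :=
    CfsgLib.Forms4.isSimpleGroup_PSU (by rw [FFour.card_eq]; norm_num) 6 (by norm_num) (by norm_num)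
  have hna : commutator (Cfsg.PSU 6 FFour 2) = ⊤ := by
    rcases (inferInstance : (commutator (Cfsg.PSU 6 FFour 2)).Normal).eq_bot_or_eq_top with h | h
    · exfalso
      letI : CommGroup (Cfsg.PSU 6 FFour 2) :=
        { mul_comm := fun a b => commutatorElement_eq_one_iff_mul_comm.1 (by
            rw [← Subgroup.mem_bot, ← h]
            exact Subgroup.commutator_mem_commutator (Subgroup.mem_top a) (Subgroup.mem_top b)) }
      have hp : (Nat.card (Cfsg.PSU 6 FFour 2)).Prime := IsSimpleGroup.prime_card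
      rw [CfsgLib.CosetEnum.Fi22U.card_PSU_six] at hp
      exact absurd hp (by norm_num)
    · exact h
  have hq : Cfsg.IsQuasisimple ↥C := isQuasisimple_of_nonsplit hcov' hsimple hna
  haveI : Fact (Nat.Prime 2) := ⟨Nat.prime_two⟩
  have hd : orderOf gen0 = 2 := orderOf_eq_prime (by rw [pow_two]; exact hzz) hz1
  have hcen : (Subgroup.zpowers gen0).subgroupOf C = Subgroup.center ↥C := by
    have hle : (Subgroup.zpowers gen0).subgroupOf C ≤ Subgroup.center ↥C := by
      intro z hz
      obtain ⟨k, hk⟩ := Subgroup.mem_zpowers_iff.1 hz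
      refine Subgroup.mem_center_iff.2 fun g => Subtype.ext ?_
      show (g : Fi22.setup.Grp) * z = z * g
      rw [show (z : Fi22.setup.Grp) = gen0 ^ k from hk.symm]
      exact ((show Commute (g : Fi22.setup.Grp) gen0 from
        Subgroup.mem_centralizer_singleton_iff.1 g.2).zpow_right k).eq
    refine Subgroup.eq_of_le_of_card_ge hle ?_
    have hzC : Subgroup.zpowers gen0 ≤ C := Subgroup.zpowers_le.2 (Subgroup.mem_centralizer_singleton_iff.2 rfl)
    rw [hcov'.1, Nat.card_congr (Subgroup.subgroupOfEquivOfLe hzC).toEquiv, Nat.card_zpowers, hd]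
  haveI hn : ((Subgroup.zpowers gen0).subgroupOf C).Normal := by rw [hcen]; infer_instance
  obtain ⟨eP⟩ := hcov'.2.1
  let e := (QuotientGroup.quotientMulEquivOfEq hcen).trans eP
  have hnwc : ∃ g : Fi22.setup.Grp, g * gen0 * g⁻¹ ∈ C ∧ g * gen0 * g⁻¹ ≠ gen0 := by
    have hconj : IsConj gen0 (Fi22.setup.g 2) := Cfsg.Agent.S5517.conj_gen .c
    obtain ⟨g, hg'⟩ := isConj_iff.1 hconj
    refine ⟨g, ?_, ?_⟩
    · rw [hg']
      refine Subgroup.mem_centralizer_singleton_iff.2 ?_
      have h := PresentedGroup.one_of_mem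
        (rels := Spor.coxRelators Spor.Fi22.edges ∪ {r | r ∈ Spor.Fi22.extra})
        (x := (FreeGroup.of Spor.Fi22.Gen.c * FreeGroup.of Spor.Fi22.Gen.a) ^
          Spor.coxLabel Spor.Fi22.edges .c .a)
        (Or.inl ⟨_, by decide, _, by decide, rfl⟩)
      rw [show Spor.coxLabel Spor.Fi22.edges .c .a = 2 from by decide, map_pow, map_mul, pow_two] at h
      have h2 : Fi22.setup.g 2 * Fi22.setup.g 2 = 1 := Fi22.setup.of_sq _
      have h3 : Fi22.setup.g 2 * gen0 * (Fi22.setup.g 2 * gen0) = 1 := h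
      calc Fi22.setup.g 2 * gen0 = (Fi22.setup.g 2 * gen0)⁻¹ := (inv_eq_of_mul_eq_one_right h3).symm
        _ = gen0 * Fi22.setup.g 2 := by
          rw [mul_inv_rev, inv_eq_of_mul_eq_one_right h2, inv_eq_of_mul_eq_one_right hzz]
    · rw [hg']
      have hmv : Nat.beq (walk Fi22H.enum.tb [2, 0] 1) 1 = false := by decide +kernel
      obtain ⟨φ, e', hφ, -⟩ := Fi22.order_and_action
      intro hEq
      have h1 := prodw_ne_one_of_moves hφ [2, 0] (show ∀ a ∈ [2, 0], a < 9 by decide) 1
        (show 1 < 3510 by decide) hmv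
      apply h1
      simp only [prodw, List.map_cons, List.map_nil, List.prod_cons, List.prod_nil, mul_one]
      rw [hEq]
      exact hzz
  obtain ⟨M⟩ := exists_u62Data hd hq FFour FFour.card_eq e hnwc
  exact M.conclusion hd hq FFour FFour.card_eq e

end CfsgLib.SporFischer
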