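import Cfsg.Agent.SporFischer.Frame

/-!
# Coordinates over a basis with prescribed products
-/

set_option autoImplicit false
set_option linter.unusedSectionVars false
set_option maxRecDepth 20000

namespace CfsgLib.SporFischer

open CfsgLib.RepBounds.Unit CfsgLib.U62
open SliceData (mulN conN dg pr hT normN smN moveN lead midN)

/-- The products of the basis vectors. -/
def gT (a : ℕ) (i j : Fin 6) : ℕ :=
  match i.1, j.1 with
  | 0, 5 => 1 | 5, 0 => 1 | 1, 2 => 1 | 2, 1 => 1 | 2, 3 => 1 | 3, 2 => 1 | 3, 4 => 1 | 4, 3 => 1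
  | 2, 5 => a | 5, 2 => a
  | _, _ => 0

theorem hT_lt {a : ℕ} (c d : ℕ) : hT a c d < 4 :=
  xor_lt (xor_lt (xor_lt (pr_lt _ _ _ _) (pr_lt _ _ _ _)) (xor_lt (pr_lt _ _ _ _) (pr_lt _ _ _ _)))
    (xor_lt (xor_lt (xor_lt (pr_lt _ _ _ _) (pr_lt _ _ _ _)) (xor_lt (pr_lt _ _ _ _) (pr_lt _ _ _ _)))
      (xor_lt (mulN_lt _ _) (mulN_lt _ _)))

theorem dg_xor (c d i : ℕ) : dg (Nat.xor c d) i = Nat.xor (dg c i) (dg d i) := by
  show (c ^^^ d) >>> (2 * i) &&& 3 = (c >>> (2 * i) &&& 3) ^^^ (d >>> (2 * i) &&& 3)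
  rw [Nat.shiftRight_xor_distrib, Nat.and_xor_distrib_right]

theorem dg_six {a b c d e f : ℕ} (ha : a < 4) (hb : b < 4) (hc : c < 4) (hd : d < 4) (he : e < 4) (hf : f < 4) :
    ∀ n, n = a + 4 * b + 16 * c + 64 * d + 256 * e + 1024 * f →
      dg n 0 = a ∧ dg n 1 = b ∧ dg n 2 = c ∧ dg n 3 = d ∧ dg n 4 = e ∧ dg n 5 = f ∧ n < 4096 := by
  intro n hn
  obtain ⟨f0, f1⟩ := dg_add n ha (show n = a + 4 * (b + 4 * (c + 4 * (d + 4 * (e + 4 * f)))) by omega)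
  obtain ⟨g0, g1⟩ := dg_add _ hb (rfl : b + 4 * (c + 4 * (d + 4 * (e + 4 * f))) = _)
  obtain ⟨h0, h1⟩ := dg_add _ hc (rfl : c + 4 * (d + 4 * (e + 4 * f)) = _)
  obtain ⟨k0, k1⟩ := dg_add _ hd (rfl : d + 4 * (e + 4 * f) = _)
  obtain ⟨l0, l1⟩ := dg_add _ he (rfl : e + 4 * f = _)
  obtain ⟨m0, -⟩ := dg_add f hf (show f = f + 4 * 0 by simp)
  exact ⟨f0, by rw [f1, g0], by rw [f1, g1, h0], by rw [f1, g1, h1, k0], by rw [f1, g1, h1, k1, l0],
    by rw [f1, g1, h1, k1, l1, m0], by omega⟩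

theorem dg_smN {t c i : ℕ} (hi : i < 6) : dg (smN t c) i = mulN t (dg c i) ∧ smN t c < 4096 := by
  obtain ⟨h0, h1, h2, h3, h4, h5, hlt⟩ := dg_six (mulN_lt t (dg c 0)) (mulN_lt t (dg c 1)) (mulN_lt t (dg c 2))
    (mulN_lt t (dg c 3)) (mulN_lt t (dg c 4)) (mulN_lt t (dg c 5)) (smN t c) rfl
  refine ⟨?_, hlt⟩
  interval_cases i <;> assumption

theorem norm_facts : (List.range 4096).all (fun c => Nat.beq c 0 ||
    (!Nat.beq (normN c) 0 && Nat.beq (normN (normN c)) (normN c) && !Nat.beq (conN (lead c)) 0 &&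
      (List.range 4).all fun t => Nat.beq t 0 || Nat.beq (normN (smN t c)) (normN c))) = true := by
  decide +kernel

theorem norm_spec {c : ℕ} (hc : c < 4096) (hc0 : c ≠ 0) :
    normN c ≠ 0 ∧ normN (normN c) = normN c ∧ conN (lead c) ≠ 0 ∧
      ∀ t < 4, t ≠ 0 → normN (smN t c) = normN c := by
  have h := norm_facts
  simp only [List.all_eq_true, List.mem_range, Bool.or_eq_true, Bool.and_eq_true, Bool.not_eq_true'] at h
  obtain ⟨⟨⟨h1, h2⟩, h3⟩, h4⟩ := (h c hc).resolve_left (by simpa using hc0)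
  refine ⟨fun e => by simp [e] at h1, Nat.eq_of_beq_eq_true h2, fun e => by simp [e] at h3, fun t ht ht0 => ?_⟩
  exact Nat.eq_of_beq_eq_true ((h4 t ht).resolve_left (by simpa using ht0))

variable {G : Type*} [Group G] {P : Set G}

/-- A basis with the products `gT a`. -/
structure Coded (M : UModel P) (a : ℕ) where
  /-- numbers as scalars -/
  N : NumField (F := M.K)
  /-- the basis -/
  b : Fin 6 → I6 → M.K
  gram : ∀ i j, herm M.C (b i) (b j) = N.e (gT a i j)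

namespace Coded

variable {M : UModel P} {a : ℕ} (R : Coded M a)

/-- The vector with given coordinates. -/
def vec6 (c : ℕ) : I6 → M.K := ∑ i : Fin 6, R.N.e (dg c i) • R.b i

theorem vec6_xor (c d : ℕ) : R.vec6 (Nat.xor c d) = R.vec6 c + R.vec6 d := by
  rw [vec6, vec6, vec6, ← Finset.sum_add_distrib]
  refine Finset.sum_congr rfl fun i _ => ?_
  rw [dg_xor, R.N.add _ _ (dg_lt _ _) (dg_lt _ _), add_smul]

theorem vec6_smN {t : ℕ} (ht : t < 4) (c : ℕ) : R.vec6 (smN t c) = R.N.e t • R.vec6 c := by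
  rw [vec6, vec6, Finset.smul_sum]
  refine Finset.sum_congr rfl fun i _ => ?_
  rw [(dg_smN i.2).1, R.N.mul _ _ ht (dg_lt _ _), smul_smul]

theorem vec6_basis (i : Fin 6) : R.vec6 (4 ^ (i : ℕ)) = R.b i := by
  have h : ∀ i j : Fin 6, dg (4 ^ (i : ℕ)) j = if i = j then 1 else 0 := by decide +kernel
  rw [vec6, Finset.sum_eq_single i]
  · rw [h, if_pos rfl, R.N.one, one_smul]
  · intro j _ hj
    rw [h, if_neg (Ne.symm hj), R.N.zero, zero_smul]
  · exact fun h0 => absurd (Finset.mem_univ i) h0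

theorem herm_vec6 (ha : a < 2) (c d : ℕ) : herm M.C (R.vec6 c) (R.vec6 d) = R.N.e (hT a c d) := by
  have p := fun i j => pr_lt c d i j
  simp only [hT]
  rw [R.N.add _ _ (xor_lt (xor_lt (p _ _) (p _ _)) (xor_lt (p _ _) (p _ _)))
      (xor_lt (xor_lt (xor_lt (p _ _) (p _ _)) (xor_lt (p _ _) (p _ _))) (xor_lt (mulN_lt _ _) (mulN_lt _ _))),
    R.N.add _ _ (xor_lt (p _ _) (p _ _)) (xor_lt (p _ _) (p _ _)),
    R.N.add _ _ (xor_lt (xor_lt (p _ _) (p _ _)) (xor_lt (p _ _) (p _ _))) (xor_lt (mulN_lt _ _) (mulN_lt _ _)),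
    R.N.add _ _ (xor_lt (p _ _) (p _ _)) (xor_lt (p _ _) (p _ _)), R.N.add _ _ (mulN_lt _ _) (mulN_lt _ _),
    R.N.add _ _ (p _ _) (p _ _), R.N.add _ _ (p _ _) (p _ _), R.N.add _ _ (p _ _) (p _ _),
    R.N.add _ _ (p _ _) (p _ _), R.N.mul _ _ (by omega) (p _ _), R.N.mul _ _ (by omega) (p _ _)]
  simp only [R.N.e_pr M.hq]
  have expand : herm M.C (R.vec6 c) (R.vec6 d) = ∑ i : Fin 6, ∑ j : Fin 6,
      R.N.e (dg c i) * (M.C.σ (R.N.e (dg d j)) * R.N.e (gT a i j)) := by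
    simp only [vec6, Fin.sum_univ_six, herm_add_left, herm_add_right, herm_smul_left, herm_smul_right, R.gram]
    ring
  rw [expand]
  simp only [Fin.sum_univ_six, gT, R.N.zero, R.N.one, Fin.val_zero, Fin.val_one, Fin.val_two,
    show ((3 : Fin 6) : ℕ) = 3 from rfl, show ((4 : Fin 6) : ℕ) = 4 from rfl,
    show ((5 : Fin 6) : ℕ) = 5 from rfl]
  ring

theorem vec6_injective (ha : a < 2) {c : ℕ} (hc : c < 4096) (h : R.vec6 c = 0) : c = 0 := by
  have h' := List.all_eq_true.1 SliceData.hT_nondeg c (List.mem_range.2 hc)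
  simp only [Bool.and_eq_true, Bool.or_eq_true, Bool.not_eq_true'] at h'
  have key : ∀ q ∈ [1, 4, 16, 64, 256, 1024], Nat.beq (hT a c q) 0 = true := fun q _ => by
    have e := R.herm_vec6 ha c q
    rw [h, herm_zero_left] at e
    rw [(R.N.eq_zero_iff (hT_lt c q)).1 e.symm]
    rfl
  interval_cases a
  · refine h'.1.elim Nat.eq_of_beq_eq_true fun hf => ?_
    rw [List.all_eq_true.2 key] at hf
    exact absurd hf (by simp)
  · refine h'.2.elim Nat.eq_of_beq_eq_true fun hf => ?_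
    rw [List.all_eq_true.2 key] at hf
    exact absurd hf (by simp)

theorem vec6_surjective (ha : a < 2) (w : I6 → M.K) : ∃ c < 4096, R.vec6 c = w := by
  classical
  let f : Fin 4096 → (I6 → M.K) := fun c => R.vec6 c
  have hinj : Function.Injective f := fun c d h => by
    have h0 : R.vec6 (Nat.xor c d) = 0 := by
      rw [R.vec6_xor, show R.vec6 c = R.vec6 d from h, vec_add_self M.C M.hq]
    exact Fin.ext (Nat.xor_eq_zero_iff.1 (R.vec6_injective ha (Nat.xor_lt_two_pow (n := 12) c.2 d.2) h0))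
  have hcard : Fintype.card (Fin 4096) = Fintype.card (I6 → M.K) := by
    rw [Fintype.card_fun, M.C.card, M.hq, Fintype.card_fin]
    rfl
  obtain ⟨c, hc⟩ := ((Fintype.bijective_iff_injective_and_card f).2 ⟨hinj, hcard⟩).2 w
  exact ⟨c, c.2, hc⟩

/-- The member `z` has the normalised coordinates `c`. -/
def At (z : G) (c : ℕ) : Prop :=
  z ∈ P ∧ c < 4096 ∧ c ≠ 0 ∧ normN c = c ∧ ∃ t : M.K, t ≠ 0 ∧ M.vec z = t • R.vec6 c

theorem norm_vec {c : ℕ} (hc : c < 4096) (hc0 : c ≠ 0) :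
    ∃ t : M.K, t ≠ 0 ∧ R.vec6 (normN c) = t • R.vec6 c :=
  ⟨R.N.e (conN (lead c)), fun h => (norm_spec hc hc0).2.2.1 ((R.N.eq_zero_iff (mulN_lt _ _)).1 h),
    R.vec6_smN (mulN_lt _ _) c⟩

theorem at_normN {z : G} {c : ℕ} (hz : z ∈ P) (hc : c < 4096) {t : M.K} (ht : t ≠ 0)
    (hv : M.vec z = t • R.vec6 c) : R.At z (normN c) := by
  have hc0 : c ≠ 0 := fun h => (M.iso z hz).2 (by rw [hv, h]; simp [vec6, dg, R.N.zero])
  obtain ⟨s, hs, hsv⟩ := R.norm_vec hc hc0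
  exact ⟨hz, (dg_smN (i := 0) (by norm_num)).2, (norm_spec hc hc0).1, (norm_spec hc hc0).2.1, t * s⁻¹,
    mul_ne_zero ht (inv_ne_zero hs), by rw [hsv, smul_smul, mul_assoc, inv_mul_cancel₀ hs, mul_one, hv]⟩

theorem exists_at (ha : a < 2) {z : G} (hz : z ∈ P) : ∃ c, R.At z c := by
  obtain ⟨c, hc, hcv⟩ := R.vec6_surjective ha (M.vec z)
  exact ⟨_, R.at_normN hz hc one_ne_zero (by rw [one_smul, hcv])⟩

theorem at_unique (ha : a < 2) {z : G} {c d : ℕ} (hc : R.At z c) (hd : R.At z d) : c = d := by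
  obtain ⟨-, hc1, hc0, hcn, t, ht, hcv⟩ := hc
  obtain ⟨-, hd1, hd0, hdn, s, hs, hdv⟩ := hd
  obtain ⟨k, hk, hke⟩ := R.N.surj (t⁻¹ * s)
  have hk0 : k ≠ 0 := fun h => mul_ne_zero (inv_ne_zero ht) hs (by rw [← hke, h, R.N.zero])
  have h0 : R.vec6 (Nat.xor c (smN k d)) = 0 := by
    rw [R.vec6_xor, R.vec6_smN hk, hke, mul_smul, ← hdv, hcv, inv_smul_smul₀ ht, vec_add_self M.C M.hq]
  have e := Nat.xor_eq_zero_iff.1 (R.vec6_injective ha
    (Nat.xor_lt_two_pow (n := 12) hc1 (dg_smN (i := 0) (by norm_num)).2) h0)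
  rw [← hcn, e, (norm_spec hd1 hd0).2.2.2 k hk hk0, hdn]

theorem at_inj {z w : G} {c : ℕ} (hz : R.At z c) (hw : R.At w c) : z = w := by
  obtain ⟨hz1, -, -, -, t, ht, hzv⟩ := hz
  obtain ⟨hw1, -, -, -, s, -, hwv⟩ := hw
  exact M.inj z hz1 w hw1 (s * t⁻¹) (by rw [hwv, hzv, smul_smul, mul_assoc, inv_mul_cancel₀ ht, mul_one])

theorem at_comm (ha : a < 2) {z w : G} {c d : ℕ} (hz : R.At z c) (hw : R.At w d) :
    Commute z w ↔ hT a c d = 0 := by
  obtain ⟨hz1, -, -, -, t, ht, hzv⟩ := hz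
  obtain ⟨hw1, -, -, -, s, hs, hwv⟩ := hw
  rw [M.comm z hz1 w hw1, hzv, hwv, herm_smul_left, herm_smul_right, R.herm_vec6 ha]
  simp [ht, hs, R.N.eq_zero_iff (hT_lt c d)]

theorem at_conj (ha : a < 2) {z w : G} {c d : ℕ} (hz : R.At z c) (hw : R.At w d) :
    R.At (w * z * w) (moveN a c d) := by
  obtain ⟨hz1, hc, -, -, t, ht, hzv⟩ := hz
  obtain ⟨hw1, hd, -, -, s, hs, hwv⟩ := hw
  obtain ⟨r, hr, hrv⟩ := M.conj z hz1 w hw1
  refine R.at_normN (M.closed z hz1 w hw1) (Nat.xor_lt_two_pow (n := 12) hc (dg_smN (i := 0) (by norm_num)).2)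
    (t := r * t) (mul_ne_zero hr ht) ?_
  rw [R.vec6_xor, R.vec6_smN (hT_lt c d), hrv, hzv, hwv, herm_smul_left, herm_smul_right, R.herm_vec6 ha,
    smul_add, smul_add, smul_smul, smul_smul, smul_smul, smul_smul]
  congr 2
  linear_combination (r * t * R.N.e (hT a c d)) * norm_eq_one M.C M.hq hs

theorem at_basis {z : G} (i : Fin 6) (hz : z ∈ P) {t : M.K} (ht : t ≠ 0) (hv : R.b i = t • M.vec z) :
    R.At z (4 ^ (i : ℕ)) := by
  have h : ∀ i : Fin 6, normN (4 ^ (i : ℕ)) = 4 ^ (i : ℕ) ∧ 4 ^ (i : ℕ) < 4096 := by decide +kernel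
  exact ⟨hz, (h i).2, pow_ne_zero _ (by norm_num), (h i).1, t⁻¹, inv_ne_zero ht,
    by rw [R.vec6_basis, hv, inv_smul_smul₀ ht]⟩

end Coded

end CfsgLib.SporFischer
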