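import Cfsg.Agent.SporFischer.Connected
import Cfsg.Agent.FischerTypes.M22Clique

/-!
# The component of a member

From facts about the centralizer of `d` and one step of the commuting graph on its conjugates, the members at
distance at most two from `d` form a class of 3-transpositions of the group they generate, which has trivial
centre and contains the centralizers of its members.
-/

set_option autoImplicit false
set_option linter.unusedSectionVars false
set_option linter.style.haveILetI false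

namespace CfsgLib.SporFischer

open Cfsg CfsgLib.FischerTypes
open scoped commutatorElement

variable {G : Type*} [Group G]

/-- What is used about an involution and the conjugates commuting with it. -/
structure Local (d : G) : Prop where
  sq : d * d = 1
  ne : d ≠ 1
  qs : IsQuasisimple ↥(Subgroup.centralizer ({d} : Set G))
  zc : ∀ z ∈ Subgroup.centralizer ({d} : Set G),
    (∀ g ∈ Subgroup.centralizer ({d} : Set G), Commute z g) → z = 1 ∨ z = d
  braid : ∀ x ∈ nbr (conjugatesOf d) d, ∀ y ∈ nbr (conjugatesOf d) d, ¬ Commute x y → x * y * x = y * x * y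
  hconj : ∀ x ∈ nbr (conjugatesOf d) d, ∀ y ∈ nbr (conjugatesOf d) d,
    ∃ c ∈ Subgroup.centralizer ({d} : Set G), c * x * c⁻¹ = y
  two : ∀ b ∈ nbr (conjugatesOf d) d, ∃ c ∈ nbr (conjugatesOf d) d, c ≠ b ∧ Commute b c
  conn : ∀ b ∈ nbr (conjugatesOf d) d, ∀ c ∈ nbr (conjugatesOf d) d,
    Relation.ReflTransGen (NbrAdj (conjugatesOf d) d) b c
  noncomm : ∃ x ∈ nbr (conjugatesOf d) d, ∃ y ∈ nbr (conjugatesOf d) d, ¬ Commute x y
  step : ∀ v y, v ∈ Geom22.ball (conjugatesOf d) d → y ∈ nbr (conjugatesOf d) v →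
    y ∈ Geom22.ball (conjugatesOf d) d

/-- A quasisimple centralizer and its quotient by the involution. -/
theorem zc_of_ker {Q : Type*} [Group Q] {d : G} (π : ↥(Subgroup.centralizer ({d} : Set G)) →* Q)
    (hπ : Function.Surjective π) (hker : ∀ z, π z = 1 ↔ (z : G) = 1 ∨ (z : G) = d)
    (hQ : Subgroup.center Q = ⊥) : ∀ z ∈ Subgroup.centralizer ({d} : Set G),
      (∀ g ∈ Subgroup.centralizer ({d} : Set G), Commute z g) → z = 1 ∨ z = d := by
  intro z hz hc
  refine (hker ⟨z, hz⟩).1 ?_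
  have h1 : π ⟨z, hz⟩ ∈ Subgroup.center Q := Subgroup.mem_center_iff.2 fun q => by
    obtain ⟨g, rfl⟩ := hπ q
    rw [← map_mul, ← map_mul]
    exact congrArg π (Subtype.ext (hc g g.2).eq.symm)
  rwa [hQ, Subgroup.mem_bot] at h1

variable (d : G)

local notation "𝐃" => conjugatesOf d

/-- The members at distance at most two. -/
def compSet : Set G := Geom22.ball (conjugatesOf d) d

/-- The group they generate. -/
def compGroup : Subgroup G := Subgroup.closure (compSet d)

/-- The members as elements of that group. -/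
def compClass : Set ↥(compGroup d) := {x | (x : G) ∈ compSet d}

variable {d}

namespace Local

variable (L : Local d)
include L

theorem inv {x : G} (hx : x ∈ 𝐃) : x * x = 1 := by
  obtain ⟨g, rfl⟩ := isConj_iff.1 hx
  rw [show g * d * g⁻¹ * (g * d * g⁻¹) = g * (d * d) * g⁻¹ by group, L.sq, mul_one, mul_inv_cancel]

theorem one_not_mem : (1 : G) ∉ 𝐃 := fun h => by
  obtain ⟨g, hg⟩ := isConj_iff.1 h
  rw [mul_inv_eq_one, mul_eq_left] at hg
  exact L.ne hg

theorem closed (g : G) {x : G} (hx : x ∈ 𝐃) : g * x * g⁻¹ ∈ 𝐃 :=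
  IsConj.trans hx (isConj_iff.2 ⟨g, rfl⟩)

theorem mem_self : d ∈ 𝐃 := IsConj.refl d

theorem nbr_conj (g : G) {a x : G} (hx : x ∈ nbr 𝐃 a) : g * x * g⁻¹ ∈ nbr 𝐃 (g * a * g⁻¹) :=
  ⟨L.closed g hx.1, fun h => hx.2.1 (mul_left_cancel (mul_right_cancel h)), (commute_conj_iff' g a x).2 hx.2.2⟩

theorem nbr_conj_d {a x : G} {g : G} (hg : g * a * g⁻¹ = d) (hx : x ∈ nbr 𝐃 a) :
    g * x * g⁻¹ ∈ nbr 𝐃 d := hg ▸ L.nbr_conj g hx

theorem nbr_of_conj_d {a x : G} {g : G} (hg : g * a * g⁻¹ = d) (hx : x ∈ nbr 𝐃 d) :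
    g⁻¹ * x * g ∈ nbr 𝐃 a := by
  have h := L.nbr_conj g⁻¹ hx
  rwa [← hg, inv_inv, show g⁻¹ * (g * a * g⁻¹) * g = a by group, hg] at h

omit L in
theorem exists_to_self {a : G} (ha : a ∈ 𝐃) : ∃ g : G, g * a * g⁻¹ = d :=
  isConj_iff.1 ha.symm

theorem braid_at {a : G} (ha : a ∈ 𝐃) {x y : G} (hx : x ∈ nbr 𝐃 a) (hy : y ∈ nbr 𝐃 a) (hxy : ¬ Commute x y) :
    x * y * x = y * x * y := by
  obtain ⟨g, hg⟩ := exists_to_self ha
  have h := L.braid _ (L.nbr_conj_d hg hx) _ (L.nbr_conj_d hg hy) fun h => hxy ((commute_conj_iff' g x y).1 h)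
  rw [show g * x * g⁻¹ * (g * y * g⁻¹) * (g * x * g⁻¹) = g * (x * y * x) * g⁻¹ by group,
    show g * y * g⁻¹ * (g * x * g⁻¹) * (g * y * g⁻¹) = g * (y * x * y) * g⁻¹ by group] at h
  exact mul_left_cancel (mul_right_cancel h)

theorem gen : Subgroup.centralizer ({d} : Set G) = Subgroup.closure (nbr 𝐃 d) := by
  set C := Subgroup.centralizer ({d} : Set G) with hC
  have hle : Subgroup.closure (nbr 𝐃 d) ≤ C := (Subgroup.closure_le _).2 fun x hx =>
    Subgroup.mem_centralizer_singleton_iff.2 hx.2.2.eq.symm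
  refine le_antisymm ?_ hle
  set N := (Subgroup.closure (nbr 𝐃 d)).subgroupOf C with hN
  haveI hNn : N.Normal := ⟨fun x hx g => by
    have hgd : (g : G) * d * (g : G)⁻¹ = d :=
      mul_inv_eq_iff_eq_mul.2 (Subgroup.mem_centralizer_singleton_iff.1 g.2)
    have key : ∀ z ∈ Subgroup.closure (nbr 𝐃 d), (g : G) * z * (g : G)⁻¹ ∈ Subgroup.closure (nbr 𝐃 d) := by
      intro z hz
      induction hz using Subgroup.closure_induction with
      | mem u hu => exact Subgroup.subset_closure (L.nbr_conj_d hgd hu)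
      | one => simp
      | mul u w _ _ iu iw =>
        rw [show (g : G) * (u * w) * (g : G)⁻¹ = (g : G) * u * (g : G)⁻¹ * ((g : G) * w * (g : G)⁻¹) by group]
        exact mul_mem iu iw
      | inv u _ iu =>
        rw [show (g : G) * u⁻¹ * (g : G)⁻¹ = ((g : G) * u * (g : G)⁻¹)⁻¹ by group]
        exact inv_mem iu
    exact key _ hx⟩
  obtain ⟨b, hb, b', hb', hbb⟩ := L.noncomm
  have hbC : b ∈ C := Subgroup.mem_centralizer_singleton_iff.2 hb.2.2.eq.symm
  haveI := L.qs.2
  set q := QuotientGroup.mk' (Subgroup.center ↥C) with hq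
  haveI : (N.map q).Normal := Subgroup.Normal.map hNn q (QuotientGroup.mk'_surjective _)
  have htop : N.map q = ⊤ := by
    rcases (inferInstance : (N.map q).Normal).eq_bot_or_eq_top with h | h
    · exfalso
      have h1 : q ⟨b, hbC⟩ ∈ N.map q := ⟨_, Subgroup.subset_closure hb, rfl⟩
      rw [h, Subgroup.mem_bot] at h1
      have h2 := Subgroup.mem_center_iff.1 ((QuotientGroup.eq_one_iff _).1 h1)
      rcases L.zc b hbC fun g hg => (congrArg Subtype.val (h2 ⟨g, hg⟩)).symm with e | e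
      · exact L.one_not_mem (e ▸ hb.1)
      · exact hb.2.1 e
    · exact h
  have hcomm : commutator ↥C ≤ N := by
    rw [commutator_def, Subgroup.commutator_le]
    intro x _ y _
    obtain ⟨u, hu, hux⟩ := htop ▸ Subgroup.mem_top (q x)
    obtain ⟨w, hw, hwy⟩ := htop ▸ Subgroup.mem_top (q y)
    have hx : ∀ g, (u⁻¹ * x) * g = g * (u⁻¹ * x) := fun g =>
      (Subgroup.mem_center_iff.1 (QuotientGroup.eq.1 hux) g).symm
    have hy : ∀ g, (w⁻¹ * y) * g = g * (w⁻¹ * y) := fun g =>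
      (Subgroup.mem_center_iff.1 (QuotientGroup.eq.1 hwy) g).symm
    have e : ⁅x, y⁆ = ⁅u, w⁆ := by
      set s := u⁻¹ * x
      set t := w⁻¹ * y
      have ex : x = u * s := by simp [s]
      have ey : y = w * t := by simp [t]
      rw [commutatorElement_def, commutatorElement_def, ex, ey]
      calc u * s * (w * t) * (u * s)⁻¹ * (w * t)⁻¹ = u * (s * (w * t)) * s⁻¹ * u⁻¹ * t⁻¹ * w⁻¹ := by group
        _ = u * w * (t * u⁻¹) * t⁻¹ * w⁻¹ := by rw [hx]; group
        _ = u * w * u⁻¹ * w⁻¹ := by rw [hy]; group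
    rw [e, commutatorElement_def]
    exact mul_mem (mul_mem (mul_mem hu hw) (inv_mem hu)) (inv_mem hw)
  intro x hx
  have h1 : (⟨x, hx⟩ : ↥C) ∈ N := hcomm (by
    have := L.qs.1.commutator_eq_top
    rw [this]; exact Subgroup.mem_top _)
  exact h1

theorem self_mem_closure : d ∈ Subgroup.closure (nbr 𝐃 d) :=
  L.gen ▸ Subgroup.mem_centralizer_singleton_iff.2 rfl

/-! ### The component -/

theorem mem_d : d ∈ compSet d := ⟨mem_self L, Or.inl (Commute.refl d)⟩

theorem nbr_sub {v y : G} (hv : v ∈ compSet d) (hy : y ∈ nbr 𝐃 v) : y ∈ compSet d := L.step v y hv hy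

theorem cent {a : G} (ha : a ∈ compSet d) : Subgroup.centralizer ({a} : Set G) ≤ compGroup d := by
  obtain ⟨g, hg⟩ := exists_to_self ha.1
  intro z hz
  have h1 : g * z * g⁻¹ ∈ Subgroup.closure (nbr 𝐃 d) := by
    rw [← L.gen, Subgroup.mem_centralizer_singleton_iff]
    have := (commute_conj_iff' g z a).2 (Subgroup.mem_centralizer_singleton_iff.1 hz)
    rwa [hg] at this
  have key : ∀ w ∈ Subgroup.closure (nbr 𝐃 d), g⁻¹ * w * g ∈ compGroup d := by
    intro w hw
    induction hw using Subgroup.closure_induction with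
    | mem u hu => exact Subgroup.subset_closure (L.nbr_sub ha (L.nbr_of_conj_d hg hu))
    | one => simp
    | mul u v _ _ iu iv =>
      rw [show g⁻¹ * (u * v) * g = g⁻¹ * u * g * (g⁻¹ * v * g) by group]
      exact mul_mem iu iv
    | inv u _ iu =>
      rw [show g⁻¹ * u⁻¹ * g = (g⁻¹ * u * g)⁻¹ by group]
      exact inv_mem iu
  have := key _ h1
  rwa [show g⁻¹ * (g * z * g⁻¹) * g = z by group] at this

/-- Two members have distance at most two. -/
theorem mem_ball_of_mem {a b : G} (ha : a ∈ compSet d) (hb : b ∈ compSet d) : b ∈ Geom22.ball 𝐃 a := by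
  obtain ⟨g, hg⟩ := exists_to_self ha.1
  have step : ∀ v y, v ∈ Geom22.ball 𝐃 a → y ∈ nbr 𝐃 v → y ∈ Geom22.ball 𝐃 a := by
    intro v y hv hy
    have hv' : g * v * g⁻¹ ∈ Geom22.ball 𝐃 d := by
      refine ⟨L.closed g hv.1, ?_⟩
      rcases hv.2 with h | ⟨z, hz1, hz2⟩
      · left; have := (commute_conj_iff' g a v).2 h; rwa [hg] at this
      · exact Or.inr ⟨g * z * g⁻¹, L.nbr_conj_d hg hz1, L.nbr_conj g hz2⟩
    obtain ⟨h1, h2⟩ := L.step _ _ hv' (L.nbr_conj g hy)
    refine ⟨hy.1, ?_⟩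
    rcases h2 with h | ⟨z, hz1, hz2⟩
    · left; rw [← hg] at h; exact (commute_conj_iff' g a y).1 h
    · refine Or.inr ⟨g⁻¹ * z * g, L.nbr_of_conj_d hg hz1, ?_⟩
      have := L.nbr_conj g⁻¹ hz2
      rwa [inv_inv, show g⁻¹ * (g * y * g⁻¹) * g = y by group] at this
  have hself : a ∈ Geom22.ball 𝐃 a := ⟨ha.1, Or.inl (Commute.refl a)⟩
  have go : ∀ v y, v ∈ Geom22.ball 𝐃 a → y ∈ 𝐃 → Commute v y → y ∈ Geom22.ball 𝐃 a := fun v y hv hy hc => by
    by_cases e : y = v
    · exact e ▸ hv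
    · exact step v y hv ⟨hy, e, hc⟩
  have hd : d ∈ Geom22.ball 𝐃 a := by
    rcases ha.2 with h | ⟨z, hz1, hz2⟩
    · exact go a d hself (mem_self L) h.symm
    · exact step z d (step a z hself hz2) (nbr_symm (mem_self L) hz1)
  rcases hb.2 with h | ⟨z, hz1, hz2⟩
  · exact go d b hd hb.1 h
  · exact step z b (step d z hd hz1) (nbr_symm hb.1 hz2)

theorem three : IsThreeTranspositionSet (compSet d) := by
  refine ⟨fun x hx => orderOf_eq_prime (by rw [pow_two, L.inv hx.1]) fun h => L.one_not_mem (h ▸ hx.1),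
    fun a ha b hb => ?_⟩
  have ha2 := L.inv ha.1
  have hb2 := L.inv hb.1
  by_cases hc : Commute a b
  · left; rw [hc.mul_pow, pow_two, pow_two, ha2, hb2, one_mul]
  right
  obtain ⟨-, h | ⟨z, hz1, hz2⟩⟩ := L.mem_ball_of_mem ha hb
  · exact absurd h hc
  have hbr := L.braid_at hz1.1 (nbr_symm ha.1 hz1) (nbr_symm hb.1 hz2) hc
  rw [pow_succ, pow_two]
  calc a * b * (a * b) * (a * b) = a * b * a * (b * a * b) := by group
    _ = a * b * a * (a * b * a) := by rw [hbr]
    _ = a * (b * (a * a) * b) * a := by group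
    _ = 1 := by rw [ha2, mul_one, hb2, mul_one, ha2]

theorem sub_group : compSet d ⊆ compGroup d := Subgroup.subset_closure

theorem conj_adj {u v : G} (hu : u ∈ compSet d) (hv : v ∈ nbr 𝐃 u) : ∃ h ∈ compGroup d, h * u * h⁻¹ = v := by
  obtain ⟨g, hg⟩ := exists_to_self hu.1
  obtain ⟨w₀, hw₀, hne, hvw⟩ := L.two _ (L.nbr_conj_d hg hv)
  set w := g⁻¹ * w₀ * g with hw
  have hwu : w ∈ nbr 𝐃 u := L.nbr_of_conj_d hg hw₀
  have hwv : w ∈ nbr 𝐃 v := by
    refine ⟨hwu.1, fun e => hne ?_, ?_⟩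
    · rw [← e, hw]; group
    · have := (commute_conj_iff' g⁻¹ (g * v * g⁻¹) w₀).2 hvw
      rwa [inv_inv, show g⁻¹ * (g * v * g⁻¹) * g = v by group] at this
  have hvK := L.nbr_sub hu hv
  -- conjugacy within one neighbourhood
  have key : ∀ a, a ∈ compSet d → ∀ x ∈ nbr 𝐃 a, ∀ y ∈ nbr 𝐃 a, ∃ h ∈ compGroup d, h * x * h⁻¹ = y := by
    intro a ha x hx y hy
    obtain ⟨k, hk⟩ := exists_to_self ha.1
    obtain ⟨c, hc, hcx⟩ := L.hconj _ (L.nbr_conj_d hk hx) _ (L.nbr_conj_d hk hy)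
    refine ⟨k⁻¹ * c * k, L.cent ha (Subgroup.mem_centralizer_singleton_iff.2 ?_), ?_⟩
    · have := (commute_conj_iff' k⁻¹ c (k * a * k⁻¹)).2 (hk.symm ▸ Subgroup.mem_centralizer_singleton_iff.1 hc)
      rwa [inv_inv, show k⁻¹ * (k * a * k⁻¹) * k = a by group] at this
    · calc k⁻¹ * c * k * x * (k⁻¹ * c * k)⁻¹ = k⁻¹ * (c * (k * x * k⁻¹) * c⁻¹) * k := by group
        _ = y := by rw [hcx]; group
  obtain ⟨h₁, m₁, e₁⟩ := key v hvK u (nbr_symm hu.1 hv) w hwv
  obtain ⟨h₂, m₂, e₂⟩ := key u hu w hwu v hv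
  exact ⟨h₂ * h₁, mul_mem m₂ m₁, by rw [← e₂, ← e₁]; group⟩

theorem trans {a b : G} (ha : a ∈ compSet d) (hb : b ∈ compSet d) :
    ∃ h ∈ compGroup d, h * a * h⁻¹ = b := by
  obtain ⟨-, h | ⟨z, hz1, hz2⟩⟩ := L.mem_ball_of_mem ha hb
  · by_cases e : b = a
    · exact ⟨1, one_mem _, by simp [e]⟩
    · exact L.conj_adj ha ⟨hb.1, e, h⟩
  · have hz := L.nbr_sub ha hz1
    obtain ⟨h₁, m₁, e₁⟩ := L.conj_adj ha hz1
    obtain ⟨h₂, m₂, e₂⟩ := L.conj_adj hz (nbr_symm hb.1 hz2)
    exact ⟨h₂ * h₁, mul_mem m₂ m₁, by rw [← e₂, ← e₁]; group⟩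

theorem conj_mem {g : G} (hg : g ∈ compGroup d) {a : G} (ha : a ∈ compSet d) :
    g * a * g⁻¹ ∈ compSet d := by
  suffices h : ∀ b ∈ compSet d, g * b * g⁻¹ ∈ compSet d ∧ g⁻¹ * b * g ∈ compSet d from (h a ha).1
  clear ha a
  induction hg using Subgroup.closure_induction with
  | mem u hu =>
    intro b hb
    have hui : u⁻¹ = u := inv_eq_of_mul_eq_one_right (L.inv hu.1)
    have h : u * b * u⁻¹ ∈ compSet d := by
      by_cases hc : Commute u b
      · rwa [hc.eq, mul_inv_cancel_right]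
      obtain ⟨-, h | ⟨z, hz1, hz2⟩⟩ := L.mem_ball_of_mem hu hb
      · exact absurd h hc
      have h1 := L.nbr_conj u (nbr_symm hb.1 hz2)
      rw [show u * z * u⁻¹ = z by rw [hz1.2.2.eq, mul_inv_cancel_right]] at h1
      exact L.nbr_sub (L.nbr_sub hu hz1) h1
    refine ⟨h, ?_⟩
    rw [hui] at h ⊢
    exact h
  | one => intro b hb; simpa using hb
  | mul u w _ _ iu iw =>
    intro b hb
    refine ⟨?_, ?_⟩
    · rw [show u * w * b * (u * w)⁻¹ = u * (w * b * w⁻¹) * u⁻¹ by group]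
      exact (iu _ (iw b hb).1).1
    · rw [show (u * w)⁻¹ * b * (u * w) = w⁻¹ * (u⁻¹ * b * u) * w by group]
      exact (iw _ (iu b hb).2).2
  | inv u _ iu =>
    intro b hb
    refine ⟨?_, ?_⟩
    · rw [inv_inv]; exact (iu b hb).2
    · rw [inv_inv]; exact (iu b hb).1

theorem group : IsThreeTranspositionGroup (compClass d) := by
  refine ⟨⟨fun x hx => ?_, fun a ha b hb => ?_⟩, fun g x hx => L.conj_mem g.2 hx,
    Subgroup.closure_closure_coe_preimage⟩
  · rw [← Subgroup.orderOf_coe]; exact L.three.1 _ hx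
  · rcases L.three.2 _ ha _ hb with h | h
    · exact Or.inl (Subtype.ext (by simpa using h))
    · exact Or.inr (Subtype.ext (by simpa using h))

theorem exists_noncommuting : ∃ y ∈ compSet d, ¬ Commute d y := by
  obtain ⟨x, hx, y, hy, hxy⟩ := L.noncomm
  obtain ⟨g, hg, hgx⟩ := L.trans (L.nbr_sub L.mem_d hx) L.mem_d
  refine ⟨g * y * g⁻¹, L.conj_mem hg (L.nbr_sub L.mem_d hy), fun h => hxy ?_⟩
  rw [← hgx] at h
  exact (commute_conj_iff' g x y).1 h

theorem center_eq : Subgroup.center ↥(compGroup d) = ⊥ := by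
  rw [Subgroup.eq_bot_iff_forall]
  intro z hz
  have hc : ∀ x ∈ compSet d, Commute (z : G) x := fun x hx =>
    (congrArg Subtype.val (Subgroup.mem_center_iff.1 hz ⟨x, sub_group L hx⟩)).symm
  have hzd : (z : G) ∈ Subgroup.centralizer ({d} : Set G) :=
    Subgroup.mem_centralizer_singleton_iff.2 (hc d L.mem_d).eq
  have hall : ∀ g ∈ Subgroup.centralizer ({d} : Set G), Commute (z : G) g := fun g hg => by
    rw [L.gen] at hg
    have : Subgroup.closure (nbr 𝐃 d) ≤ Subgroup.centralizer ({(z : G)} : Set G) :=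
      (Subgroup.closure_le _).2 fun u hu =>
        Subgroup.mem_centralizer_singleton_iff.2 (hc u (L.nbr_sub L.mem_d hu)).eq.symm
    exact (Subgroup.mem_centralizer_singleton_iff.1 (this hg)).symm
  rcases L.zc _ hzd hall with h | h
  · exact Subtype.ext h
  · obtain ⟨y, hy, hdy⟩ := L.exists_noncommuting
    exact absurd (h ▸ hc y hy) hdy

/-- The facts for the proof that the component is everything. -/
theorem comp [Finite G] {n : ℕ} (hcl : InvolutionClasses (compClass d) 3) (hpu : PairUnique (compClass d))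
    (hclq : ∀ M : Set ↥(compGroup d), IsMaxClique (compClass d) M → M.ncard = n)
    (hodd : ∀ b ∈ nbr 𝐃 d, ∀ M : Subgroup G, Odd (Nat.card M) → M ≤ Subgroup.centralizer ({d, b} : Set G) →
      (∀ g ∈ Subgroup.centralizer ({d, b} : Set G), ∀ l ∈ M, g * l * g⁻¹ ∈ M) → M = ⊥)
    (hnum : Odd (n - 1) ∨ ¬ 3 ∣ n * (n - 1)) : Comp 𝐃 (compSet d) (compGroup d) d n := by
  have lift : ∀ l : List G, IsCList (compSet d) l → ∃ l' : List ↥(compGroup d),
      IsCList (compClass d) l' ∧ l'.map Subtype.val = l := by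
    intro l hl
    refine ⟨l.attach.map fun a => ⟨a.1, sub_group L (hl.mem a.1 a.2)⟩, ⟨?_, ?_, ?_⟩, ?_⟩
    · exact (List.nodup_attach.2 hl.nodup).map fun a b h => Subtype.ext (congrArg (fun z => (z.1 : G)) h)
    · intro a ha
      obtain ⟨⟨u, hu⟩, -, rfl⟩ := List.mem_map.1 ha
      exact hl.mem u hu
    · intro a ha b hb
      obtain ⟨⟨u, hu⟩, -, rfl⟩ := List.mem_map.1 ha
      obtain ⟨⟨v, hv⟩, -, rfl⟩ := List.mem_map.1 hb
      exact Subtype.ext (hl.comm u hu v hv).eq
    · rw [List.map_map]; exact l.attach_map_subtype_val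
  have hval : ∀ l : List ↥(compGroup d), ((l.prod : ↥(compGroup d)) : G) = (l.map Subtype.val).prod :=
    fun l => map_list_prod (compGroup d).subtype l
  have hne1 : ∀ l : List ↥(compGroup d), IsCList (compClass d) l → 1 ≤ l.length → l.length ≤ 3 → l.prod ≠ 1 := by
    intro l hl h1 h3 he
    obtain ⟨⟨x, hx2, hx⟩, hconj⟩ := hcl.2.1 l.length h1 h3
    have := hconj x 1 hx ⟨l, hl.nodup, rfl, hl.mem, hl.comm, he⟩
    rw [isConj_one_left] at this
    rw [this, orderOf_one] at hx2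
    norm_num at hx2
  have hclasses : ∀ v ∈ compGroup d, v * v = 1 → v ≠ 1 →
      ∃ l, IsCList (compSet d) l ∧ l.length ≤ 3 ∧ l.prod = v ∧ 1 ≤ l.length := by
    intro v hv hv2 hv1
    obtain ⟨m, hm1, hm3, l, hnd, hlen, hmem, hcomm, hp⟩ := hcl.1 ⟨v, hv⟩ (by
      rw [← Subgroup.orderOf_coe]; exact orderOf_eq_prime (by rw [pow_two, hv2]) hv1)
    refine ⟨l.map Subtype.val, ⟨hnd.map Subtype.val_injective, fun a ha => ?_, fun a ha b hb => ?_⟩,
      by rw [List.length_map, hlen]; exact hm3, by rw [← hval, hp], by rw [List.length_map, hlen]; exact hm1⟩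
    · obtain ⟨u, hu, rfl⟩ := List.mem_map.1 ha
      exact hmem u hu
    · obtain ⟨u, hu, rfl⟩ := List.mem_map.1 ha
      obtain ⟨w, hw, rfl⟩ := List.mem_map.1 hb
      exact congrArg Subtype.val (hcomm u hu w hw).eq
  refine
    { inv := fun x => L.inv
      one := L.one_not_mem
      closed := fun g x hx => L.closed g hx
      sub := fun x hx => hx.1
      subH := sub_group L
      inter := ?_
      nbrK := fun a ha x hx => L.nbr_sub ha hx
      trans := fun a ha b hb => L.trans ha hb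
      cent := fun a ha => L.cent ha
      three := L.three
      pairU := ?_
      classes := fun v hv h2 h1 => ?_
      length_eq := ?_
      mem_d := L.mem_d
      no_odd := hodd
      conjD := fun x hx => hx
      gen := L.gen
      conn := L.conn
      two := L.two
      perfect := L.qs.1.commutator_eq_top
      clique := ?_
      num := hnum }
  · intro x hx hxH
    obtain ⟨l, hl, -, hp, h1⟩ := hclasses x hxH (L.inv hx) (fun h => L.one_not_mem (h ▸ hx))
    obtain ⟨a, ha⟩ := List.exists_mem_of_length_pos h1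
    have hc : Commute a x := hp ▸ Commute.list_prod_right _ _ fun y hy => hl.comm a ha y hy
    by_cases e : x = a
    · exact e ▸ hl.mem a ha
    · exact L.nbr_sub (hl.mem a ha) ⟨hx, e, hc⟩
  · intro a ha b hb c hc e he hab cab hce cce h
    have := hpu ⟨a, sub_group L ha⟩ ha ⟨b, sub_group L hb⟩ hb ⟨c, sub_group L hc⟩ hc ⟨e, sub_group L he⟩ he
      (fun h => hab (congrArg Subtype.val h)) (Subtype.ext cab.eq) (fun h => hce (congrArg Subtype.val h))
      (Subtype.ext cce.eq) (Subtype.ext h)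
    simpa only [Subtype.mk.injEq] using this
  · obtain ⟨l, hl, h3, hp, -⟩ := hclasses v hv h2 h1
    exact ⟨l, hl, h3, hp⟩
  · intro l l' hl hl' h3 h3' hp
    replace h3 := h3.trans (show 2 ≤ 3 by norm_num)
    replace h3' := h3'.trans (show 2 ≤ 3 by norm_num)
    obtain ⟨m, hm, rfl⟩ := lift l hl
    obtain ⟨m', hm', rfl⟩ := lift l' hl'
    rw [← hval, ← hval] at hp
    have hp' : m.prod = m'.prod := Subtype.ext hp
    rw [List.length_map] at h3 h3' ⊢
    rw [List.length_map]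
    rcases Nat.eq_zero_or_pos m.length with h0 | h0 <;> rcases Nat.eq_zero_or_pos m'.length with h0' | h0'
    · rw [h0, h0']
    · rw [List.length_eq_zero_iff.1 h0, List.prod_nil] at hp'
      exact absurd hp'.symm (hne1 m' hm' h0' h3')
    · rw [List.length_eq_zero_iff.1 h0', List.prod_nil] at hp'
      exact absurd hp' (hne1 m hm h0 h3)
    · exact hcl.2.2 m.length m'.length m.prod h0 h3 h0' h3' ⟨m, hm.nodup, rfl, hm.mem, hm.comm, rfl⟩
        ⟨m', hm'.nodup, rfl, hm'.mem, hm'.comm, hp'.symm⟩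
  · intro M hM hMc hMm
    rw [← hclq {x | (x : G) ∈ M} ⟨fun x hx => hM hx, fun a ha b hb => Subtype.ext (hMc _ ha _ hb).eq,
      fun y hy hc => hMm y hy fun m hm => congrArg Subtype.val (hc ⟨m, sub_group L (hM hm)⟩ hm).eq⟩]
    symm
    rw [← Set.ncard_image_of_injective _ Subtype.val_injective]
    congr 1
    ext x
    exact ⟨fun ⟨y, hy, e⟩ => e ▸ hy, fun hx => ⟨⟨x, sub_group L (hM hx)⟩, hx, rfl⟩⟩

/-- With those facts the conjugates of `d` are the component, a class of 3-transpositions of the whole group. -/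
theorem isThreeTranspositionClass [Finite G] {n : ℕ} (S : Comp 𝐃 (compSet d) (compGroup d) d n) :
    IsThreeTranspositionClass 𝐃 := by
  refine ⟨S.eq_class.symm ▸ L.three, ⟨d, mem_self L, rfl⟩, ?_⟩
  have h : Subgroup.closure (compSet d) = ⊤ := S.eq_top
  rwa [← S.eq_class] at h

end Local

end CfsgLib.SporFischer
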