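import Cfsg.Agent.SporFischer.Fi22Slice.Reflect
import Cfsg.Agent.SporFischer.Fi22Slice.ChecksA
import Cfsg.Agent.SporFischer.Fi22Slice.ChecksB
import Cfsg.Agent.SporFischer.Fi22Slice.ChecksC
import Cfsg.Agent.Fi22Three.Model

/-!
# Members of `Fi₂₂` around the seven letters with 126 neighbours each

A set of members containing `b, d, e, f, g, h, i`, closed under conjugation by its members, in which every
member has 126 neighbours and which is not inside the centraliser of `b`, is the set of 351 members generating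
`PΩ₇(3)`; the search behind this is certified by the tables of `Fi22Slice`.
-/

set_option autoImplicit false
set_option maxRecDepth 100000

namespace CfsgLib.SporFischer

namespace O7Slice

open CfsgLib.CosetEnum CfsgLib.Fi22Out
open CfsgLib.Fi22Three (pt pt_val pt_fin)

noncomputable section

theorem bit_lor_eq (a b i : ℕ) : bit (Nat.lor a b) i = (bit a i || bit b i) := by
  rw [bit_eq, bit_eq, bit_eq]
  exact Nat.testBit_or a b i

theorem mem_bitsOf {L : List ℕ} {i : ℕ} (hi : bit (bitsOf L) i = true) : i ∈ L := by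
  have key : ∀ (L : List ℕ) (K : ℕ), bit (L.foldl (fun K p => Nat.lor K (2 ^ p)) K) i = true →
      bit K i = true ∨ i ∈ L := by
    intro L
    induction L with
    | nil => exact fun K h => Or.inl h
    | cons p L ih =>
      intro K h
      rcases ih _ h with h1 | h1
      · rw [bit_lor_eq, Bool.or_eq_true] at h1
        rcases h1 with h2 | h2
        · exact Or.inl h2
        · rw [bit_eq, Nat.testBit_two_pow, decide_eq_true_eq] at h2
          exact Or.inr (h2 ▸ List.mem_cons_self)
      · exact Or.inr (List.mem_cons_of_mem p h1)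
  rcases key L 0 hi with h1 | h1
  · rw [bit_eq, Nat.zero_testBit] at h1; exact absurd h1 Bool.false_ne_true
  · exact h1

theorem spread_spec {gens : List ℕ} {P : ℕ → Prop}
    (hstep : ∀ g ∈ gens, ∀ q, q < 3510 → P q → P (mv g q)) :
    ∀ (s : List (ℕ × ℕ)) (K K' : ℕ), (∀ i, bit K i = true → P i) → spread gens K s = some K' →
      ∀ i, bit K' i = true → P i := by
  intro s
  induction s with
  | nil =>
    intro K K' hK h i hi
    simp only [spread, Option.some.injEq] at h
    exact hK i (h ▸ hi)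
  | cons pq s ih =>
    obtain ⟨g, q⟩ := pq
    intro K K' hK h
    unfold spread at h
    cases hb : (gens.elem g && bit K q && Nat.blt q 3510) with
    | false => rw [hb] at h; simp at h
    | true =>
      rw [hb, cond_true, force_eq, force_eq] at h
      simp only [Bool.and_eq_true, List.elem_eq_mem, decide_eq_true_eq, Nat.blt_eq] at hb
      refine ih _ K' (fun i hi => ?_) h
      rw [bit_lor_eq, Bool.or_eq_true] at hi
      rcases hi with hi | hi
      · exact hK i hi
      · rw [bit_eq, Nat.testBit_two_pow, decide_eq_true_eq] at hi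
        exact hi ▸ hstep g hb.1.1 q hb.2 (hK q hb.1.2)

/-- A set of members with the properties under study. -/
structure Mem (S : Act) (M : Set G) where
  sub : ∀ x ∈ M, ∃ i : Fin N, x = d i
  closed : ∀ x ∈ M, ∀ y ∈ M, x * y * x⁻¹ ∈ M
  slice : ∀ r ∈ M, {y | y ∈ M ∧ y ≠ r ∧ Commute r y}.ncard = 126

/-- The point is a member of the set. -/
def InM (M : Set G) (p : ℕ) : Prop := p < 3510 ∧ d (pt p) ∈ M

variable {S : Act} {M : Set G} (H : Mem S M)

theorem mv_lt' (S : Act) {p q : ℕ} (hp : p < 3510) (hq : q < 3510) : mv p q < 3510 := by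
  have := lt_of_pt (S.φ (d (pt p)) (pt q))
  rwa [S.phi_d, pt_val hp, pt_val hq] at this

theorem d_mv (S : Act) {p q : ℕ} (hp : p < 3510) (hq : q < 3510) :
    d (pt (mv p q)) = d (pt p) * d (pt q) * (d (pt p))⁻¹ := by
  refine S.d_conj (Fin.ext ?_)
  rw [S.phi_d, pt_val hp, pt_val hq, pt_val (mv_lt' S hp hq)]

include H

theorem forward {g q : ℕ} (hg : InM M g) (hq : InM M q) : InM M (mv g q) :=
  ⟨mv_lt' S hg.1 hq.1, by rw [d_mv S hg.1 hq.1]; exact H.closed _ hg.2 _ hq.2⟩

theorem backward {g q : ℕ} (hg : InM M g) (hq : q < 3510) (h : InM M (mv g q)) : InM M q := by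
  refine ⟨hq, ?_⟩
  have h1 := H.closed _ hg.2 _ h.2
  rw [d_mv S hg.1 hq, d_inv] at h1
  rwa [show d (pt g) * (d (pt g) * d (pt q) * d (pt g)) * d (pt g) =
    (d (pt g) * d (pt g)) * d (pt q) * (d (pt g) * d (pt g)) by simp only [mul_assoc], d_mul_self, one_mul,
    mul_one] at h1

theorem com_spec {p q : ℕ} (hp : p < 3510) (hq : q < 3510) :
    com p q = true ↔ Commute (d (pt p)) (d (pt q)) := by
  rw [← S.com_iff, pt_val hp, pt_val hq]

theorem false_of_over {gens : List ℕ} {r : ℕ} {steps : List (ℕ × ℕ)} {w : List ℕ}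
    (h : overOK gens r steps w = true) (hg : ∀ g ∈ gens, InM M g) : False := by
  classical
  unfold overOK at h
  split at h
  · simp at h
  rename_i K hK
  simp only [Bool.and_eq_true, List.elem_eq_mem, decide_eq_true_eq, Nat.beq_eq, List.all_eq_true, Nat.blt_eq,
    Bool.not_eq_true'] at h
  obtain ⟨⟨⟨hr, hlen⟩, hded⟩, hw⟩ := h
  have hin := spread_spec (gens := gens) (P := InM M) (fun g hg' q _ hq => forward H (hg g hg') hq) steps _ K
    (fun i hi => hg i (mem_bitsOf hi)) hK
  have hnd : w.Nodup := by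
    rw [← List.dedup_eq_self]
    exact (List.dedup_sublist w).eq_of_length hded
  have hR := hg r hr
  have hsub : ↑(w.toFinset.image fun y => d (pt y) : Finset G) ⊆
      {y | y ∈ M ∧ y ≠ d (pt r) ∧ Commute (d (pt r)) y} := by
    intro z hz
    simp only [Finset.coe_image, Set.mem_image, List.coe_toFinset, Set.mem_setOf_eq] at hz
    obtain ⟨y, hy, rfl⟩ := hz
    obtain ⟨⟨⟨hb, hlt⟩, hne⟩, hc⟩ := hw y hy
    refine ⟨(hin y hb).2, fun e => ?_, (com_spec H hR.1 hlt).1 hc⟩
    have e' := congrArg (fun i : Fin N => (i : ℕ)) (S.d_inj e)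
    simp only [pt_val hlt, pt_val hR.1] at e'
    rw [e'] at hne
    simp at hne
  have hfin : {y | y ∈ M ∧ y ≠ d (pt r) ∧ Commute (d (pt r)) y}.Finite :=
    Set.finite_of_ncard_pos (by rw [H.slice _ hR.2]; norm_num)
  have hle := Set.ncard_le_ncard hsub hfin
  rw [H.slice _ hR.2, Set.ncard_coe_finset, Finset.card_image_of_injOn, List.toFinset_card_of_nodup hnd, hlen]
    at hle
  · omega
  intro y hy z hz e
  have hy' : y < 3510 := (hw y (List.mem_toFinset.1 hy)).1.1.2
  have hz' : z < 3510 := (hw z (List.mem_toFinset.1 hz)).1.1.2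
  have := congrArg (fun i : Fin N => (i : ℕ)) (S.d_inj e)
  simpa only [pt_val hy', pt_val hz'] using this

theorem covered {gens reps : List ℕ} {steps : List (ℕ × ℕ)} {cand : ℕ → Bool} {W : List ℕ}
    (h : coverOK7 gens reps steps cand W = true) (hg : ∀ g ∈ gens, InM M g) {T : Prop}
    (hrep : ∀ y ∈ reps, InM M y → T) {i : ℕ} (hi : InM M i) (hc : cand i = true) : T ∨ i ∈ W := by
  unfold coverOK7 at h
  split at h
  · simp at h
  rename_i K hK
  have hspec := spread_spec (gens := gens) (P := fun y => InM M y → T)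
    (fun g hg' q hq hP hm => hP (backward H (hg g hg') hq hm)) steps _ K
    (fun j hj => hrep j (mem_bitsOf hj)) hK
  have h1 := allR_spec 12 0 h i (Nat.zero_le _) (by have := hi.1; omega)
  rw [blt_true hi.1, cond_true, hc] at h1
  simp only [Bool.not_true, Bool.false_or, Bool.or_eq_true, List.elem_eq_mem, decide_eq_true_eq] at h1
  exact h1.imp_left fun hb => hspec i hb hi

theorem of_deficient {gens reps : List ℕ} {steps : List (ℕ × ℕ)} {W : List ℕ} {r : ℕ}
    (h : coverOK7 gens reps steps (nbC r) W = true) (hg : ∀ g ∈ gens, InM M g) (hr : InM M r)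
    (hW : W.length < 126) {T : Prop} (hrep : ∀ y ∈ reps, InM M y → T) : T := by
  classical
  by_contra hT
  have hsub : {y | y ∈ M ∧ y ≠ d (pt r) ∧ Commute (d (pt r)) y} ⊆
      ↑(W.toFinset.image fun y => d (pt y) : Finset G) := by
    rintro z ⟨hz, hne, hc⟩
    obtain ⟨i, rfl⟩ := H.sub z hz
    have hi : InM M i := ⟨lt_of_pt i, by rw [pt_fin]; exact hz⟩
    have hcand : nbC r i = true := by
      simp only [nbC, Bool.and_eq_true, Bool.not_eq_true']
      refine ⟨?_, (com_spec H hr.1 hi.1).2 (by rw [pt_fin]; exact hc)⟩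
      by_contra hb
      rw [Bool.not_eq_false, Nat.beq_eq] at hb
      exact hne (by rw [← hb, pt_fin])
    rcases covered H h hg hrep hi hcand with h1 | h1
    · exact absurd h1 hT
    · simp only [Finset.coe_image, Set.mem_image, List.coe_toFinset, Set.mem_setOf_eq]
      exact ⟨i, h1, by rw [pt_fin]⟩
  have hle := Set.ncard_le_ncard hsub (Finset.finite_toSet _)
  rw [H.slice _ hr.2, Set.ncard_coe_finset] at hle
  have := hle.trans (Finset.card_image_le.trans (List.toFinset_card_le W))
  omega

theorem of_far {gens reps : List ℕ} {steps : List (ℕ × ℕ)}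
    (h : coverOK7 gens reps steps farC [] = true) (hg : ∀ g ∈ gens, InM M g)
    (hm : ∃ i, InM M i ∧ com 2 i = false) {T : Prop} (hrep : ∀ y ∈ reps, InM M y → T) : T := by
  obtain ⟨i, hi, hc⟩ := hm
  exact (covered H h hg hrep hi (by simp [farC, hc])).resolve_right (by simp)

/-- The seven letters force the two further seeds. -/
theorem seeds_mem (h7 : ∀ g ∈ seven, InM M g) (hm : ∃ i, InM M i ∧ com 2 i = false) :
    ∀ g ∈ seven ++ [52, 4], InM M g := by
  have ext' : ∀ {l : List ℕ}, (∀ y ∈ l, InM M y) → ∀ g ∈ seven ++ l, InM M g := fun hl g hg =>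
    (List.mem_append.1 hg).elim (h7 g) (hl g)
  have hb : InM M 2 := h7 2 (by decide)
  have hd : InM M 16 := h7 16 (by decide)
  have x3 : InM M 3 → InM M 52 := fun m3 => of_deficient H n3_ok (ext' (by simpa using m3)) hb (by decide)
    (by simp)
  have x52 : InM M 3 → InM M 52 → False := fun m3 m52 =>
    false_of_over H o3_52_ok (ext' (by simp [m3, m52]))
  have x183 : InM M 183 → False := fun m183 =>
    of_far H n183_ok (ext' (by simpa using m183)) hm (by
      simp only [List.mem_cons, List.not_mem_nil, or_false, forall_eq_or_imp, forall_eq]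
      exact ⟨fun m0 => of_deficient H n183_0_ok (ext' (by simp [m183, m0])) hd (by decide) (by
        simp only [List.mem_cons, List.not_mem_nil, or_false, forall_eq_or_imp, forall_eq]
        exact ⟨fun m => false_of_over H o183_0_8_ok (ext' (by simp [m183, m0, m])),
          fun m => false_of_over H o183_0_301_ok (ext' (by simp [m183, m0, m]))⟩),
        fun m => false_of_over H o183_4_ok (ext' (by simp [m183, m])),
        fun m => false_of_over H o183_192_ok (ext' (by simp [m183, m]))⟩)
  have x397 : InM M 397 → False := fun m397 =>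
    of_deficient H n397_ok (ext' (by simpa using m397)) hb (by decide) (by
      simp only [List.mem_cons, List.not_mem_nil, or_false, forall_eq_or_imp, forall_eq]
      exact ⟨fun m3 => of_deficient H n397_3_ok (ext' (by simp [m397, m3])) hb (by decide) (by
        simp only [List.mem_cons, List.not_mem_nil, or_false, forall_eq]
        exact fun m => false_of_over H o397_3_52_ok (ext' (by simp [m397, m3, m]))),
        fun m => false_of_over H o397_52_ok (ext' (by simp [m397, m])),
        fun m => false_of_over H o397_483_ok (ext' (by simp [m397, m]))⟩)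
  have h52 : InM M 52 := of_deficient H nRoot_ok h7 hb (by decide) (by
    simp only [List.mem_cons, List.not_mem_nil, or_false, forall_eq_or_imp, forall_eq]
    exact ⟨fun m3 => (x52 m3 (x3 m3)).elim, id, fun m => (x183 m).elim, fun m => (x397 m).elim,
      fun m => (false_of_over H o483_ok (ext' (by simpa using m))).elim,
      fun m => (false_of_over H o755_ok (ext' (by simpa using m))).elim⟩)
  have h4 : InM M 4 := of_far H n52_ok (ext' (by simpa using h52)) hm (by
    simp only [List.mem_cons, List.not_mem_nil, or_false, forall_eq_or_imp, forall_eq]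
    exact ⟨fun m => (false_of_over H o52_0_ok (ext' (by simp [h52, m]))).elim, id⟩)
  exact ext' (by simp [h52, h4])

/-- The set consists of the 351 points. -/
theorem members_eq (hs : ∀ g ∈ seven ++ [52, 4], InM M g) :
    (∀ i : Fin 351, InM M (pAt i)) ∧ ∀ x ∈ M, ∃ i : Fin 351, x = d (pt (pAt i)) := by
  have h0 : InM M 0 → False := fun m0 => false_of_over H o52_4_0_ok (fun g hg => by
    rw [show seven ++ [52, 4, 0] = (seven ++ [52, 4]) ++ [0] from rfl, List.mem_append, List.mem_singleton] at hg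
    rcases hg with hg | rfl
    · exact hs g hg
    · exact m0)
  have hall : ∀ n, n < 351 → InM M (pAt n) := by
    intro n
    induction n using Nat.strong_induction_on with
    | _ n ih =>
      intro hn
      rcases lt_or_ge n 9 with h9 | h9
      · exact hs _ (pts_ok.2.2 ▸ List.mem_map_of_mem (List.mem_range.2 h9))
      · have h := List.all_eq_true.1 reach_ok.1 (n - 9) (List.mem_range.2 (by rw [reach_ok.2]; omega))
        rcases hop : reach351.getD (n - 9) (0, 0) with ⟨j, i⟩
        simp only [hop, Bool.and_eq_true, Nat.blt_eq, Nat.beq_eq] at h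
        obtain ⟨⟨hi, hj⟩, hij⟩ := h
        have e := mvF_point ⟨j, hj⟩ ⟨i, by omega⟩
        rw [show n = ((mvF ⟨j, hj⟩ ⟨i, by omega⟩ : Fin 351) : ℕ) by show n = mvAt i j; omega, ← e]
        exact forward H (hs _ (pts_ok.2.2 ▸ List.mem_map_of_mem (List.mem_range.2 hj))) (ih i (by omega) (by omega))
  refine ⟨fun i => hall i i.2, fun x hx => ?_⟩
  obtain ⟨i, rfl⟩ := H.sub x hx
  have hi : InM M i := ⟨lt_of_pt i, by rw [pt_fin]; exact hx⟩
  have hmem := (covered H nLast_ok hs (T := False) (by simpa using h0) hi rfl).resolve_left id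
  obtain ⟨k, hk, hke⟩ := List.getElem_of_mem hmem
  rw [pts_ok.1] at hk
  refine ⟨⟨k, hk⟩, ?_⟩
  have h := allR_spec 9 0 pts_ok.2.1 k (Nat.zero_le _) (by omega)
  rw [blt_true hk, cond_true] at h
  simp only [Bool.and_eq_true, Nat.beq_eq] at h
  show d i = d (pt (pAt k))
  rw [← h.1.1, List.getD_eq_getElem _ _ (by rw [pts_ok.1]; exact hk), hke, pt_fin]

omit H

theorem pAt_spec (i : Fin 351) : pAt i < 3510 ∧ pts351.idxOf (pAt i) = i := by
  have h := allR_spec 9 0 pts_ok.2.1 i (Nat.zero_le _) (by omega)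
  rw [blt_true i.2, cond_true] at h
  simp only [Bool.and_eq_true, Nat.blt_eq, Nat.beq_eq] at h
  exact ⟨h.1.2, h.2⟩

/-- The group of the set, modulo its centre, is the projective reflection group. -/
theorem isProjRefl (H : Mem S M) (hs : ∀ g ∈ seven ++ [52, 4], InM M g) :
    Cfsg.IsProjReflectionGroupModThree
      (↥(Subgroup.closure M) ⧸ Subgroup.center ↥(Subgroup.closure M)) 7 (-1) 1 := by
  obtain ⟨hall, hsurj⟩ := members_eq H hs
  let a : Fin 351 → ↥(Subgroup.closure M) := fun i => ⟨d (pt (pAt i)), Subgroup.subset_closure (hall i).2⟩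
  have hinj : Function.Injective a := by
    intro i j h
    have e := congrArg (fun k : Fin N => (k : ℕ)) (S.d_inj (congrArg Subtype.val h))
    simp only [pt_val (pAt_spec i).1, pt_val (pAt_spec j).1] at e
    exact Fin.ext (by rw [← (pAt_spec i).2, e, (pAt_spec j).2])
  have hA : ∀ j i, a (seedF j) * a i * (a (seedF j))⁻¹ = a (mvF j i) := by
    intro j i
    apply Subtype.ext
    show d (pt (pAt j)) * d (pt (pAt i)) * (d (pt (pAt j)))⁻¹ = d (pt (pAt (mvF j i)))
    rw [← d_mv S (show pAt j < 3510 from (pAt_spec (seedF j)).1) (pAt_spec i).1]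
    exact congrArg (fun p => d (pt p)) (mvF_point j i)
  have hgen : Subgroup.closure (Set.range a) = ⊤ := by
    refine (Subgroup.map_injective (Subgroup.closure M).subtype_injective) ?_
    rw [MonoidHom.map_closure, ← MonoidHom.range_eq_map, Subgroup.range_subtype]
    refine congrArg Subgroup.closure (Set.Subset.antisymm ?_ ?_)
    · rintro _ ⟨_, ⟨i, rfl⟩, rfl⟩
      exact (hall i).2
    · intro z hz
      obtain ⟨i, rfl⟩ := hsurj z hz
      exact ⟨a i, ⟨i, rfl⟩, rfl⟩
  obtain ⟨e⟩ := exists_equiv_mod_center a reflF hinj reflF_injective seedF mvF hA reflF_conj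
    (gen_of_moves9 a hA hgen) (gen_of_moves9 reflF reflF_conj reflF_generate)
  exact ⟨sumQ7, sumQ7_nondegenerate, polarGramDet_sumQ7, ⟨e⟩⟩

theorem gpt_seven : seven = [gpt.getD 1 0, gpt.getD 3 0, gpt.getD 4 0, gpt.getD 5 0, gpt.getD 6 0, gpt.getD 7 0,
    gpt.getD 8 0] := by decide

end

end O7Slice

open CfsgLib.Fi22Out in
/-- The slices around the seven letters form the projective reflection group in dimension seven. -/
theorem isProjRefl_of_slices
    (M : Set Cfsg.Spor.Fi22)
    (hM : M ⊆ conjugatesOf (PresentedGroup.of Cfsg.Spor.Fi22.Gen.a))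
    (hcl : ∀ x ∈ M, ∀ y ∈ M, x * y * x⁻¹ ∈ M)
    (hlet : ∀ x ∈ [Cfsg.Spor.Fi22.Gen.b, .d, .e, .f, .g, .h, .i], PresentedGroup.of x ∈ M)
    (hslice : ∀ r ∈ M, {y | y ∈ M ∧ y ≠ r ∧ Commute r y}.ncard = 126)
    (hout : ∃ m ∈ M, ¬ Commute m (PresentedGroup.of Cfsg.Spor.Fi22.Gen.b)) :
    ∃ c₃ : ZMod 3, c₃ ≠ 0 ∧ Cfsg.IsProjReflectionGroupModThree
      (↥(Subgroup.closure M) ⧸ Subgroup.center ↥(Subgroup.closure M)) 7 (-c₃) c₃ := by
  obtain ⟨S⟩ := exists_act
  have H : O7Slice.Mem S M := ⟨fun x hx => by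
    obtain ⟨c, rfl⟩ := (isConj_iff (α := Fi22Out.G) (a := A) (b := x)).1 (hM hx)
    exact ⟨S.φ c 0, S.conj_A c⟩, hcl, hslice⟩
  have hgp : ∀ k, k < 9 → PresentedGroup.of (CosetEnum.Fi22.en k) ∈ M → O7Slice.InM M (gpt.getD k 0) := by
    intro k hk hm
    refine ⟨getD_gpt_lt k, ?_⟩
    have e : Fi22Three.pt (gpt.getD k 0) = gpF k := Fin.ext (Fi22Three.pt_val (getD_gpt_lt k))
    rw [e, S.d_gpF hk]
    exact hm
  have h7 : ∀ g ∈ O7Slice.seven, O7Slice.InM M g := by
    rw [O7Slice.gpt_seven]
    simp only [List.mem_cons, List.not_mem_nil, or_false, forall_eq_or_imp, forall_eq]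
    exact ⟨hgp 1 (by norm_num) (hlet Cfsg.Spor.Fi22.Gen.b (by simp)),
      hgp 3 (by norm_num) (hlet Cfsg.Spor.Fi22.Gen.d (by simp)),
      hgp 4 (by norm_num) (hlet Cfsg.Spor.Fi22.Gen.e (by simp)),
      hgp 5 (by norm_num) (hlet Cfsg.Spor.Fi22.Gen.f (by simp)),
      hgp 6 (by norm_num) (hlet Cfsg.Spor.Fi22.Gen.g (by simp)),
      hgp 7 (by norm_num) (hlet Cfsg.Spor.Fi22.Gen.h (by simp)),
      hgp 8 (by norm_num) (hlet Cfsg.Spor.Fi22.Gen.i (by simp))⟩
  have hfar : ∃ i, O7Slice.InM M i ∧ com 2 i = false := by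
    obtain ⟨m, hm, hnc⟩ := hout
    obtain ⟨i, rfl⟩ := H.sub m hm
    refine ⟨i, ⟨lt_of_pt i, by rw [Fi22Three.pt_fin]; exact hm⟩, ?_⟩
    by_contra hc
    rw [Bool.not_eq_false] at hc
    have h2 := (O7Slice.com_spec H (p := 2) (q := i) (by norm_num) (lt_of_pt i)).1 hc
    rw [Fi22Three.pt_fin, show Fi22Three.pt 2 = gpF 1 from Fin.ext (Fi22Three.pt_val (by norm_num)),
      S.d_gpF (show 1 < 9 by norm_num)] at h2
    exact hnc h2.symm
  exact ⟨1, one_ne_zero, O7Slice.isProjRefl H (O7Slice.seeds_mem H h7 hfar)⟩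

end CfsgLib.SporFischer
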