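import Cfsg.Agent.SporFischer.Slice
import Mathlib.LinearAlgebra.Matrix.Determinant.Basic

/-!
# Two paths of six among the standard 126 points and their determinants

Written with consecutive products one, the two paths have different determinants, so for any two systems of
standard coordinates one path of the first is the image of one of the second under `SU(6,2)`.
-/

set_option autoImplicit false
set_option linter.unusedSectionVars false
set_option maxRecDepth 100000

namespace CfsgLib.SporFischer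

open CfsgLib.RepBounds.Unit CfsgLib.U62
open SliceData (mulN dg hT smN pts126)

/-- A determinant over four elements coded by numbers. -/
def detN : (n : ℕ) → (Fin n → Fin n → ℕ) → ℕ
  | 0, _ => 1
  | n + 1, m => (List.ofFn fun j => mulN (m 0 j) (detN n fun i k => m i.succ (j.succAbove k))).foldr Nat.xor 0

/-- The places of the two paths among the 126 points. -/
def pathIdx : Bool → Fin 6 → ℕ
  | false => ![15, 94, 118, 79, 122, 111]
  | true => ![100, 46, 11, 69, 4, 23]

/-- The vectors of the two paths. -/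
def pathCode : Bool → Fin 6 → ℕ
  | false => ![601, 1549, 1573, 3897, 2570, 1602]
  | true => ![261, 1801, 2080, 2685, 256, 336]

theorem path_facts : ∀ p : Bool, ∀ k : Fin 6, pathIdx p k < 126 ∧ pathCode p k < 4096 ∧
    ((List.range 4).any fun t => !Nat.beq t 0 && Nat.beq (smN t (pts126.getD (pathIdx p k) 0)) (pathCode p k)) = true := by
  decide +kernel

theorem path_gram : ∀ p : Bool, ∀ j k : Fin 6, hT 1 (pathCode p j) (pathCode p k) =
    if (j : ℕ) + 1 = k ∨ (k : ℕ) + 1 = j then 1 else 0 := by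
  decide +kernel

theorem path_det : detN 6 (fun i j => dg (pathCode false i) j) = 2 ∧
    detN 6 (fun i j => dg (pathCode true i) j) = 3 := by
  decide +kernel

theorem choose_det : ∀ k : Fin 4, (k : ℕ) ≠ 0 → ∃ i j : Bool,
    mulN (if i then 3 else 2) 1 = mulN (if j then 3 else 2) k := by
  decide +kernel

theorem foldr_xor {F : Type*} [Field F] [Fintype F] (N : NumField (F := F)) :
    ∀ l : List ℕ, (∀ x ∈ l, x < 4) →
      l.foldr Nat.xor 0 < 4 ∧ N.e (l.foldr Nat.xor 0) = (l.map N.e).sum := by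
  intro l
  induction l with
  | nil => exact fun _ => ⟨by simp, by simp [N.zero]⟩
  | cons a l ih =>
    intro h
    obtain ⟨h1, h2⟩ := ih fun x hx => h x (List.mem_cons_of_mem _ hx)
    refine ⟨xor_lt (h a List.mem_cons_self) h1, ?_⟩
    rw [List.foldr_cons, N.add _ _ (h a List.mem_cons_self) h1, h2, List.map_cons, List.sum_cons]

theorem detN_spec {F : Type*} [Field F] [Fintype F] (C : ConjField F) (hC : C.q = 2) (N : NumField (F := F)) :
    ∀ (n : ℕ) (m : Fin n → Fin n → ℕ), (∀ i j, m i j < 4) →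
      detN n m < 4 ∧ N.e (detN n m) = (Matrix.of fun i j => N.e (m i j)).det := by
  intro n
  induction n with
  | zero => exact fun m _ => ⟨by simp [detN], by simp [detN, N.one]⟩
  | succ n ih =>
    intro m hm
    have hlt : ∀ x ∈ List.ofFn (fun j => mulN (m 0 j) (detN n fun i k => m i.succ (j.succAbove k))), x < 4 := by
      intro x hx
      obtain ⟨j, rfl⟩ := List.mem_ofFn.1 hx
      exact mulN_lt _ _
    obtain ⟨h1, h2⟩ := foldr_xor N _ hlt
    refine ⟨h1, ?_⟩
    rw [detN, h2, List.map_ofFn, List.sum_ofFn, Matrix.det_succ_row_zero]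
    refine Finset.sum_congr rfl fun j _ => ?_
    obtain ⟨i1, i2⟩ := ih (fun i k => m i.succ (j.succAbove k)) (fun i k => hm _ _)
    rw [Function.comp_apply, N.mul _ _ (hm _ _) i1, i2, neg_eq C hC (1 : F), one_pow, one_mul]
    rfl

variable {F : Type*} [Field F] [Fintype F] (C : ConjField F)

/-- The matrix with given columns. -/
def colsMat (ε : I6 ≃ Fin 6) (f : Fin 6 → I6 → F) : Matrix I6 I6 F := Matrix.of fun r c => f (ε c) r

theorem herm_colsMat (ε : I6 ≃ Fin 6) (f f' : Fin 6 → I6 → F)
    (hg : ∀ j k, herm C (f j) (f k) = herm C (f' j) (f' k)) (z z' : I6 → F) :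
    herm C (Matrix.mulVec (colsMat ε f) z) (Matrix.mulVec (colsMat ε f) z') =
      herm C (Matrix.mulVec (colsMat ε f') z) (Matrix.mulVec (colsMat ε f') z') := by
  have key : ∀ A : Matrix I6 I6 F, herm C (Matrix.mulVec A z) (Matrix.mulVec A z') =
      ∑ i, ∑ j, z i * C.σ (z' j) * herm C (fun r => A r i) (fun r => A r j) := by
    intro A
    simp only [herm, Matrix.mulVec, dotProduct, map_sum, map_mul, Finset.mul_sum, Finset.sum_mul]
    rw [Finset.sum_comm]
    conv_lhs => enter [2, y]; rw [Finset.sum_comm]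
    rw [Finset.sum_comm]
    refine Finset.sum_congr rfl fun i _ => Finset.sum_congr rfl fun j _ => Finset.sum_congr rfl fun r _ => ?_
    ring
  rw [key, key]
  refine Finset.sum_congr rfl fun i _ => Finset.sum_congr rfl fun j _ => ?_
  rw [show (fun r => colsMat ε f r i) = f (ε i) from rfl, show (fun r => colsMat ε f r j) = f (ε j) from rfl,
    show (fun r => colsMat ε f' r i) = f' (ε i) from rfl, show (fun r => colsMat ε f' r j) = f' (ε j) from rfl,
    hg]

namespace Coded

variable {G : Type*} [Group G] {P : Set G} {M : UModel P}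

theorem colsMat_vec6 (R : Coded M 1) (ε : I6 ≃ Fin 6) (c : Fin 6 → ℕ) :
    colsMat ε (fun k => R.vec6 (c k)) =
      colsMat ε R.b * (Matrix.of fun i k => R.N.e (dg (c (ε k)) (ε i))) := by
  ext r k
  rw [Matrix.mul_apply]
  simp only [colsMat, Matrix.of_apply, vec6, Finset.sum_apply, Pi.smul_apply, smul_eq_mul]
  refine Fintype.sum_equiv ε.symm _ _ fun i => ?_
  rw [Equiv.apply_symm_apply, mul_comm]

theorem det_vec6 (R : Coded M 1) (ε : I6 ≃ Fin 6) (p : Bool) :
    (colsMat ε fun k => R.vec6 (pathCode p k)).det = (colsMat ε R.b).det * R.N.e (if p then 3 else 2) := by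
  rw [R.colsMat_vec6, Matrix.det_mul]
  congr 1
  rw [← Matrix.det_transpose]
  have e : Matrix.transpose (Matrix.of fun i k => R.N.e (dg (pathCode p (ε k)) (ε i))) =
      (Matrix.of fun i j : Fin 6 => R.N.e (dg (pathCode p i) (j : ℕ))).submatrix ε ε := rfl
  rw [e, Matrix.det_submatrix_equiv_self, ← (detN_spec M.C M.hq R.N 6 _ fun i j => dg_lt _ _).2]
  cases p
  · rw [path_det.1]; rfl
  · rw [path_det.2]; rfl

theorem det_basis_ne_zero (R : Coded M 1) (ε : I6 ≃ Fin 6) : (colsMat ε R.b).det ≠ 0 := by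
  have hs : Function.Surjective (Matrix.mulVec (colsMat ε R.b)) := fun w => by
    obtain ⟨c, -, rfl⟩ := R.vec6_surjective (by norm_num) w
    refine ⟨fun k => R.N.e (dg c (ε k)), ?_⟩
    funext r
    simp only [colsMat, Matrix.mulVec, dotProduct, Matrix.of_apply, vec6, Finset.sum_apply, Pi.smul_apply,
      smul_eq_mul]
    exact Fintype.sum_equiv ε _ _ fun i => mul_comm _ _
  exact ((Matrix.isUnit_iff_isUnit_det _).1 (Matrix.mulVec_surjective_iff_isUnit.1 hs)).ne_zero

/-- One path of either system is carried to one of the other. -/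
theorem exists_move (R R' : Coded M 1) : ∃ (g : suG M.C I6) (i j : Bool),
    ∀ k, app M.C g (R.vec6 (pathCode i k)) = R'.vec6 (pathCode j k) := by
  classical
  set ε : I6 ≃ Fin 6 := (Fintype.equivFin I6).trans (finCongr (by simp)) with hε
  have hd := R.det_basis_ne_zero ε
  have hd' := R'.det_basis_ne_zero ε
  set D := (colsMat ε R.b).det with hD
  set D' := (colsMat ε R'.b).det with hD'
  -- the two number systems agree up to the automorphism, so compare in the first
  obtain ⟨i, j, hij⟩ : ∃ i j : Bool, R.N.e (if i then 3 else 2) * D = R'.N.e (if j then 3 else 2) * D' := by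
    obtain ⟨k2, hk2, e2⟩ := R.N.surj (R'.N.e 2)
    obtain ⟨k3, hk3, e3⟩ := R.N.surj (R'.N.e 3)
    obtain ⟨r, hr, er⟩ := R.N.surj (D' / D)
    have hr0 : r ≠ 0 := fun h => div_ne_zero hd' hd (by rw [← er, h, R.N.zero])
    have hx : ∀ a, a < 4 → a ≠ 0 → a ≠ 1 → a = 2 ∨ a = 3 := fun a => by omega
    have h21 : ∀ {m a : ℕ}, m < 4 → a < 4 → R.N.e a = R'.N.e m → m ≠ 0 → m ≠ 1 → a = 2 ∨ a = 3 := by
      intro m a hm ha he h0 h1
      refine hx a ha (fun h => h0 (R'.N.inj m 0 hm (by norm_num) ?_)) fun h => h1 (R'.N.inj m 1 hm (by norm_num) ?_)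
      · rw [← he, h, R.N.zero, R'.N.zero]
      · rw [← he, h, R.N.one, R'.N.one]
    have c2 := h21 (show 2 < 4 by norm_num) hk2 e2 (by norm_num) (by norm_num)
    have c3 := h21 (show 3 < 4 by norm_num) hk3 e3 (by norm_num) (by norm_num)
    have hne : k2 ≠ k3 := fun h => by
      have := R'.N.inj 2 3 (by norm_num) (by norm_num) (by rw [← e2, ← e3, h])
      omega
    have hcov : ∀ a, a = 2 ∨ a = 3 → ∃ q : Bool, R.N.e a = R'.N.e (if q then 3 else 2) := by
      intro a ha
      by_cases h : a = k2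
      · exact ⟨false, by rw [h, e2]; rfl⟩
      · exact ⟨true, by rw [show a = k3 by omega, e3]; rfl⟩
    obtain ⟨i, j, hij⟩ := choose_det ⟨r, hr⟩ hr0
    obtain ⟨q, hq⟩ := hcov (if j then 3 else 2) (by cases j <;> simp)
    refine ⟨i, q, ?_⟩
    have e := congrArg R.N.e hij
    have hlt : ∀ b : Bool, (if b then 3 else 2) < 4 := fun b => by cases b <;> norm_num
    rw [R.N.mul _ _ (hlt i) (by norm_num), R.N.one, mul_one, R.N.mul _ _ (hlt j) hr, er] at e
    rw [e, ← hq, mul_assoc, div_mul_cancel₀ _ hd]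
  set A := colsMat ε (fun k => R.vec6 (pathCode i k)) with hA
  set B := colsMat ε (fun k => R'.vec6 (pathCode j k)) with hB
  have hAd : A.det ≠ 0 := by
    rw [hA, R.det_vec6]
    refine mul_ne_zero hd fun h => ?_
    have := (R.N.eq_zero_iff (by cases i <;> norm_num)).1 h
    cases i <;> simp at this
  have hAB : A.det = B.det := by rw [hA, hB, R.det_vec6, R'.det_vec6, ← hD, ← hD', mul_comm, hij, mul_comm]
  have hu : IsUnit A.det := Ne.isUnit hAd
  have hdet : (B * A⁻¹).det = 1 := by
    rw [Matrix.det_mul, Matrix.det_nonsing_inv, ← hAB, Ring.inverse_eq_inv', mul_inv_cancel₀ hAd]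
  have hcol : ∀ k, Matrix.mulVec (B * A⁻¹) (R.vec6 (pathCode i k)) = R'.vec6 (pathCode j k) := by
    intro k
    have e1 : R.vec6 (pathCode i k) = Matrix.mulVec A (Pi.single (ε.symm k) 1) := by
      rw [Matrix.mulVec_single_one]
      funext r
      simp [hA, colsMat]
    rw [e1, Matrix.mulVec_mulVec, Matrix.mul_assoc, Matrix.nonsing_inv_mul _ hu, Matrix.mul_one,
      Matrix.mulVec_single_one]
    funext r
    simp [hB, colsMat]
  refine ⟨⟨⟨B * A⁻¹, hdet⟩, fun x y => ?_⟩, i, j, fun k => hcol k⟩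
  show herm M.C (Matrix.mulVec (B * A⁻¹) x) (Matrix.mulVec (B * A⁻¹) y) = _
  rw [← Matrix.mulVec_mulVec, ← Matrix.mulVec_mulVec,
    herm_colsMat M.C ε (fun k => R'.vec6 (pathCode j k)) (fun k => R.vec6 (pathCode i k)) (fun s t => ?_),
    ← hA, Matrix.mulVec_mulVec, Matrix.mulVec_mulVec, Matrix.mul_nonsing_inv _ hu, Matrix.one_mulVec,
    Matrix.one_mulVec]
  rw [R'.herm_vec6 (by norm_num), R.herm_vec6 (by norm_num), path_gram, path_gram]
  split
  · rw [R.N.one, R'.N.one]
  · rw [R.N.zero, R'.N.zero]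

/-- A point of a path. -/
theorem exists_path_vec (R : Coded M 1) {z : G} {p : Bool} {k : Fin 6}
    (hz : R.At z (pts126.getD (pathIdx p k) 0)) :
    ∃ t : M.K, t ≠ 0 ∧ M.vec z = t • R.vec6 (pathCode p k) := by
  obtain ⟨-, -, -, -, t, ht, hv⟩ := hz
  obtain ⟨-, -, h⟩ := path_facts p k
  simp only [List.any_eq_true, List.mem_range, Bool.and_eq_true, Bool.not_eq_true'] at h
  obtain ⟨s, hs, hs0, he⟩ := h
  have hs' : R.N.e s ≠ 0 := fun h => by
    rw [(R.N.eq_zero_iff hs).1 h] at hs0
    simp at hs0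
  refine ⟨t * (R.N.e s)⁻¹, mul_ne_zero ht (inv_ne_zero hs'), ?_⟩
  rw [← Nat.eq_of_beq_eq_true he, R.vec6_smN hs, smul_smul, mul_assoc, inv_mul_cancel₀ hs', mul_one, hv]

end Coded

end CfsgLib.SporFischer
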