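import Cfsg.Agent.SporFischer.ModelM22
import Cfsg.Agent.SporFischer.PathDet
import Cfsg.Agent.SporFischer.Fi22Slice
import Cfsg.Agent.SporFischer.Transfer
import Cfsg.Agent.Transpositions.M22Unique

/-!
# Reflection groups inside type M(22)

A closed set of members in which every member has 126 neighbours, and which contains the standard points next
to one of its members, contains the seven letters of some configuration, so it is the set of reflections in
dimension seven.
-/

set_option autoImplicit false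
set_option linter.unusedSectionVars false
set_option linter.style.haveILetI false

namespace CfsgLib.SporFischer

open Cfsg CfsgLib.FischerTypes
open CfsgLib.Transpositions.M22Unique (Config gens config_of_path exists_hom IsPath)
open CfsgLib.Transpositions.Braid (adjb)
open SliceData (pts126 hT)

variable {Q : Type*} [Group Q] [Finite Q] {E : Set Q}

/-- A configuration with all but two letters in a set containing the standard points next to one of its
members. -/
theorem exists_config_mem [IsSimpleGroup Q] (h : IsThreeTranspositionGroup E) (hp : IsPrimitiveUnderConj E)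
    (h22 : IsOfTypeM22 Q E) {b : Q} (hb : b ∈ E) (U : UModel (nbr E b))
    (hU : ∀ g, ∃ k ∈ Subgroup.closure (perp E b), ∀ y ∈ nbr E b, k * y * k⁻¹ ∈ nbr E b ∧
      ∃ a : U.K, a ≠ 0 ∧ U.vec (k * y * k⁻¹) = a • RepBounds.Unit.app U.C g (U.vec y))
    (R : Coded U 1) {M : Set Q} (hbM : b ∈ M) (ψ : ℕ → Q) (hψ : ∀ c ∈ pts126, ψ c ∈ M ∧ R.At (ψ c) c) :
    ∃ F, Config E F ∧ ∀ s < 9, s ≠ 0 → s ≠ 2 → F s ∈ M := by
  obtain ⟨a₀, ha₀, hba⟩ : ∃ a₀ ∈ E, ¬ Commute a₀ b := by
    by_contra hall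
    push Not at hall
    have hc : b ∈ Subgroup.center Q := Subgroup.mem_center_iff.2 fun g => by
      have hle : (⊤ : Subgroup Q) ≤ Subgroup.centralizer ({b} : Set Q) :=
        h.2.2 ▸ (Subgroup.closure_le _).2 fun x hx => Subgroup.mem_centralizer_singleton_iff.2 (hall x hx).eq
      exact Subgroup.mem_centralizer_singleton_iff.1 (hle (Subgroup.mem_top g))
    rw [h22.1, Subgroup.mem_bot] at hc
    exact ne_one h.1 hb hc
  have hG := geom22_of_type h h22
  obtain ⟨-, hh | ⟨u, hu1, hu2⟩⟩ := ball_of_simple h h22 ha₀ hb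
  · exact absurd hh hba
  obtain ⟨Φ⟩ := hG.exists_sliceRep hu1.1 (nbr_symm ha₀ hu1) (nbr_symm hb hu2) hba U
  obtain ⟨g, i, j, hmove⟩ := Φ.R.exists_move R
  obtain ⟨k, hk, hky⟩ := hU g
  have hmem : ∀ p s, pts126.getD (pathIdx p s) 0 ∈ pts126 := fun p s => by
    rw [List.getD_eq_getElem _ _ (SliceData.pts_props.1.symm ▸ (path_facts p s).1)]; exact List.getElem_mem _
  set z : Fin 6 → Q := fun s => Φ.φ (pts126.getD (pathIdx i s) 0) with hz
  set w : Fin 6 → Q := fun s => ψ (pts126.getD (pathIdx j s) 0) with hw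
  have hzm : ∀ s, z s ∈ nbr E a₀ ∧ Φ.R.At (z s) (pts126.getD (pathIdx i s) 0) := fun s => Φ.mem _ (hmem i s)
  have hwm : ∀ s, w s ∈ M ∧ R.At (w s) (pts126.getD (pathIdx j s) 0) := fun s => hψ _ (hmem j s)
  have heq : ∀ s, k * z s * k⁻¹ = w s := by
    intro s
    obtain ⟨hkz, a, ha, hav⟩ := hky (z s) (hzm s).2.1
    obtain ⟨t, ht, hzt⟩ := Φ.R.exists_path_vec (hzm s).2
    obtain ⟨t', ht', hwt⟩ := R.exists_path_vec (hwm s).2
    refine U.inj _ hkz _ (hwm s).2.1 (t' * (a * t)⁻¹) ?_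
    rw [hav, hzt, RepBounds.Unit.app_smul, hmove, hwt, smul_smul, smul_smul]
    congr 1
    field_simp
  have hkb : Commute k b := Subgroup.mem_centralizer_singleton_iff.1 (closure_le_centralizer b hk)
  set a := k * a₀ * k⁻¹ with hadef
  have hab : ¬ Commute a b := fun hc => hba ((commute_conj_iff' k a₀ b).1 (by
    rwa [hkb.eq, mul_inv_cancel_right]))
  have hwa : ∀ s, w s ∈ FischerTypes.perp E a ∧ w s ∈ FischerTypes.perp E b := fun s => by
    refine ⟨⟨(hwm s).2.1.1, fun e => hab (e ▸ (hwm s).2.1.2.2.symm), ?_⟩, (hwm s).2.1⟩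
    rw [← heq s]
    exact (commute_conj_iff' k a₀ (z s)).2 (hzm s).1.2.2
  have hcm : ∀ s t, (Commute (w s) (w t) ↔ ¬ ((s : ℕ) + 1 = t ∨ (t : ℕ) + 1 = s)) := by
    intro s t
    obtain ⟨t1, ht1, e1⟩ := R.exists_path_vec (hwm s).2
    obtain ⟨t2, ht2, e2⟩ := R.exists_path_vec (hwm t).2
    rw [U.comm _ (hwm s).2.1 _ (hwm t).2.1, e1, e2, RepBounds.Unit.herm_smul_left,
      RepBounds.Unit.herm_smul_right, R.herm_vec6 (by norm_num), path_gram]
    split <;> rename_i hst
    · simp only [hst, not_true_eq_false, iff_false, R.N.one]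
      simp [ht1, ht2]
    · simp only [hst, not_false_eq_true, iff_true, R.N.zero]
      simp
  have hP : IsPath w := ⟨fun s t hst => (hcm s t).2 hst, fun s t hst hc => (hcm s t).1 hc hst⟩
  obtain ⟨c, hc⟩ := config_of_path h hp h22 (h.2.1 k a₀ ha₀) hb hab hwa hP
  refine ⟨_, hc, fun s hs h0 h2 => ?_⟩
  interval_cases s
  exacts [absurd rfl h0, hbM, absurd rfl h2, (hwm 3).1, (hwm 2).1, (hwm 1).1, (hwm 0).1, (hwm 4).1, (hwm 5).1]

/-- Such a set gives the reflection group in dimension seven. -/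
theorem isProjRefl_of_config (h : IsThreeTranspositionGroup E) (hp : IsPrimitiveUnderConj E)
    (h22 : IsOfTypeM22 Q E) {M : Set Q} (hM : M ⊆ E) (hcl : ∀ x ∈ M, ∀ y ∈ M, x * y * x⁻¹ ∈ M)
    (hslice : ∀ r ∈ M, {y | y ∈ M ∧ y ≠ r ∧ Commute r y}.ncard = 126)
    {F : ℕ → Q} (hF : Config E F) (hFM : ∀ s < 9, s ≠ 0 → s ≠ 2 → F s ∈ M) :
    ∃ c₃ : ZMod 3, c₃ ≠ 0 ∧ IsProjReflectionGroupModThree
      (↥(Subgroup.closure M) ⧸ Subgroup.center ↥(Subgroup.closure M)) 7 (-c₃) c₃ := by
  obtain ⟨φ, hφ⟩ := exists_hom h hp h22 hF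
  have := CfsgLib.CosetEnum.Fi22.isSimpleGroup_Fi22
  have hinj : Function.Injective φ := by
    rw [← MonoidHom.ker_eq_bot_iff]
    rcases (inferInstance : φ.ker.Normal).eq_bot_or_eq_top with hb | hb
    · exact hb
    · exfalso
      have ha : φ (PresentedGroup.of Spor.Fi22.Gen.a) = 1 := MonoidHom.mem_ker.1 (hb ▸ Subgroup.mem_top _)
      rw [hφ] at ha
      exact FischerTypes.ne_one h.1 (hF.mem 0 (by norm_num)) ha
  have hcard : Nat.card Spor.Fi22 = Nat.card Q := by
    rw [CfsgLib.CosetEnum.Fi22.card_Fi22, card_group h hp h22]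
  set e : Spor.Fi22 ≃* Q := MulEquiv.ofBijective φ ((Nat.bijective_iff_injective_and_card φ).2 ⟨hinj, hcard⟩)
  have he : ∀ x, e x = φ x := fun x => rfl
  set N : Set Spor.Fi22 := {x | φ x ∈ M} with hN
  have hNM : e.toMonoidHom '' N = M := by
    ext y
    refine ⟨fun ⟨x, hx, hxy⟩ => hxy ▸ hx, fun hy => ⟨e.symm y, ?_, e.apply_symm_apply y⟩⟩
    show φ (e.symm y) ∈ M
    rwa [← he, MulEquiv.apply_symm_apply]
  have hcomm : ∀ x y, Commute (φ x) (φ y) ↔ Commute x y := fun x y =>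
    ⟨fun hc => hinj (by rw [map_mul, map_mul]; exact hc.eq), fun hc => hc.map φ⟩
  obtain ⟨c₃, hc₃, Q₀, h1, h2, ⟨ψ⟩⟩ := isProjRefl_of_slices N
    (fun x hx => by
      obtain ⟨g, hg⟩ := hp.1 _ (hF.mem 0 (by norm_num)) _ (hM hx)
      refine isConj_iff.2 ⟨e.symm g, hinj ?_⟩
      rw [map_mul, map_mul, map_inv, ← he (e.symm g), MulEquiv.apply_symm_apply, hφ]
      exact hg)
    (fun x hx y hy => by
      show φ (x * y * x⁻¹) ∈ M
      rw [map_mul, map_mul, map_inv]; exact hcl _ hx _ hy)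
    (fun x hx => by
      show φ (PresentedGroup.of x) ∈ M
      rw [hφ]
      simp only [List.mem_cons, List.not_mem_nil, or_false] at hx
      rcases hx with rfl | rfl | rfl | rfl | rfl | rfl | rfl
      all_goals exact hFM _ (by decide) (by decide) (by decide))
    (fun r hr => by
      rw [← hslice (φ r) hr, ← Set.ncard_image_of_injective _ hinj]
      congr 1
      ext y
      constructor
      · rintro ⟨x, ⟨hx, hne, hc⟩, rfl⟩
        exact ⟨hx, fun h0 => hne (hinj h0), (hcomm r x).2 hc⟩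
      · rintro ⟨hy, hne, hc⟩
        refine ⟨e.symm y, ⟨?_, fun h0 => hne ?_, ?_⟩, e.apply_symm_apply y⟩
        · show φ (e.symm y) ∈ M
          rwa [← he, MulEquiv.apply_symm_apply]
        · rw [← h0, ← he, MulEquiv.apply_symm_apply]
        · refine (hcomm _ _).1 ?_
          rwa [← he (e.symm y), MulEquiv.apply_symm_apply])
    (by
      by_contra hall
      push Not at hall
      have hall' : ∀ y ∈ M, Commute y (F 1) := fun y hy => by
        obtain ⟨x, hx, rfl⟩ : y ∈ e.toMonoidHom '' N := hNM.symm ▸ hy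
        have := (hall x hx).map φ
        rwa [hφ] at this
      have hb : F 1 ∈ M := hFM 1 (by norm_num) (by norm_num) (by norm_num)
      have h4 : F 4 ∈ M := hFM 4 (by norm_num) (by norm_num) (by norm_num)
      have h5 : F 5 ∈ M := hFM 5 (by norm_num) (by norm_num) (by norm_num)
      have hS : {y | y ∈ M ∧ y ≠ F 1 ∧ Commute (F 1) y} = M \ {F 1} := by
        ext y
        exact ⟨fun hy => ⟨hy.1, hy.2.1⟩, fun hy => ⟨hy.1, hy.2, (hall' y hy.1).symm⟩⟩
      have hcM := hslice _ hb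
      rw [hS, Set.ncard_sdiff_singleton_of_mem hb] at hcM
      have hc4 := hslice _ h4
      have hsub : {y | y ∈ M ∧ y ≠ F 4 ∧ Commute (F 4) y} ⊆ M \ {F 4} := fun y hy => ⟨hy.1, hy.2.1⟩
      have h45 : adjb 4 5 = true := by decide
      have hne : F 5 ≠ F 4 := fun h0 => hF.non 4 5 h45 (h0 ▸ Commute.refl _)
      have heq := Set.eq_of_subset_of_ncard_le hsub
        (by rw [Set.ncard_sdiff_singleton_of_mem h4, hc4]; omega) (Set.toFinite _)
      exact hF.non 4 5 h45 ((heq.symm ▸ ⟨h5, hne⟩ : F 5 ∈ {y | y ∈ M ∧ y ≠ F 4 ∧ Commute (F 4) y}).2.2))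
  exact ⟨c₃, hc₃, Q₀, h1, h2, ⟨((centerQuotEquiv (closureEquiv e.toMonoidHom e.injective N)).trans
    (centerQuotOfEq (congrArg Subgroup.closure hNM))).symm.trans ψ⟩⟩

end CfsgLib.SporFischer
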