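import Cfsg.Agent.SporFischer.Lifts
import Cfsg.Agent.FischerTypes.M23PencilCount

/-!
# The conjugates of an involution with centralizer a double cover of type M(22) that commute with it

They are the involution itself and one member over each member of the quotient.
-/

set_option autoImplicit false
set_option linter.unusedSectionVars false

namespace CfsgLib.SporFischer

open Cfsg CfsgLib.FischerTypes

universe u

variable {G Q : Type u} [Group G] [Group Q] [Finite G] [Finite Q] {E : Set Q} {d : G}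
  {π : ↥(Subgroup.centralizer ({d} : Set G)) →* Q}

/-- The lifts of the members. -/
theorem exists_liftsM22 (H : Cover22 π E (selfC d))
    (hnwc : ∃ g : G, g * d * g⁻¹ ∈ Subgroup.centralizer ({d} : Set G) ∧ g * d * g⁻¹ ≠ d) :
    Nonempty (Lifts (conjugatesOf d) d Q E) := by
  classical
  obtain ⟨S⟩ : Nonempty (Sylow 2 ↥(Subgroup.centralizer ({d} : Set G))) := inferInstance
  obtain ⟨M, hM, -⟩ := H.thompson S
  obtain ⟨x₀, hx₀, hx₀d⟩ := Pencil.exists_other H hM hnwc
  have hn := Pencil.omega_ncard H hM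
  rw [Pencil.ncard_eq H hM hx₀ hx₀d] at hn
  obtain ⟨n1, n2, n3⟩ := ncard_cliqueProds H.group H.prim H.type hM
  have f2 := Pencil.fib_ncard H hM (k := 2) (by norm_num) (by norm_num)
  have f3 := Pencil.fib_ncard H hM (k := 3) (by norm_num) le_rfl
  rw [n2] at f2
  rw [n3] at f3
  obtain ⟨a, ha⟩ : (Pencil.fib π M 1).Nonempty := by
    by_contra he
    rw [Set.not_nonempty_iff_eq_empty] at he
    rw [he, Set.ncard_empty] at hn
    omega
  obtain ⟨h22, -⟩ := Pencil.blocks H hM ha
  have e2 : Pencil.fib π M 2 = ∅ := (Set.ncard_eq_zero (Set.toFinite _)).1 (by omega)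
  have e3 : Pencil.fib π M 3 = ∅ := (Set.ncard_eq_zero (Set.toFinite _)).1 (by omega)
  have hno : ∀ x ∈ Pencil.fib π M 1, x * selfC d ∉ Pencil.fib π M 1 := by
    rcases Pencil.fib_cases H hM (k := 1) le_rfl (by norm_num) with e | e | e
    · rw [e, Set.ncard_empty] at h22; omega
    · rw [e, Pencil.ncard_preimage H, n1] at h22; omega
    · exact e.2
  have hI := involution_classes22 H.group H.prim H.type
  -- every neighbour is conjugate to a lift over the clique
  have key : ∀ x (hx : x ∈ nbr (conjugatesOf d) d), ∃ c, c * inC hx * c⁻¹ ∈ Pencil.fib π M 1 := by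
    intro x hx
    have hx2 : x * x = 1 := by
      obtain ⟨k, rfl⟩ := isConj_iff.1 hx.1
      rw [show k * d * k⁻¹ * (k * d * k⁻¹) = k * (d * d) * k⁻¹ by group,
        show d * d = 1 from congrArg Subtype.val H.sq, mul_one, mul_inv_cancel]
    have hy1 : π (inC hx) ≠ 1 := fun h1 => by
      rcases (H.ker _).1 h1 with e | e
      · obtain ⟨k, hk⟩ := isConj_iff.1 hx.1
        exact H.ne (Subtype.ext (conj_eq_one_iff.1 (hk.trans (congrArg Subtype.val e))))
      · exact hx.2.1 (congrArg Subtype.val e)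
    have hy2 : π (inC hx) * π (inC hx) = 1 := by
      rw [← map_mul, show inC hx * inC hx = 1 from Subtype.ext hx2, map_one]
    obtain ⟨m, m1, m3, l, hnd, hlen, hD, hc, hprod⟩ :=
      hI.1 (π (inC hx)) (orderOf_eq_prime (by rw [pow_two, hy2]) hy1)
    obtain ⟨j, hj⟩ : (cliqueProds M m).Nonempty := by
      refine Set.nonempty_of_ncard_ne_zero ?_
      interval_cases m <;> omega
    obtain ⟨l', hnd', hlen', hlM', rfl⟩ := hj
    have hc' := isCList_of_clique hM hnd' hlM'
    obtain ⟨q, hq⟩ := isConj_iff.1 ((hI.2.1 m m1 m3).2 (π (inC hx)) l'.prod ⟨l, hnd, hlen, hD, hc, hprod⟩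
      ⟨l', hnd', hlen', hc'.mem, hc'.comm, rfl⟩)
    obtain ⟨c, rfl⟩ := H.surj q
    have hmem : c * inC hx * c⁻¹ ∈ Pencil.fib π M m :=
      Pencil.conj_fib H hx.1 (by rw [map_mul, map_mul, map_inv, hq]; exact ⟨l', hnd', hlen', hlM', rfl⟩)
    interval_cases m
    · exact ⟨c, hmem⟩
    · rw [e2] at hmem; exact hmem.elim
    · rw [e3] at hmem; exact hmem.elim
  have hmemE : ∀ {c}, c ∈ Pencil.fib π M 1 → π c ∈ E := fun {c} hc => by
    have := hc.1
    rw [Pencil.cliqueProds_one] at this
    exact hM.sub this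
  refine ⟨⟨π, H.surj, fun z => ?_, fun x hx => ?_, fun x hx y hy he => ?_, fun e he => ?_⟩⟩
  · rw [H.ker]
    exact or_congr ⟨fun h => congrArg Subtype.val h, fun h => Subtype.ext h⟩
      ⟨fun h => congrArg Subtype.val h, fun h => Subtype.ext h⟩
  · obtain ⟨c, hc⟩ := key x hx
    have h1 := H.group.2.1 (π c)⁻¹ _ (hmemE hc)
    rwa [inv_inv, map_mul, map_mul, map_inv,
      show (π c)⁻¹ * (π c * π (inC hx) * (π c)⁻¹) * π c = π (inC hx) by group] at h1
  · rcases H.eq_or_eq_mul he with e | e
    · exact (congrArg Subtype.val e).symm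
    · exfalso
      obtain ⟨c, hc⟩ := key x hx
      refine hno _ hc ?_
      have h1 : c * inC hy * c⁻¹ = c * inC hx * c⁻¹ * selfC d := by
        rw [e, mul_assoc (c * inC hx), ← (H.central c⁻¹).eq]; group
      rw [← h1]
      exact Pencil.conj_fib H hy.1 (by
        rw [map_mul, map_mul, map_inv, ← he, ← map_inv, ← map_mul, ← map_mul]; exact hc.1)
  · obtain ⟨g, hg⟩ := single_class H.group H.type (hmemE ha) he
    obtain ⟨g, rfl⟩ := H.surj g
    have hmem : (g : G) * (a : G) * (g : G)⁻¹ ∈ nbr (conjugatesOf d) d := by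
      refine ⟨(show IsConj d _ from ha.2).trans (isConj_iff.2 ⟨g, rfl⟩), fun h => ?_, ?_⟩
      · have e : π (g * a * g⁻¹) = 1 := by
          rw [show g * a * g⁻¹ = selfC d from Subtype.ext h, H.map_d]
        rw [map_mul, map_mul, map_inv, conj_eq_one_iff] at e
        exact ne_one H.group.1 (hmemE ha) e
      · exact (congrArg Subtype.val (H.central (g * a * g⁻¹)).eq : _)
    refine ⟨_, hmem, ?_⟩
    rw [← hg]
    show π (g * a * g⁻¹) = _
    rw [map_mul, map_mul, map_inv]

end CfsgLib.SporFischer
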