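import Cfsg.Agent.SporFischer.LocalM23
import Cfsg.Agent.SporFischer.LPart
import Cfsg.Agent.SporFischer.LiftsM22
import Cfsg.Agent.SporFischer.Transfer
import Cfsg.Agent.FischerTypes.InvolutionClasses
import Cfsg.Agent.FischerTypes.M23Connected
import Cfsg.Agent.Transpositions.TypeM24Cliques

/-!
# A group with an involution whose centralizer is a double cover of type M(22) is of type M(23)
-/

set_option autoImplicit false
set_option linter.unusedSectionVars false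
set_option linter.style.haveILetI false

namespace CfsgLib.SporFischer

open Cfsg CfsgLib.FischerTypes
open SliceData (pts126)

universe u v w

/-- Type M(22) is carried by isomorphisms. -/
theorem isOfTypeM22_of_equiv {X : Type v} {Y : Type w} [Group X] [Group Y] (e : X ≃* Y) {E : Set X} {E' : Set Y}
    (hE : e '' E = E') (h : IsOfTypeM22 Y E') : IsOfTypeM22 X E := by
  obtain ⟨hZ, d, hd, c, hc, hdc, ⟨F, iF, iFt, hF, ⟨φ⟩⟩, c₃, hc₃, Q₀, h1, h2, ⟨ψ⟩⟩ := h
  have hmem : ∀ {x : X}, x ∈ E ↔ e x ∈ E' := fun {x} => by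
    rw [← hE]; exact ⟨fun h => ⟨x, h, rfl⟩, fun ⟨y, hy, hyx⟩ => e.injective hyx ▸ hy⟩
  have hset : ∀ a : Y, e.toMonoidHom '' {y | y ∈ E ∧ y ≠ e.symm a ∧ Commute (e.symm a) y} =
      {y | y ∈ E' ∧ y ≠ a ∧ Commute a y} := by
    intro a
    ext z
    constructor
    · rintro ⟨y, ⟨hy, hne, hcy⟩, rfl⟩
      refine ⟨hmem.1 hy, fun h => hne (e.injective (h.trans (e.apply_symm_apply a).symm)), ?_⟩
      have h0 := hcy.map e.toMonoidHom
      simpa using h0
    · rintro ⟨hz, hne, hcz⟩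
      exact ⟨e.symm z, ⟨hmem.2 (by rwa [e.apply_symm_apply]), fun h => hne (e.symm.injective h),
        hcz.map e.symm.toMonoidHom⟩, e.apply_symm_apply z⟩
  refine ⟨?_, e.symm d, hmem.2 (by rwa [e.apply_symm_apply]), e.symm c, hmem.2 (by rwa [e.apply_symm_apply]),
    fun h => hdc (by simpa using h.map e.toMonoidHom), ⟨F, iF, iFt, hF, ⟨?_⟩⟩, c₃, hc₃, Q₀, h1, h2, ⟨?_⟩⟩
  · rw [Subgroup.eq_bot_iff_forall]
    intro z hz
    have h0 : e z ∈ (Subgroup.center X).map e.toMonoidHom := Subgroup.mem_map_of_mem _ hz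
    rw [map_center_equiv, hZ, Subgroup.mem_bot] at h0
    exact e.injective (h0.trans e.map_one.symm)
  · exact ((centerQuotEquiv (closureEquiv e.toMonoidHom e.injective _)).trans
      (centerQuotOfEq (congrArg Subgroup.closure (hset d)))).trans φ
  · refine ((centerQuotEquiv (closureEquiv e.toMonoidHom e.injective _)).trans
      (centerQuotOfEq (congrArg Subgroup.closure ?_))).trans ψ
    rw [Set.image_inter (show Function.Injective ⇑e.toMonoidHom from e.injective), hset d, hset c]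

/-- A surjection whose preimage of the centre is the centre. -/
theorem exists_centerQuot {A B : Type*} [Group A] [Group B] (f : A →* B) (hf : Function.Surjective f)
    (h : ∀ z, f z ∈ Subgroup.center B → z ∈ Subgroup.center A) :
    ∃ e : A ⧸ Subgroup.center A ≃* B ⧸ Subgroup.center B, ∀ a, e (QuotientGroup.mk a) = QuotientGroup.mk (f a) := by
  set g := (QuotientGroup.mk' (Subgroup.center B)).comp f with hg
  have hk : g.ker = Subgroup.center A := by
    ext z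
    rw [MonoidHom.mem_ker, hg, MonoidHom.comp_apply, QuotientGroup.mk'_apply, QuotientGroup.eq_one_iff]
    refine ⟨h z, fun hz => Subgroup.mem_center_iff.2 fun b => ?_⟩
    obtain ⟨a, rfl⟩ := hf b
    rw [← map_mul, ← map_mul, Subgroup.mem_center_iff.1 hz a]
  exact ⟨(QuotientGroup.quotientMulEquivOfEq hk.symm).trans
    (QuotientGroup.quotientKerEquivOfSurjective g ((QuotientGroup.mk'_surjective _).comp hf)), fun a => rfl⟩

namespace M22Data

variable {G Q : Type u} [Group G] [Group Q] [Finite Q] {E : Set Q} {d : G} (A : M22Data G Q E d)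
include A

/-- The common neighbours of `d` and a member not commuting with it. -/
theorem exists_lpart {c : G} (hc : c ∈ compSet d) (hdc : ¬ Commute d c) :
    ∃ c₃ : ZMod 3, c₃ ≠ 0 ∧ IsProjReflectionGroupModThree
      (↥(Subgroup.closure (nbr (conjugatesOf d) d ∩ nbr (conjugatesOf d) c)) ⧸
        Subgroup.center ↥(Subgroup.closure (nbr (conjugatesOf d) d ∩ nbr (conjugatesOf d) c))) 7 (-c₃) c₃ := by
  classical
  haveI := A.simple
  have hinv : ∀ x ∈ conjugatesOf d, x * x = 1 := fun x hx => A.inv_all hx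
  have hG := A.geom23
  set D := conjugatesOf d with hD
  set W := nbr D d ∩ nbr D c with hW
  set f := proj A.L with hf
  have hm : Matching (nbr D d) E f := A.matching
  have hcD : c ∈ D := hc.1
  obtain ⟨-, h | ⟨b, hbd, hbc⟩⟩ := A.isLocal.mem_ball_of_mem A.isLocal.mem_d hc
  · exact absurd h hdc
  have hbW : b ∈ W := ⟨hbd, hbc⟩
  have hdD : d ∈ D := IsConj.refl d
  -- the slice at a member of `W`
  have hsl : ∀ r ∈ W, ∀ U : UModel (nbr (nbr D r) d), ∃ Φ : SliceRep (nbr D r) c d U, True ∧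
      ∀ y, (y ∈ W ∧ y ≠ r ∧ Commute r y) ↔ ∃ p ∈ pts126, Φ.φ p = y := by
    intro r hr U
    have hdr : d ∈ nbr D r := nbr_symm hdD hr.1
    have hcr : c ∈ nbr D r := nbr_symm hcD hr.2
    obtain ⟨-, h | ⟨u, hu1, hu2⟩⟩ := hG.two r hr.1.1 c hcr d hdr
    · exact absurd h.symm hdc
    obtain ⟨Φ⟩ := (hG.local22 r hr.1.1).exists_sliceRep hu1.1 (nbr_symm hcr hu1) (nbr_symm hdr hu2)
      (fun h => hdc h.symm) U
    refine ⟨Φ, trivial, fun y => ⟨fun ⟨hy, hne, hcy⟩ => ?_, ?_⟩⟩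
    · have hyr : y ∈ nbr D r := ⟨hy.1.1, hne, hcy⟩
      exact Φ.surj y ⟨hyr, hy.2.2.1, hy.2.2.2⟩ ⟨hyr, hy.1.2.1, hy.1.2.2⟩
    · rintro ⟨p, hp, rfl⟩
      obtain ⟨h1, h2⟩ := Φ.mem p hp
      exact ⟨⟨⟨h1.1.1, h2.1.2.1, h2.1.2.2⟩, h1.1.1, h1.2.1, h1.2.2⟩, h1.1.2.1, h1.1.2.2⟩
  have hWcl : ∀ x ∈ W, ∀ y ∈ W, y * x * y ∈ W := fun x hx y hy =>
    ⟨conj_mem_nbr' hinv hG.closed hx.1 hy.1, conj_mem_nbr' hinv hG.closed hx.2 hy.2⟩
  set M := f '' W with hM
  have hME : M ⊆ E := by rintro _ ⟨x, hx, rfl⟩; exact hm.maps x hx.1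
  have hMcl : ∀ x ∈ M, ∀ y ∈ M, x * y * x⁻¹ ∈ M := by
    rintro _ ⟨x, hx, rfl⟩ _ ⟨y, hy, rfl⟩
    refine ⟨x * y * x, hWcl y hy x hx, ?_⟩
    rw [hm.conj y hy.1 x hx.1, inv_eq A.group.1 (hm.maps x hx.1)]
  have hslice : ∀ r ∈ M, {y | y ∈ M ∧ y ≠ r ∧ Commute r y}.ncard = 126 := by
    rintro _ ⟨r, hr, rfl⟩
    obtain ⟨U⟩ := (hG.local22 r hr.1.1).model d (nbr_symm hdD hr.1)
    obtain ⟨Φ, -, hΦ⟩ := hsl r hr U
    have he : {y | y ∈ M ∧ y ≠ f r ∧ Commute (f r) y} = (fun p => f (Φ.φ p)) '' {p | p ∈ pts126} := by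
      ext z
      constructor
      · rintro ⟨⟨y, hy, rfl⟩, hne, hcz⟩
        obtain ⟨p, hp, rfl⟩ := (hΦ y).1 ⟨hy, fun h => hne (h ▸ rfl), (hm.comm r hr.1 y hy.1).2 hcz⟩
        exact ⟨p, hp, rfl⟩
      · rintro ⟨p, hp, rfl⟩
        obtain ⟨hy, hne, hcy⟩ := (hΦ (Φ.φ p)).2 ⟨p, hp, rfl⟩
        exact ⟨⟨_, hy, rfl⟩, fun h => hne (hm.inj _ hy.1 r hr.1 h), (hm.comm r hr.1 _ hy.1).1 hcy⟩
    rw [he, Set.InjOn.ncard_image]
    · rw [show {p | p ∈ pts126} = (pts126.toFinset : Set ℕ) by ext; simp, Set.ncard_coe_finset,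
        List.toFinset_card_of_nodup SliceData.pts_props.2.1, SliceData.pts_props.1]
    · intro p hp q hq hpq
      obtain ⟨hy, -, -⟩ := (hΦ (Φ.φ p)).2 ⟨p, hp, rfl⟩
      obtain ⟨hy', -, -⟩ := (hΦ (Φ.φ q)).2 ⟨q, hq, rfl⟩
      have e := hm.inj _ hy.1 _ hy'.1 hpq
      exact Φ.R.at_unique (by norm_num) (Φ.mem p hp).2 (e ▸ (Φ.mem q hq).2)
  -- a configuration
  obtain ⟨P⟩ := exists_perpModel A.group A.type (hm.maps b hbd)
  obtain ⟨U, hU⟩ := exists_uModel_perp P
  have hset : nbr (nbr D b) d = nbr (nbr D d) b := by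
    ext y
    exact ⟨fun h => ⟨⟨h.1.1, h.2.1, h.2.2⟩, h.1.2.1, h.1.2.2⟩, fun h => ⟨⟨h.1.1, h.2.1, h.2.2⟩, h.1.2.1, h.1.2.2⟩⟩
  have hmb : Matching (nbr (nbr D b) d) (nbr E (f b)) f := by
    rw [hset]
    exact hm.nbr hbd fun x hx y hy =>
      conj_mem_nbr' (fun z hz => hinv z hz.1) (fun x hx y hy => conj_mem_nbr' hinv hG.closed hx hy) hx hy
  obtain ⟨Φ, -, hΦ⟩ := hsl b hbW (hmb.uModel U)
  obtain ⟨F, hF, hFM⟩ := exists_config_mem A.group A.prim A.type (hm.maps b hbd) U hU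
    (⟨Φ.R.N, Φ.R.b, Φ.R.gram⟩ : Coded U 1) (M := M) ⟨b, hbW, rfl⟩ (fun p => f (Φ.φ p)) (fun p hp => by
      obtain ⟨hy, -, -⟩ := (hΦ (Φ.φ p)).2 ⟨p, hp, rfl⟩
      obtain ⟨h1, h2, h3, h4, t, ht, hv⟩ := (Φ.mem p hp).2
      exact ⟨⟨_, hy, rfl⟩, hmb.maps _ h1, h2, h3, h4, t, ht, hv⟩)
  obtain ⟨c₃, hc₃, Q₀, h1, h2, ⟨φ⟩⟩ := isProjRefl_of_config A.group A.prim A.type hME hMcl hslice hF hFM
  -- lifted
  have hWC : Subgroup.closure W ≤ Subgroup.centralizer ({d} : Set G) := (Subgroup.closure_le _).2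
    fun x hx => Subgroup.mem_centralizer_singleton_iff.2 hx.1.2.2.eq.symm
  set g := A.L.π.comp (Subgroup.inclusion hWC) with hg
  have hgval : ∀ x (hx : x ∈ W), g ⟨x, Subgroup.subset_closure hx⟩ = f x := fun x hx => (A.proj_eq hx.1).symm
  have hrange : g.range = Subgroup.closure M := by
    refine le_antisymm ?_ ((Subgroup.closure_le _).2 ?_)
    · rintro _ ⟨⟨x, hx⟩, rfl⟩
      induction hx using Subgroup.closure_induction with
      | mem y hy => rw [hgval y hy]; exact Subgroup.subset_closure ⟨y, hy, rfl⟩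
      | one => rw [show (⟨1, _⟩ : ↥(Subgroup.closure W)) = 1 from rfl, map_one]; exact one_mem _
      | mul y z hy hz iy iz =>
        rw [show (⟨y * z, _⟩ : ↥(Subgroup.closure W)) = ⟨y, hy⟩ * ⟨z, hz⟩ from rfl, map_mul]
        exact mul_mem iy iz
      | inv y hy iy =>
        rw [show (⟨y⁻¹, _⟩ : ↥(Subgroup.closure W)) = ⟨y, hy⟩⁻¹ from rfl, map_inv]
        exact inv_mem iy
    · rintro _ ⟨x, hx, rfl⟩
      exact ⟨_, hgval x hx⟩
  obtain ⟨ε, -⟩ := exists_centerQuot g.rangeRestrict g.rangeRestrict_surjective (fun z hz => by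
    rw [Subgroup.mem_center_iff]
    intro a
    obtain ⟨a, ha⟩ := a
    refine Subtype.ext ?_
    show a * (z : G) = z * a
    suffices hle : Subgroup.closure W ≤ Subgroup.centralizer ({(z : G)} : Set G) from
      Subgroup.mem_centralizer_singleton_iff.1 (hle ha)
    refine (Subgroup.closure_le _).2 fun x hx => Subgroup.mem_centralizer_singleton_iff.2 ?_
    have hc' : g ⟨x, Subgroup.subset_closure hx⟩ * g z = g z * g ⟨x, Subgroup.subset_closure hx⟩ :=
      congrArg Subtype.val (Subgroup.mem_center_iff.1 hz (g.rangeRestrict ⟨x, Subgroup.subset_closure hx⟩))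
    have hzd : (z : G) * d * (z : G)⁻¹ = d :=
      mul_inv_eq_iff_eq_mul.2 (Subgroup.mem_centralizer_singleton_iff.1 (hWC z.2))
    have hzx : (z : G) * x * (z : G)⁻¹ ∈ nbr D d :=
      ⟨IsConj.trans hx.1.1 (isConj_iff.2 ⟨_, rfl⟩),
        fun h => hx.1.2.1 (mul_left_cancel (mul_right_cancel (h.trans hzd.symm))), by
        have := (commute_conj_iff' (z : G) d x).2 hx.1.2.2; rwa [hzd] at this⟩
    have e := A.L.inj _ hzx x hx.1 (by
      have h1 : A.L.π (inC hzx) = g z * g ⟨x, Subgroup.subset_closure hx⟩ * (g z)⁻¹ := by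
        rw [hg, MonoidHom.comp_apply, MonoidHom.comp_apply, ← map_inv, ← map_mul, ← map_mul]
        exact congrArg A.L.π (Subtype.ext rfl)
      rw [h1, ← hc', mul_inv_cancel_right]
      rfl)
    exact (mul_inv_eq_iff_eq_mul.1 e).symm)
  exact ⟨c₃, hc₃, Q₀, h1, h2, ⟨(ε.trans (centerQuotOfEq hrange)).trans φ⟩⟩

/-- Type M(23), seen in a group mapped onto the component. -/
theorem isOfTypeM23_of_component {X : Type v} [Group X] (f : X →* G) (hf : Function.Injective f) (E' : Set X)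
    (hE : f '' E' = compSet d) (hZ : Subgroup.center X = ⊥) : IsOfTypeM23 X E' := by
  have L := A.isLocal
  obtain ⟨c, hc, hdc⟩ := L.exists_noncommuting
  obtain ⟨d', hd', hfd⟩ : d ∈ f '' E' := hE ▸ L.mem_d
  obtain ⟨c', hc', hfc⟩ : c ∈ f '' E' := hE ▸ hc
  have himg : ∀ a ∈ E', f '' {y | y ∈ E' ∧ y ≠ a ∧ Commute a y} = nbr (conjugatesOf d) (f a) := by
    intro a ha
    have hfa : f a ∈ compSet d := hE ▸ Set.mem_image_of_mem f ha
    ext z
    constructor
    · rintro ⟨y, ⟨hy, hne, hcy⟩, rfl⟩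
      exact ⟨(hE ▸ Set.mem_image_of_mem f hy : f y ∈ compSet d).1, fun h => hne (hf h), hcy.map f⟩
    · intro hz
      obtain ⟨y, hy, rfl⟩ : z ∈ f '' E' := hE ▸ L.nbr_sub hfa hz
      exact ⟨y, ⟨hy, fun h => hz.2.1 (h ▸ rfl), hf (by rw [map_mul, map_mul]; exact hz.2.2.eq)⟩, rfl⟩
  refine ⟨hZ, d', hd', c', hc', fun h => hdc (hfd ▸ hfc ▸ h.map f), ?_, ?_⟩
  · set Nd := {y | y ∈ E' ∧ y ≠ d' ∧ Commute d' y} with hNd
    have h1 : f '' Nd = nbr (conjugatesOf d) d := by rw [hNd, himg d' hd', hfd]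
    have h2 : Subgroup.closure (f '' Nd) = Subgroup.centralizer ({d} : Set G) := by rw [h1, L.gen]
    set ι := (closureEquiv f hf Nd).trans (MulEquiv.subgroupCongr h2) with hι
    obtain ⟨e1, he1⟩ := exists_centerQuot (A.L.π.comp ι.toMonoidHom) (A.L.surj.comp ι.surjective) (fun z hz => by
      rw [A.type.1, Subgroup.mem_bot] at hz
      refine Subgroup.mem_center_iff.2 fun g => ι.injective (Subtype.ext ?_)
      rw [map_mul, map_mul, Subgroup.coe_mul, Subgroup.coe_mul]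
      rcases (A.L.ker _).1 hz with h | h
      · rw [show ((ι z : ↥(Subgroup.centralizer ({d} : Set G))) : G) = 1 from h, one_mul, mul_one]
      · rw [show ((ι z : ↥(Subgroup.centralizer ({d} : Set G))) : G) = d from h]
        exact Subgroup.mem_centralizer_singleton_iff.1 (ι g).2)
    let e0 : Q ⧸ Subgroup.center Q ≃* Q :=
      (QuotientGroup.quotientMulEquivOfEq A.type.1).trans QuotientGroup.quotientBot
    refine isOfTypeM22_of_equiv (e1.trans e0) ?_ A.type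
    ext q
    constructor
    · rintro ⟨_, ⟨x, hx, rfl⟩, rfl⟩
      have hx' : f x ∈ nbr (conjugatesOf d) d := h1 ▸ Set.mem_image_of_mem f hx
      have e := A.L.mem _ hx'
      rw [MulEquiv.trans_apply, he1]
      exact e
    · intro hq
      obtain ⟨y, hy, he⟩ := A.L.cover q hq
      obtain ⟨x, hx, rfl⟩ : y ∈ f '' Nd := h1.symm ▸ hy
      refine ⟨_, ⟨⟨x, Subgroup.subset_closure hx⟩, hx, rfl⟩, ?_⟩
      rw [MulEquiv.trans_apply, he1]
      exact he
  · obtain ⟨c₃, hc₃, Q₀, h1, h2, ⟨φ⟩⟩ := A.exists_lpart hc hdc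
    have h3 : f '' ({y | y ∈ E' ∧ y ≠ d' ∧ Commute d' y} ∩ {y | y ∈ E' ∧ y ≠ c' ∧ Commute c' y}) =
        nbr (conjugatesOf d) d ∩ nbr (conjugatesOf d) c := by
      rw [Set.image_inter hf, himg d' hd', himg c' hc', hfd, hfc]
    exact ⟨c₃, hc₃, Q₀, h1, h2, ⟨((centerQuotEquiv (closureEquiv f hf _)).trans
      (centerQuotOfEq (congrArg Subgroup.closure h3))).trans φ⟩⟩

/-- The conjugates form a class of 3-transpositions, of type M(23). -/
theorem conclusion [Finite G] :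
    IsThreeTranspositionClass (conjugatesOf d) ∧ IsOfTypeM23 G (conjugatesOf d) := by
  have L := A.isLocal
  set H := compGroup d with hH
  have hE : H.subtype '' compClass d = compSet d := by
    ext x
    exact ⟨fun ⟨y, hy, h⟩ => h ▸ hy, fun hx => ⟨⟨x, Subgroup.subset_closure hx⟩, hx, rfl⟩⟩
  have h23 := A.isOfTypeM23_of_component H.subtype H.subtype_injective _ hE L.center_eq
  have hgrp := L.group
  have HH : M23.Hyp ↥H (compClass d) := ⟨hgrp, isPrimitive_of_M23 hgrp h23, h23⟩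
  obtain ⟨d₀, hd₀, hN, -⟩ := nice_of_isOfTypeM23 psu62Facts hgrp h23
  have S := L.comp (involution_classes23 HH) (pairUnique hgrp.1 hN.noTwins)
    (fun N hN => (CfsgLib.Transpositions.TypeM24.clique_M23 HH hN).1) (fun b hb P => A.no_odd b hb P)
    (Or.inr (by decide))
  refine ⟨L.isThreeTranspositionClass S,
    A.isOfTypeM23_of_component (MonoidHom.id G) Function.injective_id _ ?_ ?_⟩
  · rw [MonoidHom.coe_id, Set.image_id]; exact S.eq_class
  · rw [Subgroup.eq_bot_iff_forall]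
    intro z hz
    have hzH : z ∈ H := by rw [hH, S.eq_top]; exact Subgroup.mem_top z
    have h1 : (⟨z, hzH⟩ : ↥H) ∈ Subgroup.center ↥H :=
      Subgroup.mem_center_iff.2 fun g => Subtype.ext (Subgroup.mem_center_iff.1 hz g)
    rw [L.center_eq, Subgroup.mem_bot] at h1
    exact congrArg Subtype.val h1

end M22Data

end CfsgLib.SporFischer
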