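import Cfsg.Agent.SporFischer.Geom
import Cfsg.Agent.FischerTypes.InvolutionClasses
import Cfsg.Agent.ZStar.Theorem

/-!
# A component containing the centralizers of its members is everything

Let `K` be a connected set of members of a class `D` of involutions, `H` a subgroup in which `K` is a class
of 3-transpositions containing all centralizers of its members.  By the Z*-theorem the centralizer of a
product of two commuting members lies in `H`.  A member `x` outside would then give, for every such pair, a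
third member such that `x` commutes with the product of the three; this is impossible inside a maximal
commuting subset of 22 or 23 members.
-/

set_option autoImplicit false
set_option linter.unusedSectionVars false
set_option linter.style.haveILetI false

namespace CfsgLib.SporFischer

open Cfsg CfsgLib.FischerTypes

variable {G : Type*} [Group G]

/-- Adjacency inside the neighbourhood of `d`. -/
def NbrAdj (D : Set G) (d : G) (u v : G) : Prop := u ∈ nbr D d ∧ v ∈ nbr D d ∧ Commute u v

/-- A component with the centralizers of its members, and what is used about it before the last count. -/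
structure CompCore (D K : Set G) (H : Subgroup G) (d : G) (n : ℕ) : Prop where
  inv : ∀ x ∈ D, x * x = 1
  one : (1 : G) ∉ D
  closed : ∀ (g : G), ∀ x ∈ D, g * x * g⁻¹ ∈ D
  sub : K ⊆ D
  subH : K ⊆ H
  inter : ∀ x ∈ D, x ∈ H → x ∈ K
  nbrK : ∀ a ∈ K, nbr D a ⊆ K
  trans : ∀ a ∈ K, ∀ b ∈ K, ∃ h ∈ H, h * a * h⁻¹ = b
  cent : ∀ a ∈ K, Subgroup.centralizer ({a} : Set G) ≤ H
  three : IsThreeTranspositionSet K
  pairU : PairUnique K
  classes : ∀ v ∈ H, v * v = 1 → v ≠ 1 → ∃ l, IsCList K l ∧ l.length ≤ 3 ∧ l.prod = v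
  length_eq : ∀ l l' : List G, IsCList K l → IsCList K l' → l.length ≤ 2 → l'.length ≤ 2 →
    l.prod = l'.prod → l.length = l'.length
  mem_d : d ∈ K
  no_odd : ∀ b ∈ nbr D d, ∀ L : Subgroup G, Odd (Nat.card L) → L ≤ Subgroup.centralizer ({d, b} : Set G) →
    (∀ g ∈ Subgroup.centralizer ({d, b} : Set G), ∀ l ∈ L, g * l * g⁻¹ ∈ L) → L = ⊥
  conjD : ∀ x ∈ D, IsConj d x
  gen : Subgroup.centralizer ({d} : Set G) = Subgroup.closure (nbr D d)
  conn : ∀ b ∈ nbr D d, ∀ c ∈ nbr D d, Relation.ReflTransGen (NbrAdj D d) b c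
  two : ∀ b ∈ nbr D d, ∃ c ∈ nbr D d, c ≠ b ∧ Commute b c
  perfect : commutator ↥(Subgroup.centralizer ({d} : Set G)) = ⊤
  clique : ∀ M ⊆ K, (∀ a ∈ M, ∀ b ∈ M, Commute a b) → (∀ g ∈ K, (∀ a ∈ M, Commute g a) → g ∈ M) →
    M.ncard = n

/-- A component whose maximal commuting sets have a size excluding a member outside. -/
structure Comp (D K : Set G) (H : Subgroup G) (d : G) (n : ℕ) : Prop extends CompCore D K H d n where
  num : Odd (n - 1) ∨ ¬ 3 ∣ n * (n - 1)

/-- An automorphism of order two without fixed points on a subgroup of odd order inverts it. -/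
theorem inverts_of_fixedPointFree [Finite G] {a : G} (ha : a * a = 1) {N : Subgroup G}
    (hN : ∀ n ∈ N, a * n * a ∈ N) (hfix : ∀ n ∈ N, Commute a n → n = 1) : ∀ n ∈ N, a * n * a = n⁻¹ := by
  let f : ↥N → ↥N := fun n => ⟨(n : G)⁻¹ * (a * n * a), mul_mem (inv_mem n.2) (hN n n.2)⟩
  have hinj : Function.Injective f := fun m n h => by
    have h' : (m : G)⁻¹ * (a * m * a) = (n : G)⁻¹ * (a * n * a) := congrArg Subtype.val h
    have hc : Commute a ((n : G) * (m : G)⁻¹) := by
      have e : (n : G) * (m : G)⁻¹ * (a * m * a) = a * n * a := by rw [mul_assoc, h', mul_inv_cancel_left]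
      show a * ((n : G) * (m : G)⁻¹) = (n : G) * (m : G)⁻¹ * a
      calc a * ((n : G) * (m : G)⁻¹) = a * n * a * (a * (m : G)⁻¹) := by
            simp only [mul_assoc]; rw [← mul_assoc a a, ha, one_mul]
        _ = (n : G) * (m : G)⁻¹ * (a * m * a) * (a * (m : G)⁻¹) := by rw [e]
        _ = (n : G) * (m : G)⁻¹ * a := by simp only [mul_assoc]; rw [← mul_assoc a a, ha, one_mul, mul_inv_cancel, mul_one]
    exact Subtype.ext (mul_inv_eq_one.1 (hfix _ (mul_mem n.2 (inv_mem m.2)) hc)).symm
  intro n hn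
  obtain ⟨m, hm⟩ := (Finite.injective_iff_surjective.1 hinj) ⟨n, hn⟩
  have e : (m : G)⁻¹ * (a * m * a) = n := congrArg Subtype.val hm
  have ai : a⁻¹ = a := inv_eq_of_mul_eq_one_right ha
  rw [← e]
  simp only [_root_.mul_inv_rev, inv_inv, ai, mul_assoc]
  rw [ha, mul_one]

namespace CompCore

variable {D K : Set G} {H : Subgroup G} {d : G} {n : ℕ} (S : CompCore D K H d n)
include S

theorem sq {x : G} (hx : x ∈ D) : x * x = 1 := S.inv x hx

theorem inv' {x : G} (hx : x ∈ D) : x⁻¹ = x := inv_eq_of_mul_eq_one_right (S.inv x hx)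

/-- Conjugating a member into `K` can only be done inside `H`. -/
theorem control {a g : G} (ha : a ∈ K) (hga : g * a * g⁻¹ ∈ K) : g ∈ H := by
  obtain ⟨h, hh, he⟩ := S.trans _ hga a ha
  have hc : h * g ∈ Subgroup.centralizer ({a} : Set G) := by
    rw [Subgroup.mem_centralizer_singleton_iff, ← mul_inv_eq_iff_eq_mul]
    calc h * g * a * (h * g)⁻¹ = h * (g * a * g⁻¹) * h⁻¹ := by group
      _ = a := he
  simpa using mul_mem (inv_mem hh) (S.cent a ha hc)

theorem mem_K_of_conj {a g : G} (ha : a ∈ K) (hg : g ∈ H) : g * a * g⁻¹ ∈ K :=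
  S.inter _ (S.closed g a (S.sub ha)) (mul_mem (mul_mem hg (S.subH ha)) (inv_mem hg))

theorem mem_K_of_commute {a x : G} (ha : a ∈ K) (hx : x ∈ D) (hc : Commute a x) : x ∈ K := by
  by_cases e : x = a
  · exact e ▸ ha
  · exact S.nbrK a ha ⟨hx, e, hc⟩

/-- A member commuting with a product of two commuting members commutes with both. -/
theorem commute_pair {a b e : G} (ha : a ∈ K) (hb : b ∈ K) (hne : a ≠ b) (hab : Commute a b) (he : e ∈ K)
    (hc : Commute e (a * b)) : Commute e a ∧ Commute e b := by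
  have hfix : Commute e a → Commute e b := fun h => by
    have := h.mul_right hc
    rwa [← mul_assoc, S.sq (S.sub ha), one_mul] at this
  suffices h : Commute e a from ⟨h, hfix h⟩
  by_contra hea
  have he2 := S.sq (S.sub he)
  have hei := S.inv' (S.sub he)
  have hbr := braid S.three he ha hea
  have ha' : e * a * e ∈ K := by simpa [hei] using S.mem_K_of_conj ha (S.subH he)
  have hb' : e * b * e ∈ K := by simpa [hei] using S.mem_K_of_conj hb (S.subH he)
  have hprod : e * a * e * (e * b * e) = a * b := by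
    calc e * a * e * (e * b * e) = e * (a * b) * e := by
          simp only [mul_assoc]; rw [← mul_assoc e e, he2, one_mul]
      _ = a * b := by rw [hc.eq, mul_assoc, he2, mul_one]
  have hcc : Commute (e * a * e) (e * b * e) := by
    simpa [hei] using (commute_conj_iff' e a b).2 hab
  have hne' : e * a * e ≠ e * b * e := fun h => hne (mul_left_cancel (mul_right_cancel h))
  rcases S.pairU _ ha' _ hb' _ ha _ hb hne' hcc hne hab hprod with ⟨e1, -⟩ | ⟨e1, -⟩
  · refine hea ?_
    show e * a = a * e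
    calc e * a = e * a * e * e := by rw [mul_assoc _ e e, he2, mul_one]
      _ = a * e := by rw [e1]
  · -- `b = aea`, which does not commute with `a`
    refine hea ?_
    have h1 : Commute a (a * e * a) := by rw [← hbr, e1]; exact hab
    have ha2 := S.sq (S.sub ha)
    have h2 := h1.eq
    rw [← mul_assoc, ← mul_assoc, ha2, one_mul, mul_assoc _ a a, ha2, mul_one] at h2
    exact h2

/-- A product of two commuting members is no member. -/
theorem pair_not_mem {a b : G} (ha : a ∈ K) (hb : b ∈ K) (hne : a ≠ b) (hab : Commute a b) : a * b ∉ K := by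
  intro h
  have := S.length_eq [a * b] [a, b] ⟨by simp, by simp [h], by simp⟩
    ⟨by simp [hne], by simp [ha, hb], by simp [hab, hab.symm]⟩ (by simp) (by simp) (by simp)
  simp at this

section pairs

variable [Finite G]

/-- The odd subgroup of the centralizer of `d b` inverted by `d`. -/
def Inv (d b : G) : Set G :=
  {o | Commute o (d * b) ∧ d * o * d = o⁻¹ ∧ Odd (orderOf o)}

/-- The Z*-theorem at a pair containing `d`. -/
theorem exists_core {b : G} (hb : b ∈ nbr D d) : ∃ N : Subgroup G, Odd (Nat.card N) ∧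
    (∀ g, Commute g (d * b) → ∀ x ∈ N, g * x * g⁻¹ ∈ N) ∧ (N : Set G) = Inv d b ∧
    ∀ g, Commute g (d * b) → N = ⊥ → g * d * g⁻¹ = d ∨ g * d * g⁻¹ = b := by
  classical
  obtain ⟨hbD, hbd, hdb⟩ := hb
  have hd := S.sub S.mem_d
  have hbK := S.nbrK d S.mem_d ⟨hbD, hbd, hdb⟩
  set t := d * b with ht
  have hd2 := S.sq hd
  have hb2 := S.sq hbD
  have ht2 : t * t = 1 := by rw [ht, hdb.symm.mul_mul_mul_comm, hd2, hb2, one_mul]
  have ht1 : t ≠ 1 := fun h => hbd (by
    calc b = (d * d) * b := by rw [hd2, one_mul]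
      _ = d := by rw [mul_assoc, ← ht, h, mul_one])
  have hdt : Commute d t := (Commute.refl d).mul_right hdb
  have hdtb : d * t = b := by rw [ht, ← mul_assoc, hd2, one_mul]
  set T := Subgroup.centralizer ({t} : Set G) with hT
  have hmT : ∀ {g}, g ∈ T ↔ Commute g t := fun {g} => Subgroup.mem_centralizer_singleton_iff
  let t' : ↥T := ⟨t, hmT.2 (Commute.refl t)⟩
  let a' : ↥T := ⟨d, hmT.2 hdt⟩
  have hZc : ∀ z ∈ Subgroup.zpowers t', z = 1 ∨ z = t' := by
    intro z hz
    obtain ⟨k, rfl⟩ := Subgroup.mem_zpowers_iff.1 hz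
    have h2 : t' ^ (2 : ℤ) = 1 := by rw [zpow_two]; exact Subtype.ext ht2
    rcases Int.even_or_odd' k with ⟨m, rfl | rfl⟩
    · left; rw [zpow_mul, h2, one_zpow]
    · right; rw [zpow_add, zpow_mul, h2, one_zpow, one_mul, zpow_one]
  haveI hZn : (Subgroup.zpowers t').Normal := ⟨fun z hz g => by
    have : Commute (g : G) (z : G) := by
      rcases hZc z hz with rfl | rfl
      · exact Commute.one_right _
      · exact hmT.1 g.2
    rwa [show g * z * g⁻¹ = z from Subtype.ext (by
      show (g : G) * z * (g : G)⁻¹ = z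
      rw [this.eq, mul_inv_cancel_right])]⟩
  set q := QuotientGroup.mk' (Subgroup.zpowers t') with hq
  have hqeq : ∀ {u v : ↥T}, q u = q v → (v : G) = u ∨ (v : G) = u * t := by
    intro u v h
    rcases hZc _ (QuotientGroup.eq.1 h) with e | e
    · exact Or.inl (congrArg Subtype.val (inv_mul_eq_one.1 e)).symm
    · exact Or.inr (congrArg Subtype.val (inv_mul_eq_iff_eq_mul.1 e))
  have hqt : q t' = 1 := (QuotientGroup.eq_one_iff _).2 (Subgroup.mem_zpowers t')
  -- `d` is isolated modulo `t`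
  have hiso : IsIsolatedInvolution (q a') := by
    refine ⟨orderOf_eq_prime (by rw [pow_two, ← map_mul, show a' * a' = 1 from Subtype.ext hd2, map_one])
      fun h => ?_, fun g hc => ?_⟩
    · rcases hqeq (h.trans q.map_one.symm).symm with e | e
      · have e' : d = 1 := e
        exact S.one (e' ▸ hd)
      · have e' : d = t := e.trans (one_mul t)
        exact S.pair_not_mem S.mem_d hbK (Ne.symm hbd) hdb (ht ▸ e' ▸ S.mem_d)
    obtain ⟨g, rfl⟩ := QuotientGroup.mk'_surjective _ g
    set c : G := (g : G) * d * (g : G)⁻¹ with hc'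
    have hcD : c ∈ D := S.closed _ _ hd
    have hcomm : q (g * a' * g⁻¹) = q (a' * (g * a' * g⁻¹) * a') := by
      rw [map_mul q (a' * _), map_mul q a', map_mul, map_mul, map_inv]
      rw [show q a' * (q g * q a' * (q g)⁻¹) * q a' = (q g * q a' * (q g)⁻¹) * (q a' * q a') by
        rw [← mul_assoc (q g * q a' * (q g)⁻¹), ← (show Commute (q a') (q g * q a' * (q g)⁻¹) from hc).eq]]
      rw [← map_mul q a' a', show a' * a' = 1 from Subtype.ext hd2, map_one, mul_one]
    have hcase : d * c * d = c ∨ d * c * d = c * t := hqeq hcomm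
    suffices h : c = d ∨ c = b by
      rw [← map_inv, ← map_mul, ← map_mul]
      rcases h with e | e
      · exact congrArg q (Subtype.ext e)
      · rw [show g * a' * g⁻¹ = a' * t' from Subtype.ext (e.trans hdtb.symm), map_mul, hqt, mul_one]
    rcases hcase with e | e
    · have hdc : Commute d c := by
        show d * c = c * d
        calc d * c = d * c * d * d := by rw [mul_assoc (d * c), hd2, mul_one]
          _ = c * d := by rw [e]
      have hcK := S.mem_K_of_commute S.mem_d hcD hdc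
      set c2 : G := (g : G) * b * (g : G)⁻¹ with hc2
      have hcc : Commute c c2 := (commute_conj_iff' _ d b).2 hdb
      have hc2K := S.mem_K_of_commute hcK (S.closed _ _ hbD) hcc
      have hprod : c * c2 = t := by
        calc c * c2 = (g : G) * t * (g : G)⁻¹ := by rw [hc', hc2, ht]; group
          _ = t := by rw [(hmT.1 g.2).eq, mul_inv_cancel_right]
      rcases S.pairU _ hcK _ hc2K _ S.mem_d _ hbK (fun h => hbd (mul_left_cancel (mul_right_cancel h)).symm)
        hcc (Ne.symm hbd) hdb hprod with ⟨e, -⟩ | ⟨e, -⟩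
      · exact Or.inl e
      · exact Or.inr e
    · exfalso
      have hci := S.inv' hcD
      have h1 : c * d * c⁻¹ = b := by
        rw [hci]
        calc c * d * c = d * (d * c * d) * c := by simp only [← mul_assoc, hd2, one_mul]
          _ = d * t := by
            rw [e]; simp only [mul_assoc]
            rw [show t * c = c * t from (((hmT.1 g.2).mul_left hdt).mul_left (hmT.1 g.2).inv_left).eq.symm,
              ← mul_assoc c c, S.sq hcD, one_mul]
          _ = b := hdtb
      have hcK := S.inter c hcD (S.control S.mem_d (by rw [h1]; exact hbK))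
      rcases S.three.2 d S.mem_d c hcK with h | h
      · rw [pow_two, show d * c * (d * c) = d * c * d * c by simp only [mul_assoc], e,
          mul_assoc, show t * c = c * t from (((hmT.1 g.2).mul_left hdt).mul_left (hmT.1 g.2).inv_left).eq.symm,
          ← mul_assoc, S.sq hcD, one_mul] at h
        exact ht1 h
      · have hsq : d * c * (d * c) = t := by
          rw [show d * c * (d * c) = d * c * d * c by simp only [mul_assoc], e, mul_assoc,
            show t * c = c * t from (((hmT.1 g.2).mul_left hdt).mul_left (hmT.1 g.2).inv_left).eq.symm,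
            ← mul_assoc, S.sq hcD, one_mul]
        have h4 : (d * c) ^ 4 = 1 := by rw [show (4 : ℕ) = 2 + 2 from rfl, pow_add, pow_two, hsq, ht2]
        rw [pow_succ (d * c) 3, h, one_mul] at h4
        rw [h4, one_mul] at hsq
        exact ht1 hsq.symm
  obtain ⟨N₁, hN₁n, hN₁o, hN₁⟩ := CfsgLib.ZStar.exists_oddNormal hiso
  haveI := hN₁n
  set P := N₁.comap q with hP
  have hZP : Subgroup.zpowers t' ≤ P := fun z hz => by
    show q z ∈ N₁
    have e : q z = 1 := (QuotientGroup.eq_one_iff z).2 hz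
    rw [e]; exact one_mem _
  -- elements of odd order in the preimage
  set Z := (Subgroup.zpowers t').subgroupOf P with hZ
  haveI : Z.Normal := inferInstance
  have hZcard : Nat.card Z = 2 := by
    rw [Nat.card_congr (Subgroup.subgroupOfEquivOfLe hZP).toEquiv, Nat.card_zpowers]
    exact orderOf_eq_prime (by rw [pow_two]; exact Subtype.ext ht2) fun h => ht1 (congrArg Subtype.val h)
  have hZi : Odd Z.index := by
    let f : ↥P →* ↥N₁ := q.subgroupComap N₁
    have hf : Function.Surjective f := fun b => by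
      obtain ⟨p, hp⟩ := QuotientGroup.mk'_surjective _ (b : ↥T ⧸ Subgroup.zpowers t')
      exact ⟨⟨p, show q p ∈ N₁ from hp ▸ b.2⟩, Subtype.ext hp⟩
    have hk : f.ker = Z := by
      ext z
      rw [MonoidHom.mem_ker, Subtype.ext_iff, hZ, Subgroup.mem_subgroupOf]
      exact QuotientGroup.eq_one_iff _
    rw [← hk, Subgroup.index_ker, MonoidHom.range_eq_top.2 hf, Subgroup.card_top]
    exact hN₁o
  obtain ⟨R, hR⟩ := Subgroup.exists_right_complement'_of_coprime (N := Z)
    (by rw [hZcard]; exact Nat.coprime_two_left.2 hZi)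
  have hRcard : Odd (Nat.card R) := hR.symm.index_eq_card ▸ hZi
  have hRc : ∀ p : ↥P, p ∈ R ↔ Odd (orderOf p) := by
    intro p
    refine ⟨fun h => hRcard.of_dvd_nat (Subgroup.orderOf_dvd_natCard R h), fun h => ?_⟩
    obtain ⟨⟨⟨z, hz⟩, ⟨r, hr⟩⟩, he⟩ := hR.2 p
    simp only at he
    rcases hZc _ hz with e | e
    · rw [← he, show z = 1 from Subtype.ext e, one_mul]; exact hr
    exfalso
    replace e : (z : ↥T) = t' := e
    have hzr : Commute z r := Subtype.ext (Subtype.ext (by
      show (((z : ↥T) : G)) * ((r : ↥T) : G) = ((r : ↥T) : G) * ((z : ↥T) : G)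
      rw [e]; exact (hmT.1 (r : ↥T).2).eq.symm))
    have hz2 : orderOf z = 2 := orderOf_eq_prime (Subtype.ext (by
      show ((z : ↥T)) ^ 2 = 1
      rw [e, pow_two]; exact Subtype.ext ht2)) fun h0 => ht1 (by
        rw [show t = ((z : ↥T) : G) from (congrArg Subtype.val e).symm, h0]; rfl)
    have hro : Odd (orderOf r) := hRcard.of_dvd_nat (Subgroup.orderOf_dvd_natCard R hr)
    have ho := hzr.orderOf_mul_eq_mul_orderOf_of_coprime (by rw [hz2]; exact Nat.coprime_two_left.2 hro)
    rw [he, hz2] at ho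
    rw [ho] at h
    exact Nat.not_even_iff_odd.2 h (even_two_mul _)
  set N : Subgroup G := R.map (T.subtype.comp P.subtype) with hN
  have hφinj : Function.Injective (T.subtype.comp P.subtype) :=
    T.subtype_injective.comp P.subtype_injective
  have hNc : ∀ x, x ∈ N ↔ ∃ hx : x ∈ T, (⟨x, hx⟩ : ↥T) ∈ P ∧ Odd (orderOf x) := by
    intro x
    constructor
    · rintro ⟨p, hp, rfl⟩
      exact ⟨p.1.2, p.2, by rw [orderOf_injective _ hφinj]; exact (hRc p).1 hp⟩
    · rintro ⟨hx, hxP, ho⟩
      refine ⟨⟨⟨x, hx⟩, hxP⟩, (hRc _).2 ?_, rfl⟩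
      rw [← orderOf_injective _ hφinj]
      exact ho
  have hNconj : ∀ g, Commute g t → ∀ x ∈ N, g * x * g⁻¹ ∈ N := by
    intro g hg x hx
    obtain ⟨hxT, hxP, ho⟩ := (hNc x).1 hx
    have hgT := hmT.2 hg
    refine (hNc _).2 ⟨mul_mem (mul_mem hgT hxT) (inv_mem hgT), ?_, ?_⟩
    · show q (⟨g, hgT⟩ * ⟨x, hxT⟩ * (⟨g, hgT⟩ : ↥T)⁻¹) ∈ N₁
      rw [map_mul, map_mul, map_inv]
      exact hN₁n.conj_mem _ hxP _
    · rwa [show g * x * g⁻¹ = MulAut.conj g x from rfl, MulEquiv.orderOf_eq]
  have hNodd : Odd (Nat.card N) := by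
    rw [hN, Subgroup.card_map_of_injective hφinj]; exact hRcard
  have hNT : ∀ x ∈ N, Commute x t := fun x hx => hmT.1 ((hNc x).1 hx).1
  -- the involution inverts them
  have hfix : ∀ x ∈ N, Commute d x → x = 1 := by
    intro x hx hdx
    have hbot := S.no_odd b ⟨hbD, hbd, hdb⟩ (N ⊓ Subgroup.centralizer ({d, b} : Set G))
      (hNodd.of_dvd_nat (Subgroup.card_dvd_of_le inf_le_left)) inf_le_right (fun g hg l hl => by
        have hgd := (Subgroup.mem_centralizer_iff.1 hg d (by simp))
        have hgb := (Subgroup.mem_centralizer_iff.1 hg b (by simp))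
        exact ⟨hNconj g ((show Commute g d from hgd.symm).mul_right (show Commute g b from hgb.symm)) l hl.1,
          Subgroup.mul_mem _ (Subgroup.mul_mem _ hg hl.2) (Subgroup.inv_mem _ hg)⟩)
    have hxb : Commute b x := by rw [← hdtb]; exact hdx.mul_left (hNT x hx).symm
    have : x ∈ N ⊓ Subgroup.centralizer ({d, b} : Set G) :=
      ⟨hx, Subgroup.mem_centralizer_iff.2 (by rintro y (rfl | rfl); exacts [hdx.eq, hxb.eq])⟩
    rwa [hbot, Subgroup.mem_bot] at this
  have hinv := inverts_of_fixedPointFree hd2 (N := N)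
    (fun x hx => by simpa [S.inv' hd] using hNconj d hdt x hx) hfix
  refine ⟨N, hNodd, hNconj, Set.Subset.antisymm (fun x hx => ⟨hNT x hx, hinv x hx,
    hNodd.of_dvd_nat (Subgroup.orderOf_dvd_natCard N hx)⟩) ?_, fun g hg hbot => ?_⟩
  · rintro o ⟨hot, hoi, hoo⟩
    have hoT := hmT.2 hot
    have h1 := hN₁ (q ⟨o, hoT⟩)
    have e : q a' * q ⟨o, hoT⟩ * (q a')⁻¹ * (q ⟨o, hoT⟩)⁻¹ = q (⟨o, hoT⟩⁻¹ * ⟨o, hoT⟩⁻¹) := by
      rw [← map_inv, ← map_inv, ← map_mul, ← map_mul, ← map_mul]
      refine congrArg q (Subtype.ext ?_)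
      show d * o * d⁻¹ * o⁻¹ = o⁻¹ * o⁻¹
      rw [S.inv' hd, hoi]
    rw [e] at h1
    have hsq : o * o ∈ N := by
      have h2 : o⁻¹ * o⁻¹ ∈ N := (hNc _).2 ⟨mul_mem (inv_mem hoT) (inv_mem hoT), h1, by
        rw [← _root_.mul_inv_rev, orderOf_inv, ← pow_two]; exact hoo.of_dvd_nat (orderOf_pow_dvd 2)⟩
      simpa [_root_.mul_inv_rev] using inv_mem h2
    obtain ⟨k, hk⟩ := hoo
    have : (o * o) ^ (k + 1) = o := by
      rw [← pow_two, ← pow_mul, show 2 * (k + 1) = (2 * k + 1) + 1 by ring, ← hk, pow_succ, pow_orderOf_eq_one,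
        one_mul]
    exact this ▸ pow_mem hsq _
  · have h1 := hN₁ (q ⟨g, hmT.2 hg⟩)
    have hN₁bot : ∀ u : ↥T, q u ∈ N₁ → q u = 1 := by
      intro u hu
      obtain ⟨⟨⟨z, hz⟩, ⟨r, hr⟩⟩, he⟩ := hR.2 ⟨u, hu⟩
      simp only at he
      have hr1 : ((r : ↥T) : G) ∈ N := ⟨r, hr, rfl⟩
      rw [hbot, Subgroup.mem_bot] at hr1
      have : u = (z : ↥T) := by
        have := congrArg Subtype.val he
        rw [Subgroup.coe_mul, show (r : ↥T) = 1 from Subtype.ext hr1, mul_one] at this
        exact this.symm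
      rw [this]
      exact (QuotientGroup.eq_one_iff _).2 hz
    rw [← map_inv, ← map_inv, ← map_mul, ← map_mul, ← map_mul] at h1
    have h2 := hN₁bot _ h1
    rcases hqeq h2.symm with e | e
    · left
      have e' : d * g * d⁻¹ * g⁻¹ = 1 := e.trans rfl
      rw [mul_inv_eq_one, mul_inv_eq_iff_eq_mul] at e'
      rw [← e', mul_inv_cancel_right]
    · right
      have e' : d * g * d⁻¹ * g⁻¹ = t := e.trans (one_mul t)
      calc g * d * g⁻¹ = d * (d * g * d⁻¹ * g⁻¹) := by
            rw [S.inv' hd]; simp only [← mul_assoc, hd2, one_mul]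
        _ = b := by rw [e', hdtb]

theorem inv_subset {b c : G} (hb : b ∈ nbr D d) (hc : c ∈ nbr D d) (_hne : c ≠ b) (hbc : Commute b c) :
    Inv d b ⊆ Inv d c ∧ ∀ o ∈ Inv d b, c * o * c = o⁻¹ := by
  obtain ⟨N, -, hNc, hN, -⟩ := S.exists_core hb
  obtain ⟨hcD, hcd, hdc⟩ := hc
  have hcK := S.nbrK d S.mem_d ⟨hcD, hcd, hdc⟩
  have hbK := S.nbrK d S.mem_d hb
  have hct : Commute c (d * b) := hdc.symm.mul_right hbc.symm
  have hfix : ∀ x ∈ N, Commute c x → x = 1 := by
    intro x hx hcx
    obtain ⟨hxt, hxi, hxo⟩ : x ∈ Inv d b := hN ▸ hx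
    -- it is in `H`, so it permutes `d` and `b`
    have hxH : x ∈ H := S.cent c hcK (Subgroup.mem_centralizer_singleton_iff.2 hcx.eq.symm)
    have hprod : x * d * x⁻¹ * (x * b * x⁻¹) = d * b := by
      calc x * d * x⁻¹ * (x * b * x⁻¹) = x * (d * b) * x⁻¹ := by group
        _ = d * b := by rw [hxt.eq, mul_inv_cancel_right]
    have hd2 := S.sq (S.sub S.mem_d)
    have hxx : x * x = d * (x⁻¹ * d * x) := by
      have hi : d * x⁻¹ * d = x := by
        rw [← hxi]; simp only [← mul_assoc, hd2, one_mul, mul_assoc _ d d, mul_one]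
      rw [← mul_assoc, ← mul_assoc, hi]
    have hxdb : x * d * x⁻¹ = d ∨ x * d * x⁻¹ = b := by
      rcases S.pairU _ (S.mem_K_of_conj S.mem_d hxH) _ (S.mem_K_of_conj hbK hxH) _ S.mem_d _ hbK
        (fun h => hb.2.1 (mul_left_cancel (mul_right_cancel h)).symm) ((commute_conj_iff' x d b).2 hb.2.2)
        (Ne.symm hb.2.1) hb.2.2 hprod with ⟨e, -⟩ | ⟨e, -⟩
      exacts [Or.inl e, Or.inr e]
    have hxd : x * d * x⁻¹ = d := by
      rcases hxdb with e | e
      · exact e
      exfalso
      -- otherwise `x² = d b` has even order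
      have h1 : x * x = d * b := by
        have h2 : x⁻¹ * d * x = b := by
          have h3 : x * b * x⁻¹ = d := by
            rw [e] at hprod
            refine mul_left_cancel (a := b) ?_
            rw [hprod, hb.2.2.eq]
          calc x⁻¹ * d * x = x⁻¹ * (x * b * x⁻¹) * x := by rw [h3]
            _ = b := by group
        rw [hxx, h2]
      have h2 : orderOf (x * x) ∣ orderOf x := pow_two x ▸ orderOf_pow_dvd 2
      rw [h1, orderOf_eq_prime (p := 2) (by
        rw [pow_two, hb.2.2.symm.mul_mul_mul_comm, hd2, S.sq hb.1, one_mul]) (fun h => hb.2.1 (by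
          calc b = (d * d) * b := by rw [hd2, one_mul]
            _ = d := by rw [mul_assoc, h, mul_one]))] at h2
      exact Nat.not_even_iff_odd.2 hxo (even_iff_two_dvd.2 h2)
    have hdx : Commute d x := (mul_inv_eq_iff_eq_mul.1 hxd).symm
    rw [hdx.eq, mul_assoc, hd2, mul_one] at hxi
    have hx2 : x * x = 1 := by nth_rewrite 2 [hxi]; exact mul_inv_cancel x
    obtain ⟨k, hk⟩ := hxo
    have := pow_orderOf_eq_one x
    rwa [hk, pow_succ, pow_mul, pow_two, hx2, one_pow, one_mul] at this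
  have hinvc := inverts_of_fixedPointFree (S.sq hcD) (N := N)
    (fun x hx => by simpa [S.inv' hcD] using hNc c hct x hx) hfix
  refine ⟨fun o ho => ?_, fun o ho => hinvc o (hN.symm ▸ ho : o ∈ (N : Set G))⟩
  obtain ⟨hot, hoi, hoo⟩ := id ho
  have hco := hinvc o (hN.symm ▸ ho : o ∈ (N : Set G))
  refine ⟨?_, hoi, hoo⟩
  have hd2 := S.sq (S.sub S.mem_d)
  have h1 : d * c * o * (c * d) = o := by
    calc d * c * o * (c * d) = d * (c * o * c) * d := by simp only [mul_assoc]
      _ = (d * o * d)⁻¹ := by rw [hco, _root_.mul_inv_rev, _root_.mul_inv_rev, S.inv' (S.sub S.mem_d), mul_assoc]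
      _ = o := by rw [hoi, inv_inv]
  show o * (d * c) = d * c * o
  calc o * (d * c) = d * c * o * (c * d) * (d * c) := by rw [h1]
    _ = d * c * o := by
      simp only [mul_assoc]; rw [← mul_assoc d d, hd2, one_mul, S.sq hcD, mul_one]

/-- The centralizer of a product of two commuting members. -/
theorem centralizer_pair_d {b : G} (hb : b ∈ nbr D d) : Subgroup.centralizer ({d * b} : Set G) ≤ H := by
  have hconn : ∀ c ∈ nbr D d, Inv d c = Inv d b := by
    intro c hc
    have := S.conn b hb c hc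
    induction this with
    | refl => rfl
    | @tail u v _ huv ih =>
      obtain ⟨hu, hv, huv⟩ := huv
      by_cases e : v = u
      · rw [e]; exact ih hu
      · rw [← ih hu]
        exact Set.Subset.antisymm (S.inv_subset hv hu (Ne.symm e) huv.symm).1 (S.inv_subset hu hv e huv).1
  have hall : ∀ c ∈ nbr D d, ∀ o ∈ Inv d b, c * o * c = o⁻¹ := fun c hc o ho => by
    obtain ⟨e, he, hec, hce⟩ := S.two c hc
    exact (S.inv_subset he hc (Ne.symm hec) hce.symm).2 o (hconn e he ▸ ho)
  obtain ⟨N, -, hNc, hN, hfin⟩ := S.exists_core hb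
  -- the centralizer of `d` normalises and acts by signs
  have hact : ∀ g ∈ Subgroup.centralizer ({d} : Set G), ∀ o ∈ Inv d b, g * o * g⁻¹ ∈ Inv d b := by
    intro g hg o ho
    have hgd : Commute g d := Subgroup.mem_centralizer_singleton_iff.1 hg
    have hbb : g * b * g⁻¹ ∈ nbr D d := by
      refine ⟨S.closed g b hb.1, fun h => hb.2.1 ?_, ?_⟩
      · calc b = g⁻¹ * (g * b * g⁻¹) * g := by group
          _ = d := by rw [h, mul_assoc, ← hgd.eq, inv_mul_cancel_left]
      · have := (commute_conj_iff' g d b).2 hb.2.2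
        rwa [hgd.eq, mul_inv_cancel_right] at this
    rw [← hconn _ hbb]
    obtain ⟨h1, h2, h3⟩ := ho
    have hdg : d = g * d * g⁻¹ := by rw [hgd.eq, mul_inv_cancel_right]
    refine ⟨?_, ?_, ?_⟩
    · have := (commute_conj_iff' g o (d * b)).2 h1
      rwa [show g * (d * b) * g⁻¹ = (g * d * g⁻¹) * (g * b * g⁻¹) by group, ← hdg] at this
    · rw [hdg, show g * d * g⁻¹ * (g * o * g⁻¹) * (g * d * g⁻¹) = g * (d * o * d) * g⁻¹ by group, h2]
      group
    · rwa [show g * o * g⁻¹ = MulAut.conj g o from rfl, MulEquiv.orderOf_eq]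
  have hNbot : N = ⊥ := by
    set C := Subgroup.centralizer ({d} : Set G)
    let φ : ↥C →* Equiv.Perm ↥N :=
      { toFun := fun g => (MulAut.conj (g : G)).toEquiv.subtypeEquiv (fun o => by
          show o ∈ (N : Set G) ↔ (g : G) * o * (g : G)⁻¹ ∈ (N : Set G)
          rw [hN]
          refine ⟨hact g g.2 o, fun h => ?_⟩
          have := hact _ (inv_mem g.2) _ h
          rwa [show (g : G)⁻¹ * ((g : G) * o * (g : G)⁻¹) * (g : G)⁻¹⁻¹ = o by group] at this)
        map_one' := Equiv.ext fun o => Subtype.ext (by simp)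
        map_mul' := fun g h => Equiv.ext fun o => Subtype.ext (by simp [mul_assoc]) }
    have hd2 := S.sq (S.sub S.mem_d)
    have hinvd : ∀ o : ↥N, (φ ⟨d, Subgroup.mem_centralizer_singleton_iff.2 rfl⟩ o : G) = (o : G)⁻¹ :=
      fun o => by
        show d * (o : G) * d⁻¹ = _
        rw [S.inv' (S.sub S.mem_d)]
        exact (hN ▸ o.2 : (o : G) ∈ Inv d b).2.1
    -- every neighbour acts as the inversion
    have hgenc : ∀ c (hc : c ∈ nbr D d), φ ⟨c, Subgroup.mem_centralizer_singleton_iff.2 hc.2.2.eq.symm⟩ =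
        φ ⟨d, Subgroup.mem_centralizer_singleton_iff.2 rfl⟩ := fun c hc => Equiv.ext fun o => Subtype.ext (by
      rw [hinvd o]
      show c * (o : G) * c⁻¹ = _
      rw [S.inv' hc.1]
      exact hall c hc o (hN ▸ o.2 : (o : G) ∈ Inv d b))
    set δ := φ ⟨d, Subgroup.mem_centralizer_singleton_iff.2 rfl⟩ with hδ
    have hpow : ∀ g : ↥C, φ g ∈ Subgroup.zpowers δ := by
      rintro ⟨g, hg⟩
      have hg' : g ∈ Subgroup.closure (nbr D d) := S.gen ▸ hg
      induction hg' using Subgroup.closure_induction with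
      | mem c hc => rw [hgenc c hc]; exact Subgroup.mem_zpowers _
      | one => rw [show (⟨1, hg⟩ : ↥C) = 1 from rfl, map_one]; exact one_mem _
      | mul x y hx hy ihx ihy =>
        rw [← S.gen] at hx hy
        rw [show (⟨x * y, hg⟩ : ↥C) = ⟨x, hx⟩ * ⟨y, hy⟩ from rfl, map_mul]
        exact mul_mem (ihx hx) (ihy hy)
      | inv x hx ih =>
        rw [← S.gen] at hx
        rw [show (⟨x⁻¹, hg⟩ : ↥C) = ⟨x, hx⟩⁻¹ from rfl, map_inv]
        exact inv_mem (ih hx)
    have hker : commutator ↥C ≤ φ.ker := by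
      rw [commutator_def, Subgroup.commutator_le]
      intro x _ y _
      rw [MonoidHom.mem_ker, map_commutatorElement, commutatorElement_eq_one_iff_commute]
      obtain ⟨i, hi⟩ := Subgroup.mem_zpowers_iff.1 (hpow x)
      obtain ⟨k, hk⟩ := Subgroup.mem_zpowers_iff.1 (hpow y)
      rw [← hi, ← hk]
      exact (Commute.refl δ).zpow_zpow i k
    have hperf : commutator ↥C = ⊤ := S.perfect
    rw [hperf] at hker
    rw [Subgroup.eq_bot_iff_forall]
    intro o ho
    have h1 := hinvd ⟨o, ho⟩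
    rw [show δ = 1 from MonoidHom.mem_ker.1 (hker (Subgroup.mem_top _)), Equiv.Perm.one_apply] at h1
    have h2 : o * o = 1 := by
      have h1' : o = o⁻¹ := h1
      nth_rewrite 2 [h1']
      exact mul_inv_cancel o
    obtain ⟨k, hk⟩ := (hN ▸ ho : o ∈ Inv d b).2.2
    have h3 := pow_orderOf_eq_one o
    rwa [hk, pow_succ, pow_mul, pow_two, h2, one_pow, one_mul] at h3
  intro g hg
  rcases hfin g (Subgroup.mem_centralizer_singleton_iff.1 hg) hNbot with e | e
  · exact S.control S.mem_d (e.symm ▸ S.mem_d)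
  · exact S.control S.mem_d (e.symm ▸ S.nbrK d S.mem_d hb)

/-- The centralizer of every product of two commuting members of `K`. -/
theorem centralizer_pair {a b : G} (ha : a ∈ K) (hb : b ∈ K) (hne : a ≠ b) (hab : Commute a b) :
    Subgroup.centralizer ({a * b} : Set G) ≤ H := by
  obtain ⟨h, hh, he⟩ := S.trans a ha d S.mem_d
  have hb' : h * b * h⁻¹ ∈ nbr D d := by
    refine ⟨S.closed h b (S.sub hb), fun e => hne ?_, ?_⟩
    · rw [← he] at e; exact (mul_left_cancel (mul_right_cancel e)).symm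
    · have := (commute_conj_iff' h a b).2 hab
      rwa [he] at this
  intro g hg
  have hg' : Commute g (a * b) := Subgroup.mem_centralizer_singleton_iff.1 hg
  have := (commute_conj_iff' h g (a * b)).2 hg'
  rw [show h * (a * b) * h⁻¹ = h * a * h⁻¹ * (h * b * h⁻¹) by group, he] at this
  have hk := mul_mem (mul_mem (inv_mem hh)
    (S.centralizer_pair_d hb' (Subgroup.mem_centralizer_singleton_iff.2 this))) hh
  rwa [show h⁻¹ * (h * g * h⁻¹) * h = g by group] at hk

/-- A member commuting with a product of two commuting members of `K` is in `K`. -/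
theorem mem_K_of_commute_pair {a b x : G} (ha : a ∈ K) (hb : b ∈ K) (hne : a ≠ b) (hab : Commute a b)
    (hx : x ∈ D) (hc : Commute x (a * b)) : x ∈ K :=
  S.inter x hx (S.centralizer_pair ha hb hne hab (Subgroup.mem_centralizer_singleton_iff.2 hc.eq))

/-- The condition on a third member completing `a b` to a triple centralized by `x`. -/
def Third (K : Set G) (x a b e : G) : Prop :=
  e ∈ K ∧ e ≠ a ∧ e ≠ b ∧ Commute e a ∧ Commute e b ∧ Commute x (a * b * e)

/-- A member outside gives a unique third member for every pair. -/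
theorem exists_third {x : G} (hx : x ∈ D) (hxK : x ∉ K) {a b : G} (ha : a ∈ K) (hb : b ∈ K) (hne : a ≠ b)
    (hab : Commute a b) : ∃ e, Third K x a b e ∧ (∀ e', Third K x a b e' → e' = e) ∧
      ∀ f, Commute f x → Commute f (a * b) → Commute f (a * b * e) := by
  set z := a * b with hz
  have hxx := S.sq hx
  have hzz : z * z = 1 := by
    rw [hz, hab.symm.mul_mul_mul_comm, S.sq (S.sub ha), S.sq (S.sub hb), one_mul]
  have hzH : z ∈ H := mul_mem (S.subH ha) (S.subH hb)
  set p := z * x with hp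
  have hxpx : x * p * x⁻¹ = p⁻¹ := by
    rw [hp, _root_.mul_inv_rev, inv_eq_of_mul_eq_one_right hxx, inv_eq_of_mul_eq_one_right hzz]
    simp only [mul_assoc, hxx, mul_one]
  have hrot : ∀ k : ℕ, p ^ k * x * (p ^ k)⁻¹ = p ^ (2 * k) * x := fun k => by
    have e : x * p ^ k * x⁻¹ = (p ^ k)⁻¹ := by rw [← conj_pow, hxpx, inv_pow]
    rw [mul_inv_eq_iff_eq_mul] at e
    have e' : p ^ k * x = x * (p ^ k)⁻¹ := by
      calc p ^ k * x = p ^ k * ((p ^ k)⁻¹ * x * (p ^ k)⁻¹) * 1 := by rw [← e]; group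
        _ = x * (p ^ k)⁻¹ := by group
    rw [mul_assoc, ← e', ← mul_assoc, two_mul, pow_add]
  rcases Nat.even_or_odd' (orderOf p) with ⟨m, hm | hm⟩
  swap
  · refine absurd (S.inter z ?_ hzH) (S.pair_not_mem ha hb hne hab)
    have e := hrot (m + 1)
    rw [show 2 * (m + 1) = orderOf p + 1 by omega, pow_succ p (orderOf p), pow_orderOf_eq_one, one_mul,
      show p * x = z by rw [hp, mul_assoc, hxx, mul_one]] at e
    exact e ▸ S.closed _ x hx
  set v := p ^ m with hv
  have hpm : 0 < orderOf p := orderOf_pos p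
  have hv1 : v ≠ 1 := fun h => by
    have := Nat.le_of_dvd (by omega) (orderOf_dvd_of_pow_eq_one h)
    omega
  have hv2 : v * v = 1 := by rw [hv, ← pow_add, ← two_mul, ← hm, pow_orderOf_eq_one]
  have hvp : Commute p v := Commute.self_pow p m
  have hvx : Commute x v := by
    show x * v = v * x
    have e : x * v * x⁻¹ = v⁻¹ := by rw [hv, ← conj_pow, hxpx, inv_pow]
    rw [inv_eq_of_mul_eq_one_right hv2] at e
    exact mul_inv_eq_iff_eq_mul.1 e
  have hvz : Commute z v := by
    have e := hvp.mul_left hvx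
    rwa [hp, mul_assoc, hxx, mul_one] at e
  have hvH : v ∈ H := S.centralizer_pair ha hb hne hab (Subgroup.mem_centralizer_singleton_iff.2 hvz.eq.symm)
  -- it is a product of neither one nor two members
  have hvK : v ∉ K := fun h => hxK (S.mem_K_of_commute h hx hvx.symm)
  have hv2' : ∀ c ∈ K, ∀ e ∈ K, c ≠ e → Commute c e → v ≠ c * e := fun c hc e he hce hcom h =>
    hxK (S.mem_K_of_commute_pair hc he hce hcom hx (h ▸ hvx))
  rcases Nat.even_or_odd' m with ⟨j, hj | hj⟩
  · -- then `v` is a product of two members next to a conjugate of `d`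
    exfalso
    obtain ⟨l, hl, hlen, hlv⟩ := S.classes v hvH hv2 hv1
    set y := v * x with hy
    have hyD : y ∈ D := by
      rw [hy, hv, hj, ← hrot j]; exact S.closed _ x hx
    obtain ⟨k, hk⟩ := isConj_iff.1 (S.conjD x hx).symm
    have hkk : k * y * k⁻¹ ∈ nbr D d := by
      refine ⟨S.closed k y hyD, fun e => hv1 ?_, ?_⟩
      · rw [← hk] at e
        exact mul_eq_right.1 (mul_left_cancel (mul_right_cancel e))
      · rw [← hk]; exact (commute_conj_iff' k x y).2 (hvx.mul_right (Commute.refl x))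
    have hkv : k * v * k⁻¹ = d * (k * y * k⁻¹) := by
      have : v = x * y := by rw [hy, ← mul_assoc, hvx.eq, mul_assoc, hxx, mul_one]
      rw [← hk, this]; group
    have hyK := S.nbrK d S.mem_d hkk
    -- a maximal commuting set around `l` goes to one in `K`
    obtain ⟨M, hlM, ⟨hMK, hMc⟩, hMax⟩ := Finite.exists_le_maximal
      (p := fun N : Set G => N ⊆ K ∧ ∀ a ∈ N, ∀ b ∈ N, Commute a b) (a := {c | c ∈ l})
      ⟨fun c hc => hl.mem c hc, fun c hc c' hc' => hl.comm c hc c' hc'⟩
    have hclq : ∀ N : Set G, N ⊆ K → (∀ a ∈ N, ∀ b ∈ N, Commute a b) → N.ncard = n →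
        ∀ g ∈ K, (∀ a ∈ N, Commute g a) → g ∈ N := by
      intro N hNK hNc hN g hg hgc
      obtain ⟨N', hle, ⟨hN'K, hN'c⟩, hN'max⟩ := Finite.exists_le_maximal
        (p := fun N : Set G => N ⊆ K ∧ ∀ a ∈ N, ∀ b ∈ N, Commute a b) (a := insert g N)
        ⟨Set.insert_subset hg hNK, by
          rintro a (rfl | ha) b (rfl | hb)
          exacts [Commute.refl _, hgc b hb, (hgc a ha).symm, hNc a ha b hb]⟩
      have hN' : N'.ncard = n := S.clique N' hN'K hN'c fun y hy hyc =>
        hN'max (y := insert y N') ⟨Set.insert_subset hy hN'K, by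
          rintro a (rfl | ha) b (rfl | hb)
          exacts [Commute.refl _, hyc b hb, (hyc a ha).symm, hN'c a ha b hb]⟩ (Set.subset_insert _ _)
          (Set.mem_insert _ _)
      rw [Set.eq_of_subset_of_ncard_le ((Set.subset_insert g N).trans hle) (hN'.trans hN.symm).le]
      exact hle (Set.mem_insert _ _)
    have hMn : M.ncard = n := S.clique M hMK hMc fun y hy hyc =>
      hMax (y := insert y M) ⟨Set.insert_subset hy hMK, by
        rintro a (rfl | ha) b (rfl | hb)
        exacts [Commute.refl _, hyc b hb, (hyc a ha).symm, hMc a ha b hb]⟩ (Set.subset_insert _ _)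
        (Set.mem_insert _ _)
    have hMv : ∀ c ∈ M, Commute c v := fun c hc =>
      hlv ▸ Commute.list_prod_right _ _ fun w hw => hMc c hc w (hlM hw)
    set M' : Set G := (fun c => k * c * k⁻¹) '' M with hM'
    have hM'v : ∀ c ∈ M', Commute c (d * (k * y * k⁻¹)) := by
      rintro _ ⟨c, hc, rfl⟩
      rw [← hkv]; exact (commute_conj_iff' k c v).2 (hMv c hc)
    have hM'K : M' ⊆ K := by
      rintro _ ⟨c, hc, rfl⟩
      exact S.mem_K_of_commute_pair S.mem_d hyK (Ne.symm hkk.2.1) hkk.2.2 (S.closed k c (S.sub (hMK hc)))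
        (hM'v _ ⟨c, hc, rfl⟩)
    have hM'c : ∀ a ∈ M', ∀ b ∈ M', Commute a b := by
      rintro _ ⟨c, hc, rfl⟩ _ ⟨c', hc', rfl⟩
      exact (commute_conj_iff' k c c').2 (hMc c hc c' hc')
    have hinj : Function.Injective fun c : G => k * c * k⁻¹ := fun c c' h => mul_left_cancel (mul_right_cancel h)
    have hM'n : M'.ncard = n := by rw [hM', Set.ncard_image_of_injective _ hinj, hMn]
    have hboth : ∀ c ∈ M', Commute d c ∧ Commute (k * y * k⁻¹) c := fun c hc =>
      ⟨(S.commute_pair S.mem_d hyK (Ne.symm hkk.2.1) hkk.2.2 (hM'K hc) (hM'v c hc)).1.symm,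
        (S.commute_pair S.mem_d hyK (Ne.symm hkk.2.1) hkk.2.2 (hM'K hc) (hM'v c hc)).2.symm⟩
    obtain ⟨c, hc, hcd⟩ := hclq M' hM'K hM'c hM'n d S.mem_d fun a ha => (hboth a ha).1
    obtain ⟨e, he, hey⟩ := hclq M' hM'K hM'c hM'n _ hyK fun a ha => (hboth a ha).2
    simp only at hcd hey
    have hce : c ≠ e := fun h => hkk.2.1 (by rw [← hey, ← h, hcd])
    refine hv2' c (hMK hc) e (hMK he) hce (hMc c hc e he) ?_
    rw [← hcd, ← hey] at hkv
    exact mul_left_cancel (mul_right_cancel (hkv.trans (show k * c * k⁻¹ * (k * e * k⁻¹) = k * (c * e) * k⁻¹ by group)))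
  · -- then `z v` is a member
    set e₀ := z * v with he₀
    have he₀D : e₀ ∈ D := by
      have e : e₀ = x * p ^ (2 * j) := by
        rw [he₀, hv, hj, pow_succ', ← mul_assoc, show z * p = x by rw [hp, ← mul_assoc, hzz, one_mul]]
      have e2 : x * p ^ (2 * j) = (p ^ j)⁻¹ * x * (p ^ j)⁻¹⁻¹ := by
        have h4 : x * p ^ j * x⁻¹ = (p ^ j)⁻¹ := by rw [← conj_pow, hxpx, inv_pow]
        rw [mul_inv_eq_iff_eq_mul] at h4
        rw [inv_inv, two_mul, pow_add, ← mul_assoc, h4]
      rw [e, e2]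
      exact S.closed _ x hx
    have he₀K : e₀ ∈ K := S.inter _ he₀D (mul_mem hzH hvH)
    have he₀z : Commute e₀ z := (Commute.refl z).mul_left hvz.symm
    obtain ⟨hea, heb⟩ := S.commute_pair ha hb hne hab he₀K he₀z
    have hve : a * b * e₀ = v := by rw [← hz, he₀, ← mul_assoc, hzz, one_mul]
    have hane : e₀ ≠ a := fun h => hvK (by
      rw [h, hab.eq, mul_assoc, S.sq (S.sub ha), mul_one] at hve
      exact hve ▸ hb)
    have hbne : e₀ ≠ b := fun h => hvK (by
      rw [h, mul_assoc, S.sq (S.sub hb), mul_one] at hve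
      exact hve ▸ ha)
    refine ⟨e₀, ⟨he₀K, hane, hbne, hea, heb, hve.symm ▸ hvx⟩, ?_, fun f hfx hfz => by
      rw [hve]; exact (hfz.mul_right hfx).pow_right m⟩
    rintro e ⟨heK, -, -, hea', heb', hxe⟩
    by_contra hee
    have hze : Commute (z * e) z := (Commute.refl z).mul_left ((hea'.mul_right heb'))
    have hev : Commute (z * e) v := (hze.mul_right hxe.symm).pow_right m
    have hee' : Commute e e₀ := by
      have h1 : Commute e v := by
        have := hvz.mul_left hev
        rwa [← mul_assoc, hzz, one_mul] at this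
      exact (hea'.mul_right heb').mul_right h1
    refine hxK (S.mem_K_of_commute_pair heK he₀K hee hee' hx ?_)
    have h1 : Commute x (z * e * v) := hxe.mul_right hvx
    rwa [show z * e * v = e * (z * v) by rw [← (hea'.mul_right heb').eq, mul_assoc]] at h1

/-- A member outside closes some maximal commuting set containing `d` under the third members. -/
theorem exists_closed_clique {x : G} (hx : x ∈ D) (hxK : x ∉ K) : ∃ (θ : G → G → G) (M : Finset G),
    (∀ a ∈ K, ∀ b ∈ K, a ≠ b → Commute a b → Third K x a b (θ a b)) ∧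
    (∀ a ∈ K, ∀ b ∈ K, a ≠ b → Commute a b → θ b (θ a b) = a) ∧
    (∀ a ∈ K, ∀ b ∈ K, a ≠ b → Commute a b → θ b a = θ a b) ∧
    (M : Set G) ⊆ K ∧ d ∈ (M : Set G) ∧ (∀ a ∈ (M : Set G), ∀ b ∈ (M : Set G), Commute a b) ∧
    M.card = n ∧ ∀ a ∈ (M : Set G), ∀ b ∈ (M : Set G), a ≠ b → θ a b ∈ (M : Set G) := by
  classical
  haveI := Fintype.ofFinite G
  choose! θ hθ huniq hcomm using fun a (ha : a ∈ K) b (hb : b ∈ K) (hne : a ≠ b) (hab : Commute a b) =>
    S.exists_third hx hxK ha hb hne hab
  have hsym : ∀ a ∈ K, ∀ b ∈ K, a ≠ b → Commute a b → θ b (θ a b) = a := by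
    intro a ha b hb hne hab
    obtain ⟨he, h1, h2, c1, c2, hc⟩ := hθ a ha b hb hne hab
    refine (huniq b hb _ he (Ne.symm h2) c2.symm a ⟨ha, hne, Ne.symm h1, hab, c1.symm, ?_⟩).symm
    rwa [show b * θ a b * a = a * b * θ a b by
      rw [mul_assoc a b]; exact (hab.mul_right c1.symm).eq.symm]
  have hswap : ∀ a ∈ K, ∀ b ∈ K, a ≠ b → Commute a b → θ b a = θ a b := by
    intro a ha b hb hne hab
    obtain ⟨he, h1, h2, c1, c2, hc⟩ := hθ a ha b hb hne hab
    exact (huniq b hb a ha (Ne.symm hne) hab.symm _ ⟨he, h2, h1, c2, c1, by rwa [hab.symm.eq]⟩).symm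
  -- commuting sets closed under the map at `d`
  let Good : Set G → Prop := fun M =>
    M ⊆ K ∧ d ∈ M ∧ (∀ a ∈ M, ∀ b ∈ M, Commute a b) ∧ ∀ a ∈ M, a ≠ d → θ d a ∈ M
  have hrule : ∀ M, Good M → ∀ a ∈ K, ∀ b ∈ K, a ≠ b → Commute a b → (∀ c ∈ M, Commute a c) →
      (∀ c ∈ M, Commute b c) → ∀ c ∈ M, c ≠ d → Commute (θ a b) c ∧ Commute (θ a b) d := by
    intro M hM a ha b hb hne hab hac hbc c hc hcd
    obtain ⟨he, -, -, c1, c2, hxe⟩ := hθ a ha b hb hne hab
    have hcK := hM.1 hc
    obtain ⟨hf, f1, f2, g1, g2, hxf⟩ := hθ d S.mem_d c hcK (Ne.symm hcd) (hM.2.2.1 d hM.2.1 c hc)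
    have hfM := hM.2.2.2 c hc hcd
    have hwab : Commute (d * c * θ d c) (a * b) := by
      refine Commute.mul_right ?_ ?_ <;> refine Commute.mul_left (Commute.mul_left ?_ ?_) ?_
      exacts [(hac d hM.2.1).symm, (hac c hc).symm, (hac _ hfM).symm,
        (hbc d hM.2.1).symm, (hbc c hc).symm, (hbc _ hfM).symm]
    have hv := hcomm a ha b hb hne hab _ hxf.symm hwab
    have hew : Commute (θ a b) (d * c * θ d c) := by
      have h1 := (hwab.symm.mul_left hv.symm)
      have hzz : a * b * (a * b * θ a b) = θ a b := by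
        rw [← mul_assoc, hab.symm.mul_mul_mul_comm, S.sq (S.sub ha), S.sq (S.sub hb), one_mul, one_mul]
      rwa [hzz] at h1
    have hcl : IsCList K [d, c, θ d c] :=
      ⟨by simp [Ne.symm hcd, Ne.symm f1, Ne.symm f2], by simp [S.mem_d, hcK, hf],
        by simp [hM.2.2.1 d hM.2.1 c hc, (hM.2.2.1 d hM.2.1 c hc).symm, g1, g2, g1.symm, g2.symm]⟩
    have := hcl.commute_each S.three le_rfl he (by simpa [mul_assoc] using hew)
    exact ⟨this c (by simp), this d (by simp)⟩
  let sets : Finset (Finset G) := Finset.univ.powerset.filter fun F : Finset G => Good (F : Set G)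
  have hne0 : sets.Nonempty := ⟨{d}, by
    simp only [sets, Good, Finset.mem_filter, Finset.mem_powerset, Finset.subset_univ, true_and,
      Finset.coe_singleton, Set.singleton_subset_iff, Set.mem_singleton_iff]
    exact ⟨S.mem_d, fun a ha b hb => by rw [ha, hb], fun a ha h => absurd ha h⟩⟩
  obtain ⟨M, hM, hmax⟩ := sets.exists_max_image Finset.card hne0
  have hG : Good ↑M := (Finset.mem_filter.1 hM).2
  obtain ⟨hMK, hdM, hMc, hMθ⟩ := hG
  have hG : Good ↑M := ⟨hMK, hdM, hMc, hMθ⟩
  have hmaxM : ∀ g ∈ K, (∀ c ∈ (M : Set G), Commute g c) → g ∈ (M : Set G) := by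
    intro g hg hgc
    by_contra hgM
    have hgd : g ≠ d := fun h => hgM (h ▸ hdM)
    have hdg : Commute d g := (hgc d hdM).symm
    obtain ⟨hf, f1, f2, g1, g2, -⟩ := hθ d S.mem_d g hg (Ne.symm hgd) hdg
    have hfc : ∀ c ∈ (M : Set G), Commute (θ d g) c := fun c hc => by
      by_cases hcd : c = d
      · exact hcd ▸ g1
      · exact (hrule _ hG d S.mem_d g hg (Ne.symm hgd) hdg (hMc d hdM) hgc c hc hcd).1
    have hback : θ d (θ d g) = g := by
      have := hsym g hg d S.mem_d hgd hdg.symm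
      rwa [hswap d S.mem_d g hg (Ne.symm hgd) hdg] at this
    have hfM : θ d g ∉ (M : Set G) := fun h => hgM (hback ▸ hMθ _ h f1)
    have hnew : insert g (insert (θ d g) M) ∈ sets := by
      simp only [sets, Finset.mem_filter, Finset.mem_powerset, Finset.subset_univ, true_and, Good]
      rw [Finset.coe_insert, Finset.coe_insert]
      refine ⟨Set.insert_subset hg (Set.insert_subset hf hMK), Or.inr (Or.inr hdM), ?_, ?_⟩
      · rintro a (rfl | rfl | ha) b (rfl | rfl | hb)
        exacts [Commute.refl _, g2.symm, hgc b hb, g2, Commute.refl _, hfc b hb, (hgc a ha).symm,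
          (hfc a ha).symm, hMc a ha b hb]
      · rintro a (rfl | rfl | ha) had
        exacts [Or.inr (Or.inl rfl), Or.inl hback, Or.inr (Or.inr (hMθ a ha had))]
    have := hmax _ hnew
    rw [Finset.card_insert_of_notMem (by simp [show g ∉ M from hgM, Ne.symm f2]),
      Finset.card_insert_of_notMem (show θ d g ∉ M from hfM)] at this
    omega
  have hn : M.card = n := by
    rw [← Set.ncard_coe_finset]; exact S.clique _ hMK hMc hmaxM
  have hcl : ∀ a ∈ (M : Set G), ∀ b ∈ (M : Set G), a ≠ b → θ a b ∈ (M : Set G) := by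
    intro a ha b hb hne
    obtain ⟨he, h1, h2, c1, c2, -⟩ := hθ a (hMK ha) b (hMK hb) hne (hMc a ha b hb)
    refine hmaxM _ he fun c hc => ?_
    have key := hrule _ hG a (hMK ha) b (hMK hb) hne (hMc a ha b hb) (hMc a ha) (hMc b hb)
    by_cases hcd : c = d
    · by_cases had : a = d
      · rw [hcd, ← had]; exact c1
      · rw [hcd]; exact (key a ha had).2
    · exact (key c hc hcd).1
  exact ⟨θ, M, hθ, hsym, hswap, hMK, hdM, hMc, hn, hcl⟩

end pairs

end CompCore

namespace Comp

variable [Finite G] {D K : Set G} {H : Subgroup G} {d : G} {n : ℕ} (S : Comp D K H d n)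
include S

/-- No member lies outside. -/
theorem subset_K : D ⊆ K := by
  classical
  haveI := Fintype.ofFinite G
  intro x hx
  by_contra hxK
  obtain ⟨θ, M, hθ, hsym, hswap, hMK, hdM, hMc, hn, hcl⟩ := S.exists_closed_clique hx hxK
  have hMθ : ∀ a ∈ (M : Set G), a ≠ d → θ d a ∈ (M : Set G) := fun a ha had => hcl d hdM a ha (Ne.symm had)
  rcases S.num with hodd | h3
  · -- pairing at `d`
    let α := {a // a ∈ M.erase d}
    have hmem : ∀ a : α, (a : G) ∈ (M : Set G) ∧ (a : G) ≠ d ∧ (a : G) ∈ K ∧ Commute d a := fun a =>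
      ⟨(Finset.mem_erase.1 a.2).2, (Finset.mem_erase.1 a.2).1, hMK (Finset.mem_erase.1 a.2).2,
        hMc d hdM _ (Finset.mem_erase.1 a.2).2⟩
    let f : α → α := fun a => ⟨θ d a, Finset.mem_erase.2 ⟨(hθ d S.mem_d a (hmem a).2.2.1 (Ne.symm (hmem a).2.1)
      (hmem a).2.2.2).2.1, hMθ _ (hmem a).1 (hmem a).2.1⟩⟩
    have hff : Function.Involutive f := fun a => Subtype.ext (by
      obtain ⟨-, hd', hK', hc'⟩ := hmem a
      have := hsym a hK' d S.mem_d hd' hc'.symm
      rwa [hswap d S.mem_d a hK' (Ne.symm hd') hc'] at this)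
    let σ : Equiv.Perm α := hff.toPerm
    have hσ : σ ^ 2 ^ 1 = 1 := Equiv.ext fun a => by simp [σ, pow_two, hff a]
    haveI : Fact (Nat.Prime 2) := ⟨Nat.prime_two⟩
    have h0 : σ.supportᶜ = ∅ := by
      ext a
      simp only [Finset.mem_compl, Equiv.Perm.mem_support, not_not, Finset.notMem_empty, iff_false]
      intro e
      obtain ⟨-, hd', hK', hc'⟩ := hmem a
      exact (hθ d S.mem_d a hK' (Ne.symm hd') hc').2.2.1 (congrArg Subtype.val e)
    have h1 := Equiv.Perm.card_compl_support_modEq hσ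
    rw [h0, Finset.card_empty, Fintype.card_coe, Finset.card_erase_of_mem hdM, hn] at h1
    exact Nat.not_even_iff_odd.2 hodd (even_iff_two_dvd.2 (Nat.modEq_zero_iff_dvd.1 h1.symm))
  · -- the map on ordered pairs
    let β := {q : G × G // q ∈ M.offDiag}
    have hmem : ∀ q : β, (q : G × G).1 ∈ (M : Set G) ∧ (q : G × G).2 ∈ (M : Set G) ∧ (q : G × G).1 ≠ (q : G × G).2 :=
      fun q => Finset.mem_offDiag.1 q.2
    let f : β → β := fun q => ⟨((q : G × G).2, θ (q : G × G).1 (q : G × G).2), Finset.mem_offDiag.2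
      ⟨(hmem q).2.1, hcl _ (hmem q).1 _ (hmem q).2.1 (hmem q).2.2,
        Ne.symm (hθ _ (hMK (hmem q).1) _ (hMK (hmem q).2.1) (hmem q).2.2
          (hMc _ (hmem q).1 _ (hmem q).2.1)).2.2.1⟩⟩
    have hfff : ∀ q, f (f (f q)) = q := by
      intro q
      obtain ⟨⟨a, b⟩, hq⟩ := q
      obtain ⟨ha, hb, hne⟩ := Finset.mem_offDiag.1 hq
      obtain ⟨he, h1, h2, c1, c2, -⟩ := hθ a (hMK ha) b (hMK hb) hne (hMc a ha b hb)
      have e1 := hsym a (hMK ha) b (hMK hb) hne (hMc a ha b hb)
      have e2 := hsym b (hMK hb) (θ a b) he (Ne.symm h2) c2.symm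
      rw [e1] at e2
      refine Subtype.ext ?_
      show (θ b (θ a b), θ (θ a b) (θ b (θ a b))) = (a, b)
      rw [e1, e2]
    let σ : Equiv.Perm β := ⟨f, fun q => f (f q), hfff, hfff⟩
    have hσ : σ ^ 3 ^ 1 = 1 := Equiv.ext fun q => by
      simp only [pow_succ, pow_zero, one_mul, Equiv.Perm.mul_apply, Equiv.Perm.one_apply]
      exact hfff q
    haveI : Fact (Nat.Prime 3) := ⟨Nat.prime_three⟩
    have h0 : σ.supportᶜ = ∅ := by
      ext q
      simp only [Finset.mem_compl, Equiv.Perm.mem_support, not_not, Finset.notMem_empty, iff_false]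
      intro e
      exact (hmem q).2.2 (congrArg (fun r : β => (r : G × G).1) e).symm
    have h1 := Equiv.Perm.card_compl_support_modEq hσ
    rw [h0, Finset.card_empty, Fintype.card_coe, Finset.offDiag_card, hn] at h1
    refine h3 ?_
    rw [Nat.mul_sub_one]
    exact Nat.modEq_zero_iff_dvd.1 h1.symm

/-- The component is the whole class and `H` the whole group. -/
theorem eq_class : D = K := Set.Subset.antisymm S.subset_K S.sub

theorem eq_top : H = ⊤ :=
  eq_top_iff.2 fun g _ => S.toCompCore.control S.mem_d (S.subset_K (S.closed g d (S.sub S.mem_d)))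

end Comp

end CfsgLib.SporFischer
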