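import Cfsg.Agent.SporFischer.SliceData

/-!
# Checks on the tables for common neighbours
-/

set_option autoImplicit false
set_option maxRecDepth 100000

namespace CfsgLib.SporFischer.SliceData

/-- The seeds: the basis and one further point orthogonal to `e`. -/
def seeds (c0 : ℕ) : List ℕ := [1, 4, 16, 64, 256, 1024, normN (c0 + 4 * wStar)]

/-- The points of a closure. -/
def pts (c0 : ℕ) (ops : List (ℕ × ℕ × ℕ)) : List ℕ := seeds c0 ++ ops.map Prod.fst

/-- Every entry is a moved earlier point. -/
def okOps (a c0 : ℕ) (ops : List (ℕ × ℕ × ℕ)) : Bool :=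
  (List.range ops.length).all fun k =>
    match ops.getD k (0, 0, 0) with
    | (n, i, j) => Nat.blt i (7 + k) && Nat.blt j 7 &&
        Nat.beq n (moveN a ((pts c0 ops).getD i 0) ((seeds c0).getD j 0))

/-- Two different points orthogonal to `e` with one middle. -/
def clash (a : ℕ) (P wit : List ℕ) : Bool :=
  let p := P.getD (wit.getD 0 0) 0
  let q := P.getD (wit.getD 1 0) 0
  Nat.blt (wit.getD 0 0) P.length && Nat.blt (wit.getD 1 0) P.length && !Nat.beq p q &&
    Nat.beq (hT a p 1) 0 && Nat.beq (hT a q 1) 0 && Nat.beq (midN p) (midN q) && !Nat.beq (midN p) 0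

theorem ok_ops :
    okOps 0 0 ops00 = true ∧ okOps 0 1 ops01 = true ∧ okOps 0 2 ops02 = true ∧ okOps 0 3 ops03 = true ∧
      okOps 1 0 ops10 = true ∧ okOps 1 1 ops11 = true ∧ okOps 1 2 ops12 = true ∧ okOps 1 3 ops13 = true := by
  decide +kernel

theorem clashes :
    clash 0 (pts 1 ops01) wit01 = true ∧ clash 0 (pts 2 ops02) wit02 = true ∧
      clash 0 (pts 3 ops03) wit03 = true ∧ clash 1 (pts 0 ops10) wit10 = true ∧
      clash 1 (pts 1 ops11) wit11 = true ∧ clash 1 (pts 2 ops12) wit12 = true := by
  decide +kernel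

/-- Four points orthogonal to `e`, `g₁` and `m`. -/
theorem four00 : (wit00.map fun k => (pts 0 ops00).getD k 0).Nodup ∧
    wit00.length = 4 ∧ wit00.all (fun k => Nat.blt k (pts 0 ops00).length &&
      [1, 4, 1024].all fun q => Nat.beq (hT 0 ((pts 0 ops00).getD k 0) q) 0 &&
        !Nat.beq ((pts 0 ops00).getD k 0) q) = true := by
  decide +kernel

/-- The form is non-degenerate. -/
theorem hT_nondeg : (List.range 4096).all (fun c =>
    (Nat.beq c 0 || !([1, 4, 16, 64, 256, 1024].all fun q => Nat.beq (hT 0 c q) 0)) &&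
    (Nat.beq c 0 || !([1, 4, 16, 64, 256, 1024].all fun q => Nat.beq (hT 1 c q) 0))) = true := by
  decide +kernel

theorem mids_complete : mids.length = 45 ∧ wStar ∈ mids ∧ (List.range 256).all (fun c =>
    Nat.beq c 0 || !Nat.beq (normN c) c || !Nat.beq (hT 0 (4 * c) (4 * c)) 0 || decide (c ∈ mids)) = true := by
  decide +kernel

/-- The 126 points. -/
def pts126 : List ℕ := pts 3 ops13

theorem pts_props : pts126.length = 126 ∧ pts126.Nodup ∧
    pts126.all (fun p => !Nat.beq p 0 && Nat.blt p 4096 && Nat.beq (normN p) p && Nat.beq (hT 1 p p) 0) = true := by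
  decide +kernel

theorem pts_closed :
    pts126.all (fun p => (seeds 3).all fun q => decide (moveN 1 p q ∈ pts126)) = true := by
  decide +kernel

theorem mids_covered : mids.all (fun c => pts126.any fun p =>
    Nat.beq (hT 1 p 1) 0 && !Nat.beq p 1 && Nat.beq (midN p) c) = true := by
  decide +kernel

theorem degree : pts126.all (fun p =>
    !Nat.beq (hT 1 p 1) 0 || Nat.beq p 1 ||
      Nat.beq (pts126.filter fun q => !Nat.beq q p && Nat.beq (hT 1 p q) 0).length 45) = true := by
  decide +kernel

/-- Conditions on a row of `quads`. -/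
def okQuad (r : ℕ × ℕ × ℕ × ℕ × ℕ) : Bool :=
  match r with
  | (s, q, u, p, m) =>
    let c := fun i => pts126.getD i 0
    let o := fun x y => Nat.beq (hT 1 x y) 0
    [q, u, p, m].all (fun i => Nat.blt i 126 && o (c i) s) &&
      o (c q) (c u) && o (c u) (c p) && o (c p) (c m) && !o (c q) (c p) && !o (c q) (c m) && !o (c u) (c m)

theorem quads_ok : quads.all okQuad = true := by decide +kernel

theorem quads_cover : (List.range 4096).all (fun c =>
    Nat.beq c 0 || !Nat.beq (normN c) c || !Nat.beq (hT 1 c c) 0 ||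
      quads.any fun r => Nat.beq r.1 c) = true := by
  decide +kernel

theorem iso4_complete : iso4.length = 45 ∧ iso4.Nodup ∧
    iso4.all (fun c => !Nat.beq c 0 && Nat.blt c 256 && Nat.beq (h4 c c) 0) = true ∧
    (List.range 256).all (fun c =>
      Nat.beq c 0 || !Nat.beq (normN c) c || !Nat.beq (h4 c c) 0 || decide (c ∈ iso4)) = true := by
  decide +kernel

/-- No two points of the small space have one perp. -/
theorem no_twins : iso4.all (fun a => iso4.all fun b =>
    Nat.beq a b || iso4.any fun t => Nat.beq (h4 a t) 0 && !Nat.beq (h4 b t) 0) = true := by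
  decide +kernel

/-- Two points not orthogonal have three common neighbours. -/
theorem three_common : iso4.all (fun a => iso4.all fun b =>
    Nat.beq (h4 a b) 0 || Nat.beq (iso4.filter fun t => Nat.beq (h4 a t) 0 && Nat.beq (h4 b t) 0).length 3) = true := by
  decide +kernel

/-- A point orthogonal to two non-orthogonal ones and not to a further point orthogonal to both. -/
theorem exists_fourth : iso4.all (fun a => iso4.all fun b => !Nat.beq (h4 a b) 0 || iso4.all fun c =>
    !Nat.beq (h4 a c) 0 || Nat.beq (h4 b c) 0 ||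
      iso4.any fun d => Nat.beq (h4 d b) 0 && Nat.beq (h4 d c) 0 && !Nat.beq (h4 d a) 0) = true := by
  decide +kernel

theorem chain_ok : chain4.length = 4 ∧ (List.range 4).all (fun i => (List.range 4).all fun j =>
    let x := iso4.getD (chain4.getD i 0) 0
    let y := iso4.getD (chain4.getD j 0) 0
    Nat.blt (chain4.getD i 0) 45 &&
      if i + 1 = j || j + 1 = i then !Nat.beq (h4 x y) 0 else Nat.beq (h4 x y) 0) = true := by
  decide +kernel

end CfsgLib.SporFischer.SliceData
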