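import Cfsg.Agent.SporFischer.Geom
import Cfsg.Agent.SporFischer.SliceChecks
import Cfsg.Agent.Transpositions.SUThreeTwo

/-!
# The common neighbours of two members next to a third

They correspond to the 45 isotropic points of the four dimensional space, commutation being orthogonality.
-/

set_option autoImplicit false
set_option linter.unusedSectionVars false

namespace CfsgLib.SporFischer

open CfsgLib.RepBounds.Unit CfsgLib.U62
open SliceData (mulN conN dg pr h4 hT iso4 normN smN)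

variable {F : Type*} [Field F] [Fintype F] (C : ConjField F)

/-- Numbers below four as the elements of the field. -/
structure NumField where
  /-- the map -/
  e : ℕ → F
  zero : e 0 = 0
  one : e 1 = 1
  add : ∀ a b, a < 4 → b < 4 → e (Nat.xor a b) = e a + e b
  mul : ∀ a b, a < 4 → b < 4 → e (mulN a b) = e a * e b
  inj : ∀ a b, a < 4 → b < 4 → e a = e b → a = b
  surj : ∀ x, ∃ a < 4, e a = x

theorem exists_numField (hC : C.q = 2) : Nonempty (NumField (F := F)) := by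
  have hF : Fintype.card F = 4 := by rw [C.card, hC]; rfl
  obtain ⟨ι, hb, h0, h1, hadd, hmul⟩ := CfsgLib.Transpositions.SUThreeTwo.exists_coords F hF
  have ht : ∀ a b : Fin 4, Nat.xor a b = (CfsgLib.Transpositions.SUThreeTwo.addT a b : ℕ) ∧
      mulN a b = (CfsgLib.Transpositions.SUThreeTwo.mulT a b : ℕ) := by decide +kernel
  refine ⟨⟨fun n => ι (Fin.ofNat 4 n), h0, h1, fun a b ha hb' => ?_, fun a b ha hb' => ?_,
    fun a b ha hb' h => ?_, fun x => ?_⟩⟩
  · rw [← hadd]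
    congr 1
    obtain ⟨e1, -⟩ := ht ⟨a, ha⟩ ⟨b, hb'⟩
    apply Fin.ext
    simp only [Fin.ofNat] 
    rw [show (⟨a % 4, _⟩ : Fin 4) = ⟨a, ha⟩ from Fin.ext (Nat.mod_eq_of_lt ha),
      show (⟨b % 4, _⟩ : Fin 4) = ⟨b, hb'⟩ from Fin.ext (Nat.mod_eq_of_lt hb')]
    show Nat.xor a b % 4 = _
    rw [e1, Nat.mod_eq_of_lt (Fin.is_lt _)]
  · rw [← hmul]
    congr 1
    obtain ⟨-, e1⟩ := ht ⟨a, ha⟩ ⟨b, hb'⟩
    apply Fin.ext
    simp only [Fin.ofNat]
    rw [show (⟨a % 4, _⟩ : Fin 4) = ⟨a, ha⟩ from Fin.ext (Nat.mod_eq_of_lt ha),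
      show (⟨b % 4, _⟩ : Fin 4) = ⟨b, hb'⟩ from Fin.ext (Nat.mod_eq_of_lt hb')]
    show mulN a b % 4 = _
    rw [e1, Nat.mod_eq_of_lt (Fin.is_lt _)]
  · have := congrArg Fin.val (hb.1 h)
    simpa [Fin.ofNat, Nat.mod_eq_of_lt ha, Nat.mod_eq_of_lt hb'] using this
  · obtain ⟨a, rfl⟩ := hb.2 x
    exact ⟨a, a.2, congrArg ι (Fin.ext (Nat.mod_eq_of_lt a.2))⟩

theorem dg_lt (c i : ℕ) : dg c i < 4 := Nat.lt_succ_of_le Nat.and_le_right

theorem mulN_lt (a b : ℕ) : mulN a b < 4 := Nat.lt_succ_of_le Nat.and_le_right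

theorem xor_lt {a b : ℕ} (ha : a < 4) (hb : b < 4) : Nat.xor a b < 4 :=
  Nat.xor_lt_two_pow (n := 2) ha hb

theorem pr_lt (c d i j : ℕ) : pr c d i j < 4 := mulN_lt _ _

theorem dg_add {x y : ℕ} (c : ℕ) (hx : x < 4) (hc : c = x + 4 * y) : dg c 0 = x ∧ ∀ i, dg c (i + 1) = dg y i := by
  subst hc
  refine ⟨?_, fun i => ?_⟩
  · show Nat.land (Nat.shiftRight _ 0) 3 = x
    show (x + 4 * y) >>> 0 &&& (2 ^ 2 - 1) = x
    rw [Nat.shiftRight_zero, Nat.and_two_pow_sub_one_eq_mod]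
    omega
  · show (x + 4 * y) >>> (2 * (i + 1)) &&& 3 = y >>> (2 * i) &&& 3
    rw [mul_add, mul_one, add_comm (2 * i), Nat.shiftRight_add,
      show (x + 4 * y) >>> 2 = y by rw [Nat.shiftRight_eq_div_pow]; omega]

theorem eq_zero_of_dg {n c : ℕ} (hc : c < 4 ^ n) (h : ∀ i < n, dg c i = 0) : c = 0 := by
  induction n generalizing c with
  | zero => simpa using hc
  | succ n ih =>
    have e : c = c % 4 + 4 * (c / 4) := by omega
    obtain ⟨e0, e1⟩ := dg_add c (Nat.mod_lt _ (by norm_num)) e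
    have h0 := h 0 (Nat.succ_pos n)
    rw [e0] at h0
    have : c / 4 = 0 := ih (by rw [pow_succ] at hc; omega) fun i hi => by rw [← e1 i]; exact h (i + 1) (by omega)
    omega

theorem h4_lt (c d : ℕ) : h4 c d < 4 :=
  xor_lt (xor_lt (pr_lt _ _ _ _) (pr_lt _ _ _ _)) (xor_lt (pr_lt _ _ _ _) (pr_lt _ _ _ _))

variable {C}

namespace NumField

variable (N : NumField (F := F)) (hC : C.q = 2)

theorem eq_zero_iff {a : ℕ} (ha : a < 4) : N.e a = 0 ↔ a = 0 :=
  ⟨fun h => N.inj a 0 ha (by norm_num) (h.trans N.zero.symm), fun h => h ▸ N.zero⟩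

include hC in
theorem conj {a : ℕ} (ha : a < 4) : N.e (conN a) = C.σ (N.e a) := by
  rw [conN, N.mul a a ha ha, sigma_eq C hC, pow_two]

include hC in
theorem e_pr (c d i j : ℕ) : N.e (pr c d i j) = N.e (dg c i) * C.σ (N.e (dg d j)) := by
  rw [pr, N.mul _ _ (dg_lt c i) (show conN (dg d j) < 4 from mulN_lt _ _), N.conj hC (dg_lt d j)]

/-- The vector in four coordinates. -/
def vec4 (c : ℕ) : Fin 2 ⊕ Fin 2 → F :=
  Sum.elim ![N.e (dg c 0), N.e (dg c 1)] ![N.e (dg c 2), N.e (dg c 3)]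

include hC in
theorem herm_vec4 (c d : ℕ) : herm C (N.vec4 c) (N.vec4 d) = N.e (h4 c d) := by
  simp only [h4]
  rw [N.add _ _ (xor_lt (pr_lt _ _ _ _) (pr_lt _ _ _ _)) (xor_lt (pr_lt _ _ _ _) (pr_lt _ _ _ _)),
    N.add _ _ (pr_lt _ _ _ _) (pr_lt _ _ _ _), N.add _ _ (pr_lt _ _ _ _) (pr_lt _ _ _ _),
    N.e_pr hC, N.e_pr hC, N.e_pr hC, N.e_pr hC]
  simp [herm, vec4, Fintype.sum_sum_type, Fin.sum_univ_two]

theorem vec4_surj (w : Fin 2 ⊕ Fin 2 → F) : ∃ c < 256, N.vec4 c = w := by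
  obtain ⟨a, ha, ea⟩ := N.surj (w (Sum.inl 0))
  obtain ⟨b, hb, eb⟩ := N.surj (w (Sum.inl 1))
  obtain ⟨c, hc, ec⟩ := N.surj (w (Sum.inr 0))
  obtain ⟨d, hd, ed⟩ := N.surj (w (Sum.inr 1))
  refine ⟨a + 4 * (b + 4 * (c + 4 * d)), by omega, ?_⟩
  obtain ⟨f0, f1⟩ := dg_add _ ha (rfl : a + 4 * (b + 4 * (c + 4 * d)) = _)
  obtain ⟨g0, g1⟩ := dg_add _ hb (rfl : b + 4 * (c + 4 * d) = _)
  obtain ⟨h0, h1⟩ := dg_add _ hc (rfl : c + 4 * d = _)
  obtain ⟨k0, -⟩ := dg_add d hd (show d = d + 4 * 0 by simp)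
  funext i
  rcases i with i | i <;> fin_cases i
  · simp [vec4, f0, ea]
  · simp [vec4, f1 0, g0, eb]
  · simp [vec4, f1 1, g1 0, h0, ec]
  · simp [vec4, f1 2, g1 1, h1 0, k0, ed]

end NumField

/-- The scalar multiples in four coordinates. -/
theorem smN_small : (List.range 4).all (fun t => (List.range 256).all fun c =>
    Nat.blt (smN t c) 256 && (List.range 4).all fun i => Nat.beq (dg (smN t c) i) (mulN t (dg c i))) = true := by
  decide +kernel

theorem normN_small : (List.range 256).all (fun c => Nat.beq c 0 ||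
    (!Nat.beq (normN c) 0 && Nat.beq (normN (normN c)) (normN c) && !Nat.beq (conN (SliceData.lead c)) 0)) = true := by
  decide +kernel

namespace NumField

variable (N : NumField (F := F))

theorem vec4_smN {t c : ℕ} (ht : t < 4) (hc : c < 256) : N.vec4 (smN t c) = N.e t • N.vec4 c := by
  have h := smN_small
  simp only [List.all_eq_true, List.mem_range, Bool.and_eq_true] at h
  have hd : ∀ i < 4, dg (smN t c) i = mulN t (dg c i) := fun i hi => Nat.eq_of_beq_eq_true ((h t ht c hc).2 i hi)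
  funext i
  rcases i with i | i <;> fin_cases i <;> simp [vec4, hd, N.mul t _ ht (dg_lt _ _)]

theorem vec4_eq_zero {c : ℕ} (hc : c < 256) (h : N.vec4 c = 0) : c = 0 := by
  refine eq_zero_of_dg (n := 4) (by omega) fun i hi => (N.eq_zero_iff (dg_lt c i)).1 ?_
  interval_cases i
  · simpa [vec4] using congrFun h (Sum.inl 0)
  · simpa [vec4] using congrFun h (Sum.inl 1)
  · simpa [vec4] using congrFun h (Sum.inr 0)
  · simpa [vec4] using congrFun h (Sum.inr 1)

end NumField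

variable {G : Type*} [Group G] {D : Set G}

/-- The common neighbours of `u`, `x` and `v` as the 45 points. -/
structure Frame (D : Set G) (u x v : G) where
  /-- the member at a point -/
  φ : ℕ → G
  mem : ∀ c ∈ iso4, φ c ∈ nbr D u ∧ φ c ∈ nbr D x ∧ φ c ∈ nbr D v
  inj : ∀ c ∈ iso4, ∀ d ∈ iso4, φ c = φ d → c = d
  surj : ∀ z, z ∈ nbr D u → z ∈ nbr D x → z ∈ nbr D v → ∃ c ∈ iso4, φ c = z
  comm : ∀ c ∈ iso4, ∀ d ∈ iso4, (Commute (φ c) (φ d) ↔ h4 c d = 0)

theorem Geom22.exists_frame (hD : Geom22 D) {u x v : G} (hu : u ∈ D) (hx : x ∈ nbr D u) (hv : v ∈ nbr D u)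
    (hxv : ¬ Commute x v) : Nonempty (Frame D u x v) := by
  classical
  obtain ⟨M⟩ := hD.model u hu
  obtain ⟨N⟩ := exists_numField M.C M.hq
  obtain ⟨hxx, hx0⟩ := M.iso x hx
  obtain ⟨hvv, -⟩ := M.iso v hv
  obtain ⟨g, b, hb, hg1, hg2⟩ := CfsgLib.Transpositions.UnitaryPerp.exists_frame M.C M.hq hxx hvv hx0
    (fun h0 => hxv ((M.comm v hv x hx).2 h0).symm)
  set W : ℕ → I6 → M.K := fun c => app M.C g⁻¹ (inW (N.vec4 c)) with hW
  have hWh : ∀ c d, herm M.C (W c) (W d) = N.e (h4 c d) := fun c d => by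
    rw [hW, herm_app, herm_inW, N.herm_vec4 M.hq]
  obtain ⟨hlen, -, hprop, hcomp⟩ := SliceData.iso4_complete
  simp only [List.all_eq_true, Bool.and_eq_true, Bool.not_eq_true', Nat.blt_eq] at hprop
  have hp : ∀ c ∈ iso4, c ≠ 0 ∧ c < 256 ∧ h4 c c = 0 := fun c hc =>
    ⟨fun e => by simpa [e] using (hprop c hc).1.1, (hprop c hc).1.2, Nat.eq_of_beq_eq_true (hprop c hc).2⟩
  have hW0 : ∀ c, c < 256 → c ≠ 0 → W c ≠ 0 := fun c hc hc0 h0 => hc0 (N.vec4_eq_zero hc (by
    have e := app_app_inv M.C g (inW (N.vec4 c))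
    rw [show app M.C g⁻¹ (inW (N.vec4 c)) = 0 from h0] at e
    funext i
    simpa [inW, app] using (congrFun e (Sum.inr i)).symm))
  have hz : ∀ c : ℕ, c ∈ iso4 → ∃ z ∈ nbr D u, ∃ t : M.K, t ≠ 0 ∧ M.vec z = t • W c := fun c hc => by
    obtain ⟨z, hz, t, ht⟩ := M.surj (W c) (by rw [hWh, (hp c hc).2.2, N.zero]) (hW0 c (hp c hc).2.1 (hp c hc).1)
    exact ⟨z, hz, t, fun h0 => (M.iso z hz).2 (by rw [ht, h0, zero_smul]), ht⟩
  choose φ hφ tφ htφ hφv using hz
  have hh : ∀ c (hc : c ∈ iso4) d (hd : d ∈ iso4),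
      Commute (φ c hc) (φ d hd) ↔ h4 c d = 0 := fun c hc d hd => by
    rw [M.comm _ (hφ c hc) _ (hφ d hd), hφv c hc, hφv d hd, herm_smul_left, herm_smul_right, hWh, mul_eq_zero,
      mul_eq_zero, or_iff_right (htφ c hc), or_iff_right ((_root_.map_ne_zero _).2 (htφ d hd)),
      N.eq_zero_iff (h4_lt _ _)]
  have hmem : ∀ c (hc : c ∈ iso4), φ c hc ∈ nbr D x ∧ φ c hc ∈ nbr D v := fun c hc => by
    have h1 : Commute (φ c hc) x := (M.comm _ (hφ c hc) x hx).2 (by
      rw [hφv c hc, herm_smul_left, hW, herm_app_left, hg1, herm_inW_vE, mul_zero])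
    have h2 : Commute (φ c hc) v := (M.comm _ (hφ c hc) v hv).2 (by
      rw [hφv c hc, herm_smul_left, hW, herm_app_left, hg2, herm_smul_right, herm_inW_vF, mul_zero, mul_zero])
    exact ⟨⟨(hφ c hc).1, fun e => hxv (e ▸ h2), h1.symm⟩, ⟨(hφ c hc).1, fun e => hxv (e ▸ h1).symm, h2.symm⟩⟩
  refine ⟨⟨fun c => if hc : c ∈ iso4 then φ c hc else 1, fun c hc => ?_, fun c hc d hd he => ?_,
    fun z hzu hzx hzv => ?_, fun c hc d hd => ?_⟩⟩
  · rw [dif_pos hc]; exact ⟨hφ c hc, hmem c hc⟩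
  · rw [dif_pos hc, dif_pos hd] at he
    by_contra hne
    -- equal members have proportional vectors
    have h := SliceData.no_twins
    simp only [List.all_eq_true, Bool.or_eq_true, List.any_eq_true, Bool.and_eq_true, Bool.not_eq_true'] at h
    rcases h c hc d hd with h' | ⟨t, ht, h1, h2⟩
    · exact hne (Nat.eq_of_beq_eq_true h')
    · have e1 := (hh c hc t ht).2 (Nat.eq_of_beq_eq_true h1)
      rw [he, hh d hd t ht] at e1
      rw [e1] at h2
      exact Bool.false_ne_true h2.symm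
  · obtain ⟨hzz, hz0⟩ := M.iso z hzu
    set w := app M.C g (M.vec z) with hw
    have e1 : herm M.C w (vE M.C (Fin 2 ⊕ Fin 2)) = 0 := by
      rw [hw, ← hg1, herm_app]; exact (M.comm z hzu x hx).1 hzx.2.2.symm
    have e2 : herm M.C w (vF M.C (Fin 2 ⊕ Fin 2)) = 0 := by
      have h0 : herm M.C w (b • vF M.C (Fin 2 ⊕ Fin 2)) = 0 := by
        rw [hw, ← hg2, herm_app]; exact (M.comm z hzu v hv).1 hzv.2.2.symm
      rw [herm_smul_right] at h0
      exact (mul_eq_zero.1 h0).resolve_left ((_root_.map_ne_zero _).2 hb)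
    have hdec : w = inW (w ∘ Sum.inr) := by
      conv_lhs => rw [decomp M.C w, e1, e2, zero_smul, zero_smul, zero_add, zero_add]
    obtain ⟨c, hc, hcw⟩ := N.vec4_surj (w ∘ Sum.inr)
    have hc0 : c ≠ 0 := fun e => hz0 (by
      have hw0 : w = 0 := by
        rw [hdec, ← hcw, e]
        funext i; rcases i with i | i | i <;> fin_cases i <;> simp [inW, NumField.vec4, dg, N.zero]
      rw [← app_inv_app M.C g (M.vec z), ← hw, hw0]
      simp [app])
    have hn := normN_small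
    simp only [List.all_eq_true, List.mem_range, Bool.or_eq_true, Bool.and_eq_true, Bool.not_eq_true'] at hn
    obtain ⟨⟨n0, n1⟩, n2⟩ := (hn c hc).resolve_left (by simpa using hc0)
    have hs := smN_small
    simp only [List.all_eq_true, List.mem_range, Bool.and_eq_true, Nat.blt_eq] at hs
    have hl : conN (SliceData.lead c) < 4 := mulN_lt _ _
    have hvn : N.vec4 (normN c) = N.e (conN (SliceData.lead c)) • N.vec4 c := N.vec4_smN hl hc
    have hn256 : normN c < 256 := (hs _ hl c hc).1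
    have hh0 : h4 (normN c) (normN c) = 0 := by
      refine (N.eq_zero_iff (h4_lt _ _)).1 ?_
      show N.e (h4 _ _) = 0
      rw [← N.herm_vec4 M.hq, hvn, herm_smul_left, herm_smul_right, hcw,
        ← herm_inW (C := M.C), ← hdec, hw, herm_app, hzz, mul_zero, mul_zero]
    have hin : normN c ∈ iso4 := by
      have h := List.all_eq_true.1 hcomp (normN c) (List.mem_range.2 hn256)
      simp only [Bool.or_eq_true, decide_eq_true_eq, Bool.not_eq_true'] at h
      rcases h with ((h | h) | h) | h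
      · rw [h] at n0; simp at n0
      · rw [h] at n1; simp at n1
      · rw [hh0] at h; simp at h
      · exact h
    refine ⟨normN c, hin, ?_⟩
    rw [dif_pos hin]
    refine M.inj _ (hφ _ hin) z hzu ((tφ _ hin)⁻¹ * (N.e (conN (SliceData.lead c)))⁻¹) ?_
    have hlne : N.e (conN (SliceData.lead c)) ≠ 0 := fun h0 => by
      rw [(N.eq_zero_iff hl).1 h0] at n2; simp at n2
    rw [hφv, hW]
    simp only []
    rw [hvn, inW_smul, app_smul, hcw, ← hdec, hw, app_inv_app, smul_smul, smul_smul]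
    have e : ∀ a b : M.K, a ≠ 0 → b ≠ 0 → a⁻¹ * b⁻¹ * a * b = 1 := fun a b ha hb' => by
      rw [mul_comm a⁻¹ b⁻¹, mul_assoc (b⁻¹), inv_mul_cancel₀ ha, mul_one, inv_mul_cancel₀ hb']
    rw [e _ _ (htφ _ hin) hlne, one_smul]
  · rw [dif_pos hc, dif_pos hd]; exact hh c hc d hd

end CfsgLib.SporFischer
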