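import Cfsg.Agent.FischerTypes.U62Geometry
import Cfsg.Agent.Transpositions.UnitaryPerp

/-!
# Sets of involutions whose perps are the isotropic points of `U(6,2)`

A point of a unitary geometry that is orthogonal to none of a conjugation-closed set containing an induced
path `q - u - p - m` of orthogonalities does not exist; consequently two members with a common neighbour
see every neighbour of either through a common neighbour, and the component of a member has diameter two.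
-/

set_option autoImplicit false
set_option linter.unusedSectionVars false

namespace CfsgLib.SporFischer

open CfsgLib.RepBounds.Unit CfsgLib.U62

variable {G : Type*} [Group G]

/-- The members of `D` other than `d` commuting with `d`. -/
def nbr (D : Set G) (d : G) : Set G := {y | y ∈ D ∧ y ≠ d ∧ Commute d y}

theorem nbr_symm {D : Set G} {d x : G} (hd : d ∈ D) (hx : x ∈ nbr D d) : d ∈ nbr D x :=
  ⟨hd, Ne.symm hx.2.1, hx.2.2.symm⟩

/-- A representation of `P` by the isotropic points of `U(6,2)`, orthogonality being commutation. -/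
structure UModel (P : Set G) where
  /-- the field of four elements -/
  K : Type
  [instField : Field K]
  [instFintype : Fintype K]
  /-- its involution -/
  C : ConjField K
  hq : C.q = 2
  /-- a vector at each point -/
  vec : G → I6 → K
  iso : ∀ x ∈ P, herm C (vec x) (vec x) = 0 ∧ vec x ≠ 0
  inj : ∀ x ∈ P, ∀ y ∈ P, ∀ a : K, vec y = a • vec x → x = y
  surj : ∀ w, herm C w w = 0 → w ≠ 0 → ∃ x ∈ P, ∃ a : K, vec x = a • w
  comm : ∀ x ∈ P, ∀ y ∈ P, (Commute x y ↔ herm C (vec x) (vec y) = 0)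
  closed : ∀ x ∈ P, ∀ y ∈ P, y * x * y ∈ P
  conj : ∀ x ∈ P, ∀ y ∈ P, ∃ a : K, a ≠ 0 ∧
    vec (y * x * y) = a • (vec x + herm C (vec x) (vec y) • vec y)

attribute [instance] UModel.instField UModel.instFintype

namespace UModel

variable {P : Set G}

/-- Two roots different from `0` and `1` are equal or sum to `1`. -/
theorem eq_of_sum_ne_one {F : Type*} [Field F] [Fintype F] (C : ConjField F) (hq : C.q = 2) {x z : F}
    (hx0 : x ≠ 0) (hx1 : x ≠ 1) (hz0 : z ≠ 0) (hz1 : z ≠ 1) (h : x + z ≠ 1) : x = z := by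
  have root : ∀ {x : F}, x ≠ 0 → x ≠ 1 → x * x + x + 1 = 0 := by
    intro x hx0 hx1
    have h3 := pow_three C hq hx0
    have h2 : (x - 1) * (x * x + x + 1) = 0 := by linear_combination h3
    exact (mul_eq_zero.1 h2).resolve_left (sub_ne_zero.2 hx1)
  have h4 : (x - z) * (x + z + 1) = 0 := by linear_combination root hx0 hx1 - root hz0 hz1
  rcases mul_eq_zero.1 h4 with h5 | h5
  · exact sub_eq_zero.1 h5
  · refine absurd ?_ h
    linear_combination h5 - add_self C hq (1 : F)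

/-- Some member of a closed set with an induced path of orthogonalities commutes with a given point. -/
theorem exists_commute_of_path (M : UModel P) {S : Set G} (hSP : S ⊆ P) (hS : ∀ x ∈ S, ∀ y ∈ S, y * x * y ∈ S)
    {q u p m : G} (hq : q ∈ S) (hu : u ∈ S) (hp : p ∈ S) (hm : m ∈ S)
    (hqu : Commute q u) (hup : Commute u p) (hpm : Commute p m)
    (hqp : ¬ Commute q p) (hqm : ¬ Commute q m) (hum : ¬ Commute u m) {y : G} (hy : y ∈ P) :
    ∃ z ∈ S, Commute y z := by
  by_contra hno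
  push Not at hno
  have hne : ∀ a ∈ S, herm M.C (M.vec a) (M.vec y) ≠ 0 := fun a ha h0 =>
    hno a ha ((M.comm a (hSP ha) y hy).2 h0).symm
  -- the representatives with product `1` with `y`
  obtain ⟨w, hw⟩ : ∃ w : G → I6 → M.K, ∀ a, w a = (herm M.C (M.vec a) (M.vec y))⁻¹ • M.vec a :=
    ⟨_, fun _ => rfl⟩
  have hwy : ∀ a ∈ S, herm M.C (w a) (M.vec y) = 1 := fun a ha => by
    rw [hw a, herm_smul_left, inv_mul_cancel₀ (hne a ha)]
  have hcomm : ∀ a ∈ S, ∀ b ∈ S, (Commute a b ↔ herm M.C (w a) (w b) = 0) := by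
    intro a ha b hb
    rw [M.comm a (hSP ha) b (hSP hb), hw a, hw b]
    simp [herm_smul_left, herm_smul_right, hne a ha, hne b hb]
  have hself : ∀ a ∈ S, herm M.C (w a) (w a) = 0 := fun a ha => (hcomm a ha a ha).1 (Commute.refl a)
  -- conjugates
  have hconj : ∀ a ∈ S, ∀ b ∈ S, ∃ c : M.K, c ≠ 0 ∧
      M.vec (b * a * b) = c • (w a + herm M.C (w a) (w b) • w b) := by
    intro a ha b hb
    obtain ⟨c, hc, hcv⟩ := M.conj a (hSP ha) b (hSP hb)
    set s := herm M.C (M.vec a) (M.vec y)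
    set t := herm M.C (M.vec b) (M.vec y)
    have hs : s ≠ 0 := hne a ha
    have ht : t ≠ 0 := hne b hb
    refine ⟨c * s, mul_ne_zero hc hs, ?_⟩
    have ea : M.vec a = s • w a := by rw [hw a]; simp [s, smul_smul, mul_inv_cancel₀ hs]
    have eb : M.vec b = t • w b := by rw [hw b]; simp [t, smul_smul, mul_inv_cancel₀ ht]
    rw [hcv, ea, eb, herm_smul_left, herm_smul_right, smul_add, smul_add, smul_smul, smul_smul, smul_smul,
      smul_smul]
    congr 2
    linear_combination (c * s * herm M.C (w a) (w b)) * norm_eq_one M.C M.hq ht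
  have hne1 : ∀ a ∈ S, ∀ b ∈ S, 1 + herm M.C (w a) (w b) ≠ 0 := by
    intro a ha b hb h0
    obtain ⟨c, -, hcv⟩ := hconj a ha b hb
    refine hne _ (hS a ha b hb) ?_
    rw [hcv, herm_smul_left, herm_add_left, herm_smul_left, hwy a ha, hwy b hb, mul_one, h0, mul_zero]
  have hne1' : ∀ a ∈ S, ∀ b ∈ S, herm M.C (w a) (w b) ≠ 1 := fun a ha b hb h0 =>
    hne1 a ha b hb (by rw [h0, add_self M.C M.hq])
  have hwn : ∀ a ∈ S, ∀ b ∈ S, w (b * a * b) =
      (1 + herm M.C (w a) (w b))⁻¹ • (w a + herm M.C (w a) (w b) • w b) := by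
    intro a ha b hb
    obtain ⟨c, hc, hcv⟩ := hconj a ha b hb
    have e : herm M.C (M.vec (b * a * b)) (M.vec y) = c * (1 + herm M.C (w a) (w b)) := by
      rw [hcv, herm_smul_left, herm_add_left, herm_smul_left, hwy a ha, hwy b hb, mul_one]
    rw [hw, e, hcv, smul_smul, mul_inv, mul_comm c⁻¹, mul_assoc, inv_mul_cancel₀ hc, mul_one]
  -- two commuting members seen from a third
  have key : ∀ a ∈ S, ∀ b ∈ S, ∀ e ∈ S, Commute b e → ¬ Commute a b → ¬ Commute a e →
      herm M.C (w a) (w b) = herm M.C (w a) (w e) := by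
    intro a ha b hb e he hbe hab hae
    have hx0 : herm M.C (w a) (w b) ≠ 0 := fun h0 => hab ((hcomm a ha b hb).2 h0)
    have hz0 : herm M.C (w a) (w e) ≠ 0 := fun h0 => hae ((hcomm a ha e he).2 h0)
    refine eq_of_sum_ne_one M.C M.hq hx0 (hne1' a ha b hb) hz0 (hne1' a ha e he) fun hsum => ?_
    have hn := hne1' _ (hS a ha b hb) e he
    have hbe0 := (hcomm b hb e he).1 hbe
    rw [hwn a ha b hb, herm_smul_left, herm_add_left, herm_smul_left, hbe0, mul_zero, add_zero] at hn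
    apply hn
    rw [inv_mul_eq_div, div_eq_one_iff_eq (hne1 a ha b hb)]
    linear_combination hsum - add_self M.C M.hq (herm M.C (w a) (w b))
  have hnS := hS q hq p hp
  set x := herm M.C (w m) (w q) with hx
  have e1 : x = herm M.C (w m) (w u) :=
    key m hm q hq u hu hqu (fun h => hqm h.symm) fun h => hum h.symm
  set μ := herm M.C (w q) (w p) with hμ
  have hmn : herm M.C (w m) (w (p * q * p)) = x * (M.C.σ (1 + μ))⁻¹ := by
    rw [hwn q hq p hp, herm_smul_right, herm_add_right, herm_smul_right, ← hμ, ← hx,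
      (hcomm m hm p hp).1 hpm.symm, mul_zero, add_zero, map_inv₀, mul_comm]
  have hx0 : x ≠ 0 := fun h0 => hqm ((hcomm m hm q hq).2 h0).symm
  have hs0 : M.C.σ (1 + μ) ≠ 0 := (_root_.map_ne_zero _).2 (hne1 q hq p hp)
  have e2 : herm M.C (w m) (w (p * q * p)) = herm M.C (w m) (w u) := by
    refine key m hm _ hnS u hu ((hup.symm.mul_left hqu).mul_left hup.symm) (fun h => ?_) fun h => hum h.symm
    rw [hcomm m hm _ hnS, hmn] at h
    exact (mul_ne_zero hx0 (inv_ne_zero hs0)) h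
  rw [hmn, ← e1] at e2
  have h1 : (M.C.σ (1 + μ))⁻¹ = 1 := mul_left_cancel₀ hx0 (e2.trans (mul_one x).symm)
  rw [inv_eq_one] at h1
  have h2 : 1 + μ = 1 := by
    have := congrArg M.C.σ h1
    rwa [M.C.invol, map_one] at this
  exact hqp ((hcomm q hq p hp).2 (add_left_cancel (h2.trans (add_zero 1).symm)))

end UModel

/-- A set of involutions with models at each member. -/
structure Geom22 (D : Set G) : Prop where
  inv : ∀ x ∈ D, x * x = 1
  closed : ∀ x ∈ D, ∀ y ∈ D, y * x * y ∈ D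
  braid : ∀ d ∈ D, ∀ x ∈ nbr D d, ∀ y ∈ nbr D d, ¬ Commute x y → x * y * x = y * x * y
  model : ∀ d ∈ D, Nonempty (UModel (nbr D d))

namespace Geom22

variable {D : Set G} (hD : Geom22 D)
include hD

theorem conj_mem_nbr {a x y : G} (hy : y ∈ D) (hay : Commute a y) (hx : x ∈ nbr D a) :
    y * x * y ∈ nbr D a := by
  refine ⟨hD.closed x hx.1 y hy, fun h => hx.2.1 ?_, (hay.mul_right hx.2.2).mul_right hay⟩
  have h1 : y * (y * x * y) * y = y * a * y := by rw [h]
  rw [hay.symm.eq, mul_assoc a y y, hD.inv y hy, mul_one] at h1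
  calc x = (y * y) * x * (y * y) := by rw [hD.inv y hy, one_mul, mul_one]
    _ = y * (y * x * y) * y := by simp [mul_assoc]
    _ = a := h1

/-- The common neighbours of `x` and `v` next to a third member contain an induced path. -/
theorem exists_path {x u v : G} (hu : u ∈ D) (hx : x ∈ nbr D u) (hv : v ∈ nbr D u) (hxv : ¬ Commute x v) :
    ∃ q r p m, (∀ z ∈ ({q, r, p, m} : Set G), z ∈ nbr D u ∧ z ∈ nbr D x ∧ z ∈ nbr D v) ∧
      Commute q r ∧ Commute r p ∧ Commute p m ∧ ¬ Commute q p ∧ ¬ Commute q m ∧ ¬ Commute r m := by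
  obtain ⟨M⟩ := hD.model u hu
  obtain ⟨hvx, hx0⟩ := M.iso x hx
  obtain ⟨hvv, -⟩ := M.iso v hv
  obtain ⟨g, b, hb, hg1, hg2⟩ := CfsgLib.Transpositions.UnitaryPerp.exists_frame M.C M.hq hvx hvv hx0
    (fun h0 => hxv ((M.comm v hv x hx).2 h0).symm)
  have key : ∀ w : Fin 2 ⊕ Fin 2 → M.K, herm M.C w w = 0 → w ≠ 0 →
      ∃ z, (z ∈ nbr D u ∧ z ∈ nbr D x ∧ z ∈ nbr D v) ∧ ∃ a : M.K, a ≠ 0 ∧
        M.vec z = a • app M.C g⁻¹ (inW w) := by
    intro w hw hw0
    have h1 : herm M.C (app M.C g⁻¹ (inW w)) (app M.C g⁻¹ (inW w)) = 0 := by rw [herm_app, herm_inW, hw]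
    have h2 : app M.C g⁻¹ (inW w) ≠ 0 := fun h0 => hw0 (by
      have e := app_app_inv M.C g (inW w)
      rw [h0] at e
      funext i
      simpa [inW, app] using (congrFun e (Sum.inr i)).symm)
    obtain ⟨z, hz, a, hza⟩ := M.surj _ h1 h2
    have ha : a ≠ 0 := fun h0 => (M.iso z hz).2 (by rw [hza, h0, zero_smul])
    have hxz : herm M.C (M.vec z) (M.vec x) = 0 := by
      rw [hza, herm_smul_left, herm_app_left, hg1, herm_inW_vE, mul_zero]
    have hvz : herm M.C (M.vec z) (M.vec v) = 0 := by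
      rw [hza, herm_smul_left, herm_app_left, hg2, herm_smul_right, herm_inW_vF, mul_zero, mul_zero]
    refine ⟨z, ⟨hz, ⟨hz.1, fun h0 => ?_, ((M.comm z hz x hx).2 hxz).symm⟩,
      ⟨hz.1, fun h0 => ?_, ((M.comm z hz v hv).2 hvz).symm⟩⟩, a, ha, hza⟩
    · exact hxv (h0 ▸ (M.comm z hz v hv).2 hvz)
    · exact hxv (h0 ▸ (M.comm z hz x hx).2 hxz).symm
  obtain ⟨ω, hω0, hω1, -⟩ := exists_omega M.C M.hq
  set a : Fin 2 → M.K := ![1, 1] with ha
  set c : Fin 2 → M.K := ![1, ω] with hc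
  have h11 : (1 : M.K) + 1 = 0 := add_self M.C M.hq 1
  have haa : herm M.C a a = 0 := by simp [ha, herm, Fin.sum_univ_two, h11]
  have hcc : herm M.C c c = 0 := by simp [hc, herm, Fin.sum_univ_two, norm_eq_one M.C M.hq hω0, h11]
  have hac : herm M.C a c ≠ 0 := by
    simp only [ha, hc, herm, Fin.sum_univ_two, Matrix.cons_val_zero, Matrix.cons_val_one, map_one, mul_one,
      one_mul]
    intro h0
    refine hω1 (M.C.σ.injective ?_)
    rw [map_one]
    linear_combination h0 - h11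
  have hsum : ∀ p p' r r' : Fin 2 → M.K,
      herm M.C (Sum.elim p p') (Sum.elim r r') = herm M.C p r + herm M.C p' r' := fun p p' r r' => by
    rw [herm_sumElim]
  have ne : ∀ {p p' : Fin 2 → M.K}, (p 0 = 1 ∨ p' 0 = 1) → Sum.elim p p' ≠ 0 := by
    rintro p p' (h | h) h0
    · simpa [h] using congrFun h0 (Sum.inl 0)
    · simpa [h] using congrFun h0 (Sum.inr 0)
  have hh : ∀ w w' : Fin 2 ⊕ Fin 2 → M.K, herm M.C (app M.C g⁻¹ (inW w)) (app M.C g⁻¹ (inW w')) =
      herm M.C w w' := fun w w' => by rw [herm_app, herm_inW]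
  obtain ⟨q, hq, aq, haq, hqv⟩ := key (Sum.elim a 0) (by rw [hsum, haa, herm_zero_left, add_zero])
    (ne (Or.inl rfl))
  obtain ⟨r, hr, ar, har, hrv⟩ := key (Sum.elim 0 a) (by rw [hsum, haa, herm_zero_left, add_zero])
    (ne (Or.inr rfl))
  obtain ⟨p, hp, ap, hap, hpv⟩ := key (Sum.elim c 0) (by rw [hsum, hcc, herm_zero_left, add_zero])
    (ne (Or.inl rfl))
  obtain ⟨m, hm, am, ham, hmv⟩ := key (Sum.elim c c) (by rw [hsum, hcc, add_zero]) (ne (Or.inl rfl))
  have hherm : ∀ {y z : G} {w w' : Fin 2 ⊕ Fin 2 → M.K} {s t : M.K}, y ∈ nbr D u → z ∈ nbr D u → s ≠ 0 →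
      t ≠ 0 → M.vec y = s • app M.C g⁻¹ (inW w) → M.vec z = t • app M.C g⁻¹ (inW w') →
      (Commute y z ↔ herm M.C w w' = 0) := by
    intro y z w w' s t hy hz hs ht e e'
    rw [M.comm y hy z hz, e, e', herm_smul_left, herm_smul_right, hh]
    simp [hs, ht]
  refine ⟨q, r, p, m, ?_, ?_, ?_, ?_, ?_, ?_, ?_⟩
  · rintro z (rfl | rfl | rfl | rfl)
    exacts [hq, hr, hp, hm]
  · rw [hherm hq.1 hr.1 haq har hqv hrv, hsum, herm_zero_left, herm_zero_right, add_zero]
  · rw [hherm hr.1 hp.1 har hap hrv hpv, hsum, herm_zero_left, herm_zero_right, add_zero]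
  · rw [hherm hp.1 hm.1 hap ham hpv hmv, hsum, hcc, herm_zero_left, add_zero]
  · rw [hherm hq.1 hp.1 haq hap hqv hpv, hsum, herm_zero_left, add_zero]; exact hac
  · rw [hherm hq.1 hm.1 haq ham hqv hmv, hsum, herm_zero_left, add_zero]; exact hac
  · rw [hherm hr.1 hm.1 har ham hrv hmv, hsum, herm_zero_left, zero_add]; exact hac

/-- The common neighbours of two members are closed under conjugation by each other. -/
theorem closed_common {x v : G} :
    ∀ a ∈ nbr D x ∩ nbr D v, ∀ b ∈ nbr D x ∩ nbr D v, b * a * b ∈ nbr D x ∩ nbr D v :=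
  fun _ ha _ hb => ⟨hD.conj_mem_nbr hb.1.1 hb.1.2.2 ha.1, hD.conj_mem_nbr hb.1.1 hb.2.2.2 ha.2⟩

/-- A member next to one of two members with a common neighbour has a common neighbour with the other. -/
theorem exists_common {x u v y : G} (hu : u ∈ D) (hx : x ∈ nbr D u) (hv : v ∈ nbr D u) (hxv : ¬ Commute x v)
    (hy : y ∈ nbr D v) : ∃ z ∈ nbr D x ∩ nbr D v, Commute y z := by
  obtain ⟨q, r, p, m, hmem, h1, h2, h3, n1, n2, n3⟩ := hD.exists_path hu hx hv hxv
  obtain ⟨M⟩ := hD.model v hv.1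
  have hS : ∀ z ∈ ({q, r, p, m} : Set G), z ∈ nbr D x ∩ nbr D v := fun z hz => (hmem z hz).2
  exact M.exists_commute_of_path Set.inter_subset_right hD.closed_common (hS q (by simp)) (hS r (by simp))
    (hS p (by simp)) (hS m (by simp)) h1 h2 h3 n1 n2 n3 hy

/-- The members at distance at most two. -/
def ball (D : Set G) (d : G) : Set G := {y | y ∈ D ∧ (Commute d y ∨ ∃ z, z ∈ nbr D d ∧ z ∈ nbr D y)}

theorem ball_step {d v y : G} (hd : d ∈ D) (hv : v ∈ ball D d) (hy : y ∈ nbr D v) : y ∈ ball D d := by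
  refine ⟨hy.1, ?_⟩
  by_cases hdy : Commute d y
  · exact Or.inl hdy
  refine Or.inr ?_
  have hne : d ≠ y := fun e => hdy (e ▸ Commute.refl d)
  by_cases hdv : Commute d v
  · have hvd : d ≠ v := fun e => hdy (e ▸ hy.2.2)
    exact ⟨v, ⟨hv.1, Ne.symm hvd, hdv⟩, nbr_symm hv.1 hy⟩
  obtain ⟨z, hz1, hz2⟩ := hv.2.resolve_left hdv
  obtain ⟨w, hw, hwy⟩ := hD.exists_common hz1.1 (nbr_symm hd hz1) (nbr_symm hv.1 hz2) hdv hy
  exact ⟨w, hw.1, hw.1.1, fun e => hdy (e ▸ hw.1.2.2), hwy⟩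

end Geom22

end CfsgLib.SporFischer
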