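import Cfsg.Agent.SporFischer.Geom

/-!
# A class whose members next to one lift a class of the quotient of its centralizer

If the members commuting with `d` and different from it correspond exactly to a class `E` of the centralizer
modulo `d`, commuting and conjugation are read off in the quotient; for transvection classes of `PSU(6,2)`
this gives coordinates by isotropic points.
-/

set_option autoImplicit false
set_option linter.unusedSectionVars false

namespace CfsgLib.SporFischer

open CfsgLib.RepBounds.Unit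

variable {G : Type*} [Group G] {D : Set G} {d : G}

/-- A neighbour of `d` inside the centralizer. -/
def inC {x : G} (hx : x ∈ nbr D d) : ↥(Subgroup.centralizer ({d} : Set G)) :=
  ⟨x, Subgroup.mem_centralizer_singleton_iff.2 hx.2.2.eq.symm⟩

/-- The neighbours of `d` lift the set `E` of a quotient of the centralizer, one member over each. -/
structure Lifts (D : Set G) (d : G) (S : Type*) [Group S] (E : Set S) where
  /-- the quotient map -/
  π : ↥(Subgroup.centralizer ({d} : Set G)) →* S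
  surj : Function.Surjective π
  ker : ∀ z, π z = 1 ↔ (z : G) = 1 ∨ (z : G) = d
  mem : ∀ (x : G) (hx : x ∈ nbr D d), π (inC hx) ∈ E
  inj : ∀ (x : G) (hx : x ∈ nbr D d) (y : G) (hy : y ∈ nbr D d), π (inC hx) = π (inC hy) → x = y
  cover : ∀ e ∈ E, ∃ (x : G) (hx : x ∈ nbr D d), π (inC hx) = e

theorem conj_mem_nbr' (hinv : ∀ x ∈ D, x * x = 1) (hcl : ∀ x ∈ D, ∀ y ∈ D, y * x * y ∈ D) {x y : G}
    (hx : x ∈ nbr D d) (hy : y ∈ nbr D d) : y * x * y ∈ nbr D d := by
  refine ⟨hcl x hx.1 y hy.1, fun h => hx.2.1 ?_, (hy.2.2.mul_right hx.2.2).mul_right hy.2.2⟩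
  calc x = (y * y) * x * (y * y) := by rw [hinv y hy.1, one_mul, mul_one]
    _ = y * (y * x * y) * y := by simp [mul_assoc]
    _ = d := by rw [h, hy.2.2.symm.eq, mul_assoc, hinv y hy.1, mul_one]

namespace Lifts

variable {S : Type*} [Group S] {E : Set S} (L : Lifts D d S E)
  (hinv : ∀ x ∈ D, x * x = 1) (hcl : ∀ x ∈ D, ∀ y ∈ D, y * x * y ∈ D)
include L hinv hcl

theorem map_conj {x y : G} (hx : x ∈ nbr D d) (hy : y ∈ nbr D d) :
    L.π (inC (conj_mem_nbr' hinv hcl hx hy)) = L.π (inC hy) * L.π (inC hx) * L.π (inC hy) := by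
  rw [← map_mul, ← map_mul]
  exact congrArg L.π (Subtype.ext rfl)

theorem map_sq {x : G} (hx : x ∈ nbr D d) : L.π (inC hx) * L.π (inC hx) = 1 := by
  rw [← map_mul, show inC hx * inC hx = 1 from Subtype.ext (hinv x hx.1), map_one]

/-- Commuting is read off in the quotient. -/
theorem commute_iff {x y : G} (hx : x ∈ nbr D d) (hy : y ∈ nbr D d) :
    Commute x y ↔ Commute (L.π (inC hx)) (L.π (inC hy)) := by
  refine ⟨fun h => ?_, fun h => ?_⟩
  · exact Commute.map (show Commute (inC hx) (inC hy) from Subtype.ext h.eq) L.π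
  · have e : y * x * y = x := L.inj _ (conj_mem_nbr' hinv hcl hx hy) x hx (by
      rw [L.map_conj hinv hcl hx hy, ← h.eq, mul_assoc, L.map_sq hinv hcl hy, mul_one])
    show x * y = y * x
    calc x * y = y * x * y * y := by rw [e]
      _ = y * x := by rw [mul_assoc, hinv y hy.1, mul_one]

/-- The braid relation comes from the quotient. -/
theorem braid (hE : ∀ a ∈ E, ∀ b ∈ E, ¬ Commute a b → a * b * a = b * a * b) {x y : G} (hx : x ∈ nbr D d)
    (hy : y ∈ nbr D d) (hxy : ¬ Commute x y) : x * y * x = y * x * y := by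
  refine L.inj _ (conj_mem_nbr' hinv hcl hy hx) _ (conj_mem_nbr' hinv hcl hx hy) ?_
  rw [L.map_conj hinv hcl hy hx, L.map_conj hinv hcl hx hy]
  exact hE _ (L.mem x hx) _ (L.mem y hy) fun h => hxy ((L.commute_iff hinv hcl hx hy).2 h)

/-- Transvection classes give coordinates. -/
theorem exists_uModel {F : Type} [Field F] [Fintype F] (C : ConjField F) (hC : C.q = 2)
    (θ : suG C U62.I6 →* S) (hker : θ.ker = Subgroup.center (suG C U62.I6))
    (hE : ∀ e : S, e ∈ E ↔ ∃ v, herm C v v = 0 ∧ v ≠ 0 ∧ e = θ (U62.tv C v)) :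
    Nonempty (UModel (nbr D d)) := by
  classical
  choose! vec hvec using fun (x : G) (hx : x ∈ nbr D d) => (hE _).1 (L.mem x hx)
  have back : ∀ x (hx : x ∈ nbr D d), L.π (inC hx) = θ (U62.tv C (vec x)) := fun x hx => (hvec x hx).2.2
  refine ⟨⟨F, C, hC, vec, fun x hx => ⟨(hvec x hx).1, (hvec x hx).2.1⟩, fun x hx y hy a h => ?_,
    fun w hw hw0 => ?_, fun x hx y hy => ?_, fun x hx y hy => conj_mem_nbr' hinv hcl hx hy,
    fun x hx y hy => ?_⟩⟩
  · refine L.inj x hx y hy ?_
    rw [back x hx, back y hy, h, U62.tv_smul C hC (fun h0 => (hvec y hy).2.1 (by rw [h, h0, zero_smul]))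
      (hvec x hx).1]
  · obtain ⟨x, hx, he⟩ := L.cover _ ((hE _).2 ⟨w, hw, hw0, rfl⟩)
    obtain ⟨a, -, ha⟩ := U62.eq_smul_of_map_eq C hC θ hker hw (hvec x hx).1 (hvec x hx).2.1
      (he.symm.trans (back x hx))
    exact ⟨x, hx, a, ha⟩
  · rw [L.commute_iff hinv hcl hx hy, back x hx, back y hy]
    refine ⟨fun h => U62.orth_of_commute C hC θ hker (hvec y hy).1 (hvec x hx).1 (hvec x hx).2.1 h.symm,
      fun h => (U62.commute_tv C hC (hvec y hy).1 (hvec x hx).1 h).symm.map θ⟩
  · have hxy := conj_mem_nbr' hinv hcl hx hy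
    have hiso : herm C (app C (U62.tv C (vec y)) (vec x)) (app C (U62.tv C (vec y)) (vec x)) = 0 := by
      rw [herm_app, (hvec x hx).1]
    have e : θ (U62.tv C (app C (U62.tv C (vec y)) (vec x))) = θ (U62.tv C (vec (y * x * y))) := by
      rw [← U62.conj_tv C hC _ (hvec x hx).1, inv_eq_of_mul_eq_one_right (U62.tv_mul_self C hC (hvec y hy).1),
        map_mul, map_mul, ← back x hx, ← back y hy, ← L.map_conj hinv hcl hx hy, back]
    obtain ⟨a, ha, hav⟩ := U62.eq_smul_of_map_eq C hC θ hker hiso (hvec _ hxy).1 (hvec _ hxy).2.1 e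
    exact ⟨a, ha, by rw [hav, U62.app_tv C hC (hvec y hy).1]⟩

end Lifts

end CfsgLib.SporFischer
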