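import Cfsg.Agent.SporFischer.Slice
import Cfsg.Agent.SporFischer.Lifts

/-!
# Sets of involutions whose neighbourhoods are geometries of type M(22)

If the members next to any one form such a geometry of diameter two, then the members at distance at most
two from one are closed under taking neighbours.
-/

set_option autoImplicit false
set_option linter.unusedSectionVars false
set_option maxRecDepth 20000

namespace CfsgLib.SporFischer

open SliceData (pts126 quads okQuad normN hT)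

variable {G : Type*} [Group G]

/-- The members next to each form a geometry of diameter two. -/
structure Geom23 (D : Set G) : Prop where
  inv : ∀ x ∈ D, x * x = 1
  closed : ∀ x ∈ D, ∀ y ∈ D, y * x * y ∈ D
  local22 : ∀ a ∈ D, Geom22 (nbr D a)
  two : ∀ a ∈ D, ∀ x ∈ nbr D a, ∀ y ∈ nbr D a, y ∈ Geom22.ball (nbr D a) x

namespace SliceData

/-- The four points of a row next to an isotropic point. -/
theorem exists_quad {c : ℕ} (hc : c < 4096) (hc0 : c ≠ 0) (hn : normN c = c) (hiso : hT 1 c c = 0) :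
    ∃ q u p m : ℕ, (∀ i ∈ [q, u, p, m], i < 126 ∧ hT 1 (pts126.getD i 0) c = 0) ∧
      hT 1 (pts126.getD q 0) (pts126.getD u 0) = 0 ∧ hT 1 (pts126.getD u 0) (pts126.getD p 0) = 0 ∧
      hT 1 (pts126.getD p 0) (pts126.getD m 0) = 0 ∧ hT 1 (pts126.getD q 0) (pts126.getD p 0) ≠ 0 ∧
      hT 1 (pts126.getD q 0) (pts126.getD m 0) ≠ 0 ∧ hT 1 (pts126.getD u 0) (pts126.getD m 0) ≠ 0 := by
  have h := List.all_eq_true.1 quads_cover c (List.mem_range.2 hc)
  rw [hn, hiso] at h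
  simp only [Bool.or_eq_true, Nat.beq_refl, Bool.not_true, Bool.false_eq_true, or_false, List.any_eq_true] at h
  rcases h with h | ⟨⟨s, q, u, p, m⟩, hr, hs⟩
  · exact absurd (Nat.eq_of_beq_eq_true h) hc0
  have hs' : s = c := Nat.eq_of_beq_eq_true hs
  subst hs'
  have hb := List.all_eq_true.1 quads_ok _ hr
  simp only [okQuad, Bool.and_eq_true, Bool.not_eq_true', List.all_eq_true, Nat.blt_eq] at hb
  obtain ⟨⟨⟨⟨⟨⟨h1, h2⟩, h3⟩, h4⟩, h5⟩, h6⟩, h7⟩ := hb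
  refine ⟨q, u, p, m, fun i hi => ⟨(h1 i hi).1, Nat.eq_of_beq_eq_true (h1 i hi).2⟩, Nat.eq_of_beq_eq_true h2,
    Nat.eq_of_beq_eq_true h3, Nat.eq_of_beq_eq_true h4, ?_, ?_, ?_⟩ <;> intro e
  · rw [e] at h5; exact absurd h5 (by decide)
  · rw [e] at h6; exact absurd h6 (by decide)
  · rw [e] at h7; exact absurd h7 (by decide)

end SliceData

namespace Geom23

variable {D : Set G} (hD : Geom23 D)
include hD

theorem step {d v y : G} (hd : d ∈ D) (hv : v ∈ Geom22.ball D d) (hy : y ∈ nbr D v) :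
    y ∈ Geom22.ball D d := by
  refine ⟨hy.1, ?_⟩
  by_cases hdy : Commute d y
  · exact Or.inl hdy
  refine Or.inr ?_
  have fin : ∀ w, w ∈ nbr D d → Commute y w → ∃ z, z ∈ nbr D d ∧ z ∈ nbr D y := fun w hw hyw =>
    ⟨w, hw, hw.1, fun e => hdy (e ▸ hw.2.2), hyw⟩
  by_cases hdv : Commute d v
  · have hvd : v ≠ d := fun e => hdy (e ▸ hy.2.2)
    exact fin v ⟨hv.1, hvd, hdv⟩ hy.2.2.symm
  obtain ⟨z, hzd, hzv⟩ := hv.2.resolve_left hdv
  have hzD := hzd.1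
  have hzv' : z ∈ nbr D v := hzv
  by_cases hyz : Commute y z
  · exact fin z hzd hyz
  -- a common neighbour of `z` and `y` next to `v`
  obtain ⟨-, h | ⟨s, hsz, hsy⟩⟩ := hD.two v hv.1 z hzv' y hy
  · exact absurd h.symm hyz
  have hsD : s ∈ D := hsz.1.1
  by_cases hds : Commute d s
  · exact fin s ⟨hsD, fun e => hdv (by rw [← e]; exact hsz.1.2.2.symm), hds⟩ hsy.2.2
  -- coordinates next to `z`
  have hZ := hD.local22 z hzD
  have hdZ : d ∈ nbr D z := nbr_symm hd hzd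
  have hvZ : v ∈ nbr D z := nbr_symm hv.1 hzv
  have hsZ : s ∈ nbr D z := ⟨hsD, hsz.2.1, hsz.2.2⟩
  obtain ⟨-, h | ⟨u, hud, huv⟩⟩ := hD.two z hzD d hdZ v hvZ
  · exact absurd h hdv
  obtain ⟨M⟩ := hZ.model v hvZ
  obtain ⟨Φ⟩ := hZ.exists_sliceRep hud.1 (nbr_symm hdZ hud) (nbr_symm hvZ huv) hdv M
  have hsv : s ∈ nbr (nbr D z) v := ⟨hsZ, hsz.1.2.1, hsz.1.2.2⟩
  obtain ⟨c, hc⟩ := Φ.R.exists_at (by norm_num) hsv
  obtain ⟨q, p₁, p₂, m, hi, h1, h2, h3, n1, n2, n3⟩ := SliceData.exists_quad hc.2.1 hc.2.2.1 hc.2.2.2.1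
    ((Φ.R.at_comm (by norm_num) hc hc).1 (Commute.refl s))
  set φ : ℕ → G := fun i => Φ.φ (pts126.getD i 0) with hφ
  have hmem : ∀ i, i < 126 → pts126.getD i 0 ∈ pts126 := fun i hi => by
    rw [List.getD_eq_getElem _ _ (SliceData.pts_props.1.symm ▸ hi)]; exact List.getElem_mem _
  have hat : ∀ i, i < 126 → φ i ∈ nbr (nbr D z) d ∧ Φ.R.At (φ i) (pts126.getD i 0) := fun i hi =>
    Φ.mem _ (hmem i hi)
  have cm : ∀ i j, i < 126 → j < 126 → (Commute (φ i) (φ j) ↔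
      hT 1 (pts126.getD i 0) (pts126.getD j 0) = 0) := fun i j hi hj =>
    Φ.R.at_comm (by norm_num) (hat i hi).2 (hat j hj).2
  -- the points in the coordinates next to `v` and `s`
  obtain ⟨M'⟩ := (hD.local22 v hv.1).model s hsz.1
  set S : Set G := {w | w ∈ nbr (nbr D v) s ∧ w ∈ nbr D d} with hS
  have hSm : ∀ i ∈ [q, p₁, p₂, m], φ i ∈ S := by
    intro i hi'
    obtain ⟨hlt, hs0⟩ := hi i hi'
    obtain ⟨hid, hiat⟩ := hat i hlt
    have hiv : φ i ∈ nbr (nbr D z) v := hiat.1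
    have hidD : φ i ∈ nbr D d := ⟨hid.1.1, hid.2.1, hid.2.2⟩
    refine ⟨⟨⟨hid.1.1, hiv.2.1, hiv.2.2⟩, fun e => hds ?_, ((Φ.R.at_comm (by norm_num) hiat hc).2 hs0).symm⟩,
      hidD⟩
    rw [← e]; exact hidD.2.2
  have hScl : ∀ x ∈ S, ∀ w ∈ S, w * x * w ∈ S := fun x hx w hw =>
    ⟨M'.closed x hx.1 w hw.1, conj_mem_nbr' hD.inv hD.closed hx.2 hw.2⟩
  have hlt : ∀ i ∈ [q, p₁, p₂, m], i < 126 := fun i hi' => (hi i hi').1
  have lq := hlt q (by simp); have l1 := hlt p₁ (by simp); have l2 := hlt p₂ (by simp)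
  have lm := hlt m (by simp)
  have hys : y ∈ nbr (nbr D v) s := ⟨hy, fun e => hdy (e ▸ absurd hsy.2.1 (by simp [e])), hsy.2.2.symm⟩
  obtain ⟨w, hw, hyw⟩ := M'.exists_commute_of_path (fun x hx => hx.1) hScl (hSm q (by simp)) (hSm p₁ (by simp))
    (hSm p₂ (by simp)) (hSm m (by simp)) ((cm q p₁ lq l1).2 h1) ((cm p₁ p₂ l1 l2).2 h2) ((cm p₂ m l2 lm).2 h3)
    (fun h => n1 ((cm q p₂ lq l2).1 h)) (fun h => n2 ((cm q m lq lm).1 h)) (fun h => n3 ((cm p₁ m l1 lm).1 h))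
    hys
  exact fin w hw.2 hyw

end Geom23

end CfsgLib.SporFischer
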