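import Cfsg.Agent.SporFischer.Component
import Cfsg.Agent.SporFischer.LiftsU62
import Cfsg.Agent.FischerTypes.M22PairCent

/-!
# The local facts at an involution with centralizer a double cover of `PSU₆(2)`

The members commuting with it have coordinates by isotropic points; moved by conjugation this gives
coordinates at every conjugate, so the component has diameter two; and the centralizer of two commuting
conjugates has no normal subgroup of odd order.
-/

set_option autoImplicit false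
set_option linter.unusedSectionVars false
set_option linter.style.haveILetI false

namespace CfsgLib.SporFischer

open Cfsg CfsgLib.RepBounds.Unit CfsgLib.U62

universe u

variable {G : Type u} [Group G] {d : G}

/-- Conjugation moves neighbours. -/
theorem conj_nbr {D : Set G} (hcl : ∀ (g : G), ∀ x ∈ D, g * x * g⁻¹ ∈ D) {a g : G} (hg : g * a * g⁻¹ = d)
    (z : G) (hz : z ∈ nbr D a) : g * z * g⁻¹ ∈ nbr D d :=
  ⟨hcl g z hz.1, fun h => hz.2.1 (by rw [← hg] at h; exact mul_left_cancel (mul_right_cancel h)), by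
    have := (CfsgLib.FischerTypes.commute_conj_iff' g a z).2 hz.2.2; rwa [hg] at this⟩

/-- Coordinates moved by conjugation. -/
def UModel.moved {D : Set G} {a : G} (M : UModel (nbr D d)) {g : G} (hg : g * a * g⁻¹ = d)
    (hcl : ∀ (g : G), ∀ x ∈ D, g * x * g⁻¹ ∈ D) : UModel (nbr D a) where
  K := M.K
  C := M.C
  hq := M.hq
  vec x := M.vec (g * x * g⁻¹)
  iso x hx := M.iso _ (conj_nbr hcl hg x hx)
  inj x hx y hy c h := by
    have hm := conj_nbr hcl hg
    exact mul_left_cancel (mul_right_cancel (M.inj _ (hm x hx) _ (hm y hy) c h))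
  surj w hw hw0 := by
    obtain ⟨x, hx, c, hc⟩ := M.surj w hw hw0
    refine ⟨g⁻¹ * x * g, ⟨?_, ?_, ?_⟩, c, by rwa [show g * (g⁻¹ * x * g) * g⁻¹ = x by group]⟩
    · simpa using hcl g⁻¹ x hx.1
    · intro h
      refine hx.2.1 ?_
      rw [← hg, ← h]; group
    · have := (CfsgLib.FischerTypes.commute_conj_iff' g⁻¹ (g * a * g⁻¹) x).2 (hg.symm ▸ hx.2.2)
      rwa [inv_inv, show g⁻¹ * (g * a * g⁻¹) * g = a by group] at this
  comm x hx y hy := by
    have hm := conj_nbr hcl hg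
    rw [← M.comm _ (hm x hx) _ (hm y hy), CfsgLib.FischerTypes.commute_conj_iff']
  closed x hx y hy := by
    have hm := conj_nbr hcl hg
    have h := M.closed _ (hm x hx) _ (hm y hy)
    rw [show g * y * g⁻¹ * (g * x * g⁻¹) * (g * y * g⁻¹) = g * (y * x * y) * g⁻¹ by group] at h
    refine ⟨?_, fun e => h.2.1 (by rw [e, hg]), ?_⟩
    · have h1 := hcl g⁻¹ _ h.1
      rwa [show g⁻¹ * (g * (y * x * y) * g⁻¹) * g⁻¹⁻¹ = y * x * y by group] at h1
    · exact (CfsgLib.FischerTypes.commute_conj_iff' g a (y * x * y)).1 (hg.symm ▸ h.2.2)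
  conj x hx y hy := by
    have hm := conj_nbr hcl hg
    rw [show g * (y * x * y) * g⁻¹ = g * y * g⁻¹ * (g * x * g⁻¹) * (g * y * g⁻¹) by group]
    exact M.conj _ (hm x hx) _ (hm y hy)

/-- The centre of a quotient of a perfect group by two elements which is simple. -/
theorem center_eq_bot_of_cover {C Q : Type*} [Group C] [Group Q] [IsSimpleGroup Q] (π : C →* Q)
    (hπ : Function.Surjective π) (hperf : commutator C = ⊤) : Subgroup.center Q = ⊥ := by
  rcases (inferInstance : (Subgroup.center Q).Normal).eq_bot_or_eq_top with h | h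
  · exact h
  exfalso
  have hle : commutator C ≤ π.ker := by
    rw [commutator_def, Subgroup.commutator_le]
    intro x _ y _
    rw [MonoidHom.mem_ker, map_commutatorElement, commutatorElement_eq_one_iff_commute]
    exact Subgroup.mem_center_iff.1 (h ▸ Subgroup.mem_top (π y) : π y ∈ Subgroup.center Q) (π x)
  rw [hperf] at hle
  obtain ⟨a, ha⟩ := exists_ne (1 : Q)
  obtain ⟨c, rfl⟩ := hπ a
  exact ha (hle (Subgroup.mem_top c))

namespace U62Data

variable (M : U62Data G d) (hd2 : d * d = 1)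

omit M in
theorem closed_all {x : G} (g : G) (hx : x ∈ conjugatesOf d) : g * x * g⁻¹ ∈ conjugatesOf d :=
  IsConj.trans hx (isConj_iff.2 ⟨g, rfl⟩)

include hd2

omit M in
theorem inv_all {x : G} (hx : x ∈ conjugatesOf d) : x * x = 1 := by
  obtain ⟨g, rfl⟩ := isConj_iff.1 hx
  rw [show g * d * g⁻¹ * (g * d * g⁻¹) = g * (d * d) * g⁻¹ by group, hd2, mul_one, mul_inv_cancel]

omit M in
theorem closed_sandwich (x : G) (hx : x ∈ conjugatesOf d) (y : G) (hy : y ∈ conjugatesOf d) :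
    y * x * y ∈ conjugatesOf d := by
  have h := closed_all y hx
  rwa [inv_eq_of_mul_eq_one_right (inv_all hd2 hy)] at h

include M

theorem exists_model : Nonempty (UModel (nbr (conjugatesOf d) d)) :=
  M.exists_uModel (fun _ hx => inv_all hd2 hx) (closed_sandwich hd2)

theorem geom22 : Geom22 (conjugatesOf d) := by
  obtain ⟨U⟩ := M.exists_model hd2
  refine ⟨fun x hx => inv_all hd2 hx, fun x hx y hy => closed_sandwich hd2 x hx y hy,
    fun a ha x hx y hy hxy => ?_, fun a ha => ?_⟩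
  · obtain ⟨g, hg⟩ := isConj_iff.1 (IsConj.symm ha)
    have hm := conj_nbr (D := conjugatesOf d) (fun k z (hz : z ∈ conjugatesOf d) => closed_all k hz) hg
    have h := M.braid (fun _ hx => inv_all hd2 hx) (closed_sandwich hd2) (hm x hx) (hm y hy)
      fun h => hxy ((CfsgLib.FischerTypes.commute_conj_iff' g x y).1 h)
    rw [show g * x * g⁻¹ * (g * y * g⁻¹) * (g * x * g⁻¹) = g * (x * y * x) * g⁻¹ by group,
      show g * y * g⁻¹ * (g * x * g⁻¹) * (g * y * g⁻¹) = g * (y * x * y) * g⁻¹ by group] at h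
    exact mul_left_cancel (mul_right_cancel h)
  · obtain ⟨g, hg⟩ := isConj_iff.1 (IsConj.symm ha)
    exact ⟨U.moved hg fun k _ hx => closed_all k hx⟩

/-- Members over isotropic vectors are conjugate in the centralizer. -/
theorem exists_conj {x y : G} (hx : x ∈ nbr (conjugatesOf d) d) (hy : y ∈ nbr (conjugatesOf d) d) :
    ∃ c ∈ Subgroup.centralizer ({d} : Set G), c * x * c⁻¹ = y := by
  obtain ⟨v, hv, hv0, hxv⟩ := M.L.mem x hx
  obtain ⟨w, hw, hw0, hyw⟩ := M.L.mem y hy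
  obtain ⟨a, ha⟩ := U62.exists_map_eq M.C hv hv0
  obtain ⟨b, hb⟩ := U62.exists_map_eq M.C hw hw0
  obtain ⟨c, hc⟩ := M.L.surj (M.θ (b⁻¹ * a))
  have hcd : (c : G) * d * (c : G)⁻¹ = d :=
    mul_inv_eq_iff_eq_mul.2 (Subgroup.mem_centralizer_singleton_iff.1 c.2)
  have hcx : (c : G) * x * (c : G)⁻¹ ∈ nbr (conjugatesOf d) d :=
    conj_nbr (fun k _ hz => closed_all k hz) hcd x hx
  refine ⟨c, c.2, M.L.inj _ hcx y hy ?_⟩
  rw [hyw, show inC hcx = c * inC hx * c⁻¹ from Subtype.ext rfl, map_mul, map_mul, map_inv, hc, hxv,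
    ← map_inv, ← map_mul, ← map_mul, conj_tv M.C M.hq _ hv, app_mul, ha, ← hb, app_inv_app]

/-- Some neighbour commutes with two given ones. -/
theorem exists_mid {b c : G} (hb : b ∈ nbr (conjugatesOf d) d) (hc : c ∈ nbr (conjugatesOf d) d)
    (hbc : ¬ Commute b c) : ∃ m ∈ nbr (conjugatesOf d) d, Commute b m ∧ Commute m c := by
  obtain ⟨U⟩ := M.exists_model hd2
  obtain ⟨hbb, hb0⟩ := U.iso b hb
  obtain ⟨hcc, -⟩ := U.iso c hc
  obtain ⟨g, r, hr, hg1, hg2⟩ := CfsgLib.Transpositions.UnitaryPerp.exists_frame U.C U.hq hbb hcc hb0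
    (fun h0 => hbc ((U.comm c hc b hb).2 h0).symm)
  set w := app U.C g⁻¹ (inW (vE U.C (Fin 2))) with hw
  have hw0 : w ≠ 0 := fun h0 => CfsgLib.Forms4.vE_ne_zero U.C (κ := Fin 2) (by
    have e := app_app_inv U.C g (inW (vE U.C (Fin 2)))
    rw [← hw, h0] at e
    funext i
    simpa [inW, app] using (congrFun e (Sum.inr i)).symm)
  obtain ⟨m, hm, a, hma⟩ := U.surj w (by rw [hw, herm_app, herm_inW, herm_vE_vE]) hw0
  refine ⟨m, hm, ((U.comm m hm b hb).2 ?_).symm, (U.comm m hm c hc).2 ?_⟩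
  · rw [hma, herm_smul_left, hw, herm_app_left, hg1, herm_inW_vE, mul_zero]
  · rw [hma, herm_smul_left, hw, herm_app_left, hg2, herm_smul_right, herm_inW_vF, mul_zero, mul_zero]

theorem exists_two {b : G} (hb : b ∈ nbr (conjugatesOf d) d) :
    ∃ c ∈ nbr (conjugatesOf d) d, c ≠ b ∧ Commute b c := by
  obtain ⟨U⟩ := M.exists_model hd2
  obtain ⟨hbb, hb0⟩ := U.iso b hb
  obtain ⟨g, hg⟩ := U62.exists_map_eq U.C hbb hb0
  set w := app U.C g⁻¹ (inW (vE U.C (Fin 2))) with hw
  have hw0 : w ≠ 0 := fun h0 => CfsgLib.Forms4.vE_ne_zero U.C (κ := Fin 2) (by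
    have e := app_app_inv U.C g (inW (vE U.C (Fin 2)))
    rw [← hw, h0] at e
    funext i
    simpa [inW, app] using (congrFun e (Sum.inr i)).symm)
  obtain ⟨m, hm, a, hma⟩ := U.surj w (by rw [hw, herm_app, herm_inW, herm_vE_vE]) hw0
  refine ⟨m, hm, fun e => (U.iso b hb).2 ?_, ((U.comm m hm b hb).2 ?_).symm⟩
  · have h := congrArg (app U.C g) (e ▸ hma : U.vec b = a • w)
    rw [hg, app_smul, hw, app_app_inv] at h
    have h2 := congrFun h (Sum.inl 0)
    simp [inW, vE] at h2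
  · rw [hma, herm_smul_left, hw, herm_app_left, hg, herm_inW_vE, mul_zero]

theorem exists_noncomm : ∃ x ∈ nbr (conjugatesOf d) d, ∃ y ∈ nbr (conjugatesOf d) d, ¬ Commute x y := by
  obtain ⟨U⟩ := M.exists_model hd2
  obtain ⟨x, hx, a, hxa⟩ := U.surj _ (herm_vE_vE U.C (κ := Fin 2 ⊕ Fin 2)) (CfsgLib.Forms4.vE_ne_zero U.C)
  obtain ⟨y, hy, b, hyb⟩ := U.surj (vF U.C (Fin 2 ⊕ Fin 2)) (herm_vF_vF U.C)
    (fun h0 => by
      have h := herm_vE_vF U.C (κ := Fin 2 ⊕ Fin 2)
      rw [h0, herm_zero_right] at h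
      exact zero_ne_one h)
  refine ⟨x, hx, y, hy, fun h => ?_⟩
  have h0 := (U.comm x hx y hy).1 h
  rw [hxa, hyb, herm_smul_left, herm_smul_right, herm_vE_vF, mul_one] at h0
  rcases mul_eq_zero.1 h0 with e | e
  · exact (U.iso x hx).2 (by rw [hxa, e, zero_smul])
  · exact (U.iso y hy).2 (by rw [hyb, (map_eq_zero U.C.σ).1 e, zero_smul])

theorem isLocal (hne : d ≠ 1) (hqs : IsQuasisimple ↥(Subgroup.centralizer ({d} : Set G)))
    (hzc : ∀ z ∈ Subgroup.centralizer ({d} : Set G),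
      (∀ g ∈ Subgroup.centralizer ({d} : Set G), Commute z g) → z = 1 ∨ z = d) : Local d where
  sq := hd2
  ne := hne
  qs := hqs
  zc := hzc
  braid := fun x hx y hy hxy => M.braid (fun _ h => inv_all hd2 h) (closed_sandwich hd2) hx hy hxy
  hconj := fun x hx y hy => M.exists_conj hd2 hx hy
  two := fun b hb => M.exists_two hd2 hb
  conn := fun b hb c hc => by
    by_cases h : Commute b c
    · exact Relation.ReflTransGen.single ⟨hb, hc, h⟩
    · obtain ⟨m, hm, h1, h2⟩ := M.exists_mid hd2 hb hc h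
      exact Relation.ReflTransGen.tail (Relation.ReflTransGen.single ⟨hb, hm, h1⟩) ⟨hm, hc, h2⟩
  noncomm := M.exists_noncomm hd2
  step := fun v y hv hy => (M.geom22 hd2).ball_step (IsConj.refl d) hv hy

/-- The centralizer of two commuting members has no normal subgroup of odd order. -/
theorem no_odd [Finite G] (b : G) (hb : b ∈ nbr (conjugatesOf d) d) (P : Subgroup G) (hodd : Odd (Nat.card P))
    (hle : P ≤ Subgroup.centralizer ({d, b} : Set G))
    (hn : ∀ g ∈ Subgroup.centralizer ({d, b} : Set G), ∀ l ∈ P, g * l * g⁻¹ ∈ P) : P = ⊥ := by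
  classical
  obtain ⟨x₀, hx₀, hx₀v⟩ := M.L.cover _ ⟨vE M.C (Fin 2 ⊕ Fin 2), herm_vE_vE M.C,
    CfsgLib.Forms4.vE_ne_zero M.C, rfl⟩
  obtain ⟨c, hc, hcb⟩ := M.exists_conj hd2 hb hx₀
  have hcd : c * d * c⁻¹ = d := mul_inv_eq_iff_eq_mul.2 (Subgroup.mem_centralizer_singleton_iff.1 hc)
  set C := Subgroup.centralizer ({d} : Set G) with hC
  have hmem2 : ∀ {g : G} {u v : G}, g ∈ Subgroup.centralizer ({u, v} : Set G) ↔ Commute g u ∧ Commute g v := by
    intro g u v
    rw [Subgroup.mem_centralizer_iff]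
    exact ⟨fun h => ⟨(h u (by simp)).symm, (h v (by simp)).symm⟩,
      fun h w hw => by rcases hw with rfl | rfl; exacts [h.1.eq.symm, h.2.eq.symm]⟩
  -- move to the standard pair
  have hP2 : ∀ p ∈ P, Commute (c * p * c⁻¹) d ∧ Commute (c * p * c⁻¹) x₀ := fun p hp => by
    obtain ⟨h1, h2⟩ := hmem2.1 (hle hp)
    constructor
    · have := (CfsgLib.FischerTypes.commute_conj_iff' c p d).2 h1; rwa [hcd] at this
    · have := (CfsgLib.FischerTypes.commute_conj_iff' c p b).2 h2; rwa [hcb] at this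
  let ι : ↥P →* ↥C := MonoidHom.codRestrict ((MulAut.conj c).toMonoidHom.comp P.subtype) C fun p =>
    Subgroup.mem_centralizer_singleton_iff.2 (hP2 p p.2).1.eq
  set B := (M.L.π.comp ι).range with hB
  set tee := tv M.C (vE M.C (Fin 2 ⊕ Fin 2)) with htee
  -- `B` commutes with the transvection and is normal in its centralizer
  have hBc : ∀ q ∈ B, Commute q (M.θ tee) := by
    rintro _ ⟨p, rfl⟩
    rw [← hx₀v, MonoidHom.comp_apply]
    exact Commute.map (show Commute (ι p) (inC hx₀) from Subtype.ext (hP2 p p.2).2.eq) M.L.π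
  have hBn : ∀ q : M.S, Commute q (M.θ tee) → ∀ r ∈ B, q * r * q⁻¹ ∈ B := by
    intro q hq
    obtain ⟨g, rfl⟩ := M.L.surj q
    have hgd : (g : G) * d * (g : G)⁻¹ = d :=
      mul_inv_eq_iff_eq_mul.2 (Subgroup.mem_centralizer_singleton_iff.1 g.2)
    have hgx : (g : G) * x₀ * (g : G)⁻¹ ∈ nbr (conjugatesOf d) d :=
      conj_nbr (fun k _ hz => closed_all k hz) hgd x₀ hx₀
    have hgx' : (g : G) * x₀ * (g : G)⁻¹ = x₀ := M.L.inj _ hgx x₀ hx₀ (by
      rw [show inC hgx = g * inC hx₀ * g⁻¹ from Subtype.ext rfl, map_mul, map_mul, map_inv, hx₀v,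
        hq.eq, mul_inv_cancel_right])
    have hk : c⁻¹ * (g : G) * c ∈ Subgroup.centralizer ({d, b} : Set G) := by
      refine hmem2.2 ⟨?_, ?_⟩
      · have := (CfsgLib.FischerTypes.commute_conj_iff' c⁻¹ (g : G) (c * d * c⁻¹)).2
          (by rw [hcd]; exact mul_inv_eq_iff_eq_mul.1 hgd)
        rwa [inv_inv, show c⁻¹ * (c * d * c⁻¹) * c = d by group] at this
      · have := (CfsgLib.FischerTypes.commute_conj_iff' c⁻¹ (g : G) (c * b * c⁻¹)).2
          (by rw [hcb]; exact mul_inv_eq_iff_eq_mul.1 hgx')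
        rwa [inv_inv, show c⁻¹ * (c * b * c⁻¹) * c = b by group] at this
    rintro _ ⟨p, rfl⟩
    refine ⟨⟨_, hn _ hk _ p.2⟩, ?_⟩
    rw [MonoidHom.comp_apply, MonoidHom.comp_apply, ← map_inv, ← map_mul, ← map_mul]
    refine congrArg M.L.π (Subtype.ext ?_)
    show c * (c⁻¹ * (g : G) * c * p * (c⁻¹ * (g : G) * c)⁻¹) * c⁻¹ = (g : G) * (c * p * c⁻¹) * (g : G)⁻¹
    group
  have hBodd : Odd (Nat.card B) := hodd.of_dvd_nat (Subgroup.card_range_dvd _)
  -- pulled back to the stabiliser of the line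
  set T := B.comap M.θ with hT
  have hTodd : ∀ t ∈ T, Odd (orderOf t) := by
    intro t ht
    have h1 : M.θ (t ^ Nat.card B) = 1 := by
      rw [map_pow]; exact orderOf_dvd_iff_pow_eq_one.1 (Subgroup.orderOf_dvd_natCard B ht)
    have h2 := center_pow_three M.C M.hq (M.hker ▸ MonoidHom.mem_ker.2 h1 : t ^ Nat.card B ∈ Subgroup.center _)
    rw [← pow_mul] at h2
    exact (hBodd.mul (by decide : Odd 3)).of_dvd_nat (orderOf_dvd_of_pow_eq_one h2)
  have hcomm : ∀ {s : suG M.C I6}, s ∈ stabLine M.C → Commute s tee := by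
    intro s hs
    refine mul_inv_eq_iff_eq_mul.1 ?_
    rw [htee, conj_tv M.C M.hq _ (herm_vE_vE M.C), mem_stabLine M.C |>.1 hs,
      tv_smul M.C M.hq (mu_ne_zero M.C hs) (herm_vE_vE M.C)]
  have hTS : T ≤ stabLine M.C := by
    intro t ht
    have h1 : M.θ (tv M.C (app M.C t (vE M.C _))) = M.θ tee := by
      rw [← conj_tv M.C M.hq _ (herm_vE_vE M.C), map_mul, map_mul, map_inv]
      exact mul_inv_eq_iff_eq_mul.2 (hBc _ ht).eq
    obtain ⟨a, -, ha⟩ := eq_smul_of_map_eq M.C M.hq M.θ M.hker (herm_vE_vE M.C)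
      (by rw [herm_app, herm_vE_vE]) (fun h0 => CfsgLib.Forms4.vE_ne_zero M.C (κ := Fin 2 ⊕ Fin 2)
        (by rw [← app_inv_app M.C t (vE M.C _), h0]; simp [app])) h1.symm
    exact (mem_stabLine_of_smul M.C ha).1
  set T' := T.subgroupOf (stabLine M.C) with hT'
  haveI : T'.Normal := ⟨fun t ht s => by
    have h1 := hBn _ ((hcomm s.2).map M.θ) _ (show M.θ t ∈ B from ht)
    show M.θ ((s : suG M.C I6) * (t : suG M.C I6) * (s : suG M.C I6)⁻¹) ∈ B
    rw [map_mul, map_mul, map_inv]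
    exact h1⟩
  set W := T'.map (blockPart M.C M.hq) with hW
  haveI : W.Normal := Subgroup.Normal.map inferInstance _ (blockPart_surjective M.C M.hq)
  haveI := CfsgLib.FischerTypes.simple_suG_four M.C M.hq
  have hWbot : W = ⊥ := by
    refine (inferInstance : W.Normal).eq_bot_or_eq_top.resolve_right fun h => ?_
    haveI : Fact (Nat.Prime 2) := ⟨Nat.prime_two⟩
    obtain ⟨y, hy⟩ := exists_prime_orderOf_dvd_card' 2
      (show 2 ∣ Nat.card (suG M.C I4) by rw [CfsgLib.FischerTypes.card_suG_four M.C M.hq]; norm_num)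
    obtain ⟨t, ht, hty⟩ : y ∈ W := h ▸ Subgroup.mem_top y
    have h2 : orderOf y ∣ orderOf (t : suG M.C I6) := by
      rw [← hty, Subgroup.orderOf_coe]; exact orderOf_map_dvd _ t
    rw [hy] at h2
    exact Nat.not_even_iff_odd.2 (hTodd _ ht) (even_iff_two_dvd.2 h2)
  have hcen : ∀ t ∈ T, M.θ t = 1 := by
    intro t ht
    have hb : blockPart M.C M.hq ⟨t, hTS ht⟩ = 1 := by
      have h1 : blockPart M.C M.hq ⟨t, hTS ht⟩ ∈ W := ⟨⟨t, hTS ht⟩, ht, rfl⟩
      rwa [hWbot, Subgroup.mem_bot] at h1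
    obtain ⟨-, z, hz, hz2⟩ := ker_blockPart_props M.C M.hq hb hb
    have h4 : t ^ 4 ∈ Subgroup.center (suG M.C I6) := by
      rw [show (4 : ℕ) = 2 * 2 from rfl, pow_mul]
      rcases hz2 with e | e <;> rw [show t ^ 2 = _ from e]
      · exact pow_mem hz 2
      · rw [(show Commute z tee from (Subgroup.mem_center_iff.1 hz tee).symm).mul_pow, pow_two tee, htee,
          tv_mul_self M.C M.hq (herm_vE_vE M.C), mul_one]
        exact pow_mem hz 2
    obtain ⟨k, hk⟩ := exists_pow_eq_self_of_coprime (x := t) (n := 4)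
      (by simpa using Nat.Coprime.pow_left 2 (Nat.coprime_two_left.2 (hTodd t ht)))
    rw [← MonoidHom.mem_ker, M.hker]
    exact hk ▸ pow_mem h4 k
  rw [Subgroup.eq_bot_iff_forall]
  intro p hp
  have h1 : M.L.π (ι ⟨p, hp⟩) = 1 := by
    obtain ⟨t, ht⟩ := M.surj (M.L.π (ι ⟨p, hp⟩))
    rw [← ht]
    exact hcen t (show M.θ t ∈ B by rw [ht]; exact ⟨_, rfl⟩)
  rcases (M.L.ker _).1 h1 with h | h
  · have h' : c * p * c⁻¹ = 1 := h
    simpa using h'
  · exfalso
    have h' : c * p * c⁻¹ = d := h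
    have hpd : p = d := by
      calc p = c⁻¹ * (c * p * c⁻¹) * c := by group
        _ = c⁻¹ * (c * d * c⁻¹) * c := by rw [h', hcd]
        _ = d := by group
    subst hpd
    have h2 : orderOf p ∣ Nat.card P := Subgroup.orderOf_dvd_natCard P hp
    rw [orderOf_eq_prime (p := 2) (by rw [pow_two, hd2]) (fun h0 => ?_)] at h2
    · exact Nat.not_even_iff_odd.2 hodd (even_iff_two_dvd.2 h2)
    · obtain ⟨k, hk⟩ := isConj_iff.1 hb.1
      exact hb.2.1 (by rw [← hk, h0, mul_one, mul_inv_cancel])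

end U62Data

end CfsgLib.SporFischer
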