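import Cfsg.Agent.SporFischer.Lifts
import Cfsg.Agent.FischerTypes.M22Primitive
import Cfsg.Agent.Transpositions.M22Planes

/-!
# The coordinates inside a group of type M(22), pulled back along a bijection of members

In type M(22) the members next to one are the isotropic points of `U(6,2)`, so the members form such a
geometry; it has diameter two.  A map matching a set of members with another, preserving conjugation and
commutation, carries all this over.
-/

set_option autoImplicit false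
set_option linter.unusedSectionVars false

namespace CfsgLib.SporFischer

open Cfsg CfsgLib.FischerTypes CfsgLib.U62 CfsgLib.RepBounds.Unit
open CfsgLib.Transpositions.M22Unique (exists_rep)

universe u v

variable {G : Type u} [Group G] {Q : Type v} [Group Q]

/-- The bar of a conjugate is the conjugate of the bar. -/
theorem bar_conj {D : Set Q} {e : Q} (h : IsThreeTranspositionGroup D) {g x : Q}
    (hg : g ∈ Subgroup.closure (perp D e)) (hx : x ∈ perp D e) :
    bar (conj_mem_perp' h hg hx) =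
      (QuotientGroup.mk ⟨g, hg⟩ : PerpQuot D e) * bar hx * (QuotientGroup.mk ⟨g, hg⟩ : PerpQuot D e)⁻¹ := rfl

/-- Coordinates from a perp model, with the vector of each member representing its image. -/
theorem exists_uModel_perp {D : Set Q} {e : Q} (M : PerpModel D e) :
    ∃ U : UModel (nbr D e), ∀ g : suG U.C I6, ∃ k ∈ Subgroup.closure (perp D e),
      ∀ y ∈ nbr D e, k * y * k⁻¹ ∈ nbr D e ∧
        ∃ a : U.K, a ≠ 0 ∧ U.vec (k * y * k⁻¹) = a • app U.C g (U.vec y) := by
  obtain ⟨v, hv⟩ := exists_rep M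
  have h := M.group
  have hclosed : ∀ x ∈ perp D e, ∀ y ∈ perp D e, y * x * y ∈ perp D e := fun x hx y hy => by
    have := conj_mem_perp' h (mem_perp_closure hy) hx
    rwa [inv_eq h.1 hy.1] at this
  let U : UModel (nbr D e) :=
    { K := M.K
      C := M.C
      hq := M.hq
      vec := v
      iso := fun x hx => ⟨(hv x hx).1, (hv x hx).2.1⟩
      inj := fun x hx y hy a ha =>
        M.eq_of_smul hx hy (hv x hx).1 (hv y hy).2.1 (hv x hx).2.2 (hv y hy).2.2 ha
      surj := fun w hw hw0 => by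
        obtain ⟨x, hx, hxw⟩ := M.exists_mem hw hw0
        obtain ⟨a, ha, hav⟩ := eq_smul_of_map_eq M.C M.hq M.θ M.hker (hv x hx).1 hw hw0
          ((hv x hx).2.2.symm.trans hxw)
        exact ⟨x, hx, a⁻¹, by rw [hav, inv_smul_smul₀ ha]⟩
      comm := fun x hx y hy => by
        rw [M.commute_iff hx hy (hv x hx).1 (hv y hy).1 (hv y hy).2.1 (hv x hx).2.2 (hv y hy).2.2, ← conj_herm,
          map_eq_zero]
      closed := hclosed
      conj := fun x hx y hy => by
        have hxy := hclosed x hx y hy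
        have e1 : bar hxy = bar hy * bar hx * bar hy := rfl
        have hiso : herm M.C (app M.C (tv M.C (v y)) (v x)) (app M.C (tv M.C (v y)) (v x)) = 0 := by
          rw [herm_app, (hv x hx).1]
        have e2 : M.θ (tv M.C (app M.C (tv M.C (v y)) (v x))) = M.θ (tv M.C (v (y * x * y))) := by
          rw [← conj_tv M.C M.hq _ (hv x hx).1, inv_eq_of_mul_eq_one_right (tv_mul_self M.C M.hq (hv y hy).1),
            map_mul, map_mul, ← (hv x hx).2.2, ← (hv y hy).2.2, ← e1, (hv _ hxy).2.2]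
        obtain ⟨a, ha, hav⟩ := eq_smul_of_map_eq M.C M.hq M.θ M.hker hiso (hv _ hxy).1 (hv _ hxy).2.1 e2
        exact ⟨a, ha, by rw [hav, app_tv M.C M.hq (hv y hy).1]⟩ }
  refine ⟨U, fun g => ?_⟩
  obtain ⟨k, hk⟩ := QuotientGroup.mk_surjective (M.θ g)
  refine ⟨k, k.2, fun y hy => ⟨conj_mem_perp' h k.2 hy, ?_⟩⟩
  have hky := conj_mem_perp' h k.2 hy
  have hiso : herm M.C (app M.C g (v y)) (app M.C g (v y)) = 0 := by rw [herm_app, (hv y hy).1]
  have e2 : M.θ (tv M.C (app M.C g (v y))) = M.θ (tv M.C (v ((k : Q) * y * (k : Q)⁻¹))) := by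
    rw [← conj_tv M.C M.hq g (hv y hy).1, map_mul, map_mul, map_inv, ← (hv y hy).2.2, ← hk,
      ← (hv _ hky).2.2]
    exact (bar_conj h k.2 hy).symm
  obtain ⟨a, ha, hav⟩ := eq_smul_of_map_eq M.C M.hq M.θ M.hker hiso (hv _ hky).1 (hv _ hky).2.1 e2
  exact ⟨a, ha, hav⟩

/-- The members of a group of type M(22) form the geometry. -/
theorem geom22_of_type [Finite Q] {D : Set Q} (h : IsThreeTranspositionGroup D) (h22 : IsOfTypeM22 Q D) :
    Geom22 D := by
  refine ⟨fun x hx => mul_self h.1 hx, fun x hx y hy => ?_, fun a _ x hx y hy hxy =>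
    FischerTypes.braid h.1 hx.1 hy.1 hxy, fun a ha => ?_⟩
  · have := h.2.1 y x hx
    rwa [inv_eq h.1 hy] at this
  · obtain ⟨M⟩ := exists_perpModel h h22 ha
    obtain ⟨U, -⟩ := exists_uModel_perp M
    exact ⟨U⟩

/-- It has diameter two. -/
theorem ball_of_simple [Finite Q] [IsSimpleGroup Q] {D : Set Q} (h : IsThreeTranspositionGroup D)
    (h22 : IsOfTypeM22 Q D) {x y : Q} (hx : x ∈ D) (hy : y ∈ D) : y ∈ Geom22.ball D x := by
  have hG := geom22_of_type h h22
  have hr := reach_of_simple h h22 hx hy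
  clear hy
  induction hr with
  | refl => exact ⟨hx, Or.inl (Commute.refl x)⟩
  | tail _ hab ih => exact hG.ball_step hx ih hab.2

/-- A bijection of members preserving conjugation and commutation. -/
structure Matching (P : Set G) (P' : Set Q) (f : G → Q) : Prop where
  maps : ∀ x ∈ P, f x ∈ P'
  inj : ∀ x ∈ P, ∀ y ∈ P, f x = f y → x = y
  surj : ∀ z ∈ P', ∃ x ∈ P, f x = z
  comm : ∀ x ∈ P, ∀ y ∈ P, (Commute x y ↔ Commute (f x) (f y))
  closed : ∀ x ∈ P, ∀ y ∈ P, y * x * y ∈ P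
  conj : ∀ x ∈ P, ∀ y ∈ P, f (y * x * y) = f y * f x * f y

namespace Matching

variable {P : Set G} {P' : Set Q} {f : G → Q} (hf : Matching P P' f)
include hf

theorem mem_nbr_iff {a x : G} (ha : a ∈ P) (hx : x ∈ P) : x ∈ nbr P a ↔ f x ∈ nbr P' (f a) :=
  ⟨fun h => ⟨hf.maps x hx, fun e => h.2.1 (hf.inj x hx a ha e), (hf.comm a ha x hx).1 h.2.2⟩,
    fun h => ⟨hx, fun e => h.2.1 (e ▸ rfl), (hf.comm a ha x hx).2 h.2.2⟩⟩

/-- Restricted to the members next to one. -/
theorem nbr {a : G} (ha : a ∈ P) (hcl : ∀ x ∈ nbr P a, ∀ y ∈ nbr P a, y * x * y ∈ nbr P a) :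
    Matching (nbr P a) (nbr P' (f a)) f where
  maps x hx := (hf.mem_nbr_iff ha hx.1).1 hx
  inj x hx y hy := hf.inj x hx.1 y hy.1
  surj z hz := by
    obtain ⟨x, hx, rfl⟩ := hf.surj z hz.1
    exact ⟨x, (hf.mem_nbr_iff ha hx).2 hz, rfl⟩
  comm x hx y hy := hf.comm x hx.1 y hy.1
  closed := hcl
  conj x hx y hy := hf.conj x hx.1 y hy.1

/-- Coordinates pulled back. -/
def uModel (U : UModel P') : UModel P where
  K := U.K
  C := U.C
  hq := U.hq
  vec x := U.vec (f x)
  iso x hx := U.iso _ (hf.maps x hx)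
  inj x hx y hy a h := hf.inj x hx y hy (U.inj _ (hf.maps x hx) _ (hf.maps y hy) a h)
  surj w hw hw0 := by
    obtain ⟨z, hz, a, ha⟩ := U.surj w hw hw0
    obtain ⟨x, hx, rfl⟩ := hf.surj z hz
    exact ⟨x, hx, a, ha⟩
  comm x hx y hy := (hf.comm x hx y hy).trans (U.comm _ (hf.maps x hx) _ (hf.maps y hy))
  closed := hf.closed
  conj x hx y hy := by
    rw [hf.conj x hx y hy]
    exact U.conj _ (hf.maps x hx) _ (hf.maps y hy)

theorem geom22 (hG : Geom22 P') (hinv : ∀ x ∈ P, x * x = 1) : Geom22 P := by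
  have hcl : ∀ a ∈ P, ∀ x ∈ SporFischer.nbr P a, ∀ y ∈ SporFischer.nbr P a,
      y * x * y ∈ SporFischer.nbr P a :=
    fun a _ x hx y hy => conj_mem_nbr' hinv hf.closed hx hy
  refine ⟨hinv, hf.closed, fun a ha x hx y hy hxy => ?_, fun a ha => ?_⟩
  · refine hf.inj _ (hf.closed y hy.1 x hx.1) _ (hf.closed x hx.1 y hy.1) ?_
    rw [hf.conj y hy.1 x hx.1, hf.conj x hx.1 y hy.1]
    exact hG.braid _ (hf.maps a ha) _ ((hf.mem_nbr_iff ha hx.1).1 hx) _ ((hf.mem_nbr_iff ha hy.1).1 hy)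
      fun h => hxy ((hf.comm x hx.1 y hy.1).2 h)
  · obtain ⟨U⟩ := hG.model (f a) (hf.maps a ha)
    exact ⟨(hf.nbr ha (hcl a ha)).uModel U⟩

theorem ball {x y : G} (hx : x ∈ P) (hy : y ∈ P) (h : f y ∈ Geom22.ball P' (f x)) : y ∈ Geom22.ball P x := by
  refine ⟨hy, ?_⟩
  rcases h.2 with h | ⟨z, hz1, hz2⟩
  · exact Or.inl ((hf.comm x hx y hy).2 h)
  · obtain ⟨w, hw, rfl⟩ := hf.surj z hz1.1
    exact Or.inr ⟨w, (hf.mem_nbr_iff hx hw).2 hz1, (hf.mem_nbr_iff hy hw).2 hz2⟩

end Matching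

end CfsgLib.SporFischer
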