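import Cfsg.Agent.SporFischer.Component
import Cfsg.Agent.SporFischer.Geom23
import Cfsg.Agent.SporFischer.ModelM22
import Cfsg.Agent.FischerTypes.M22Centralizer
import Cfsg.Agent.Transpositions.TypeM22Structure

/-!
# The local facts at an involution with centralizer a double cover of a group of type M(22)

The members commuting with it correspond to the members of the quotient, so they form such a geometry, also at
every conjugate; hence the component has diameter two, and the centralizer of two commuting conjugates has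
no normal subgroup of odd order.
-/

set_option autoImplicit false
set_option linter.unusedSectionVars false
set_option linter.style.haveILetI false

namespace CfsgLib.SporFischer

open Cfsg CfsgLib.FischerTypes
open scoped commutatorElement

universe u

/-- A quasisimple group with an involution has no non-central normal subgroup of odd order. -/
theorem le_center_of_odd {X : Type*} [Group X] [Finite X] (hq : IsQuasisimple X) {t : X} (ht : t * t = 1)
    (ht1 : t ≠ 1) (N : Subgroup X) [N.Normal] (hodd : Odd (Nat.card N)) : N ≤ Subgroup.center X := by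
  haveI := hq.2
  set q := QuotientGroup.mk' (Subgroup.center X)
  haveI : (N.map q).Normal := Subgroup.Normal.map inferInstance q (QuotientGroup.mk'_surjective _)
  rcases (inferInstance : (N.map q).Normal).eq_bot_or_eq_top with h | h
  · intro n hn
    have h1 : q n ∈ N.map q := Subgroup.mem_map_of_mem q hn
    rw [h, Subgroup.mem_bot] at h1
    exact (QuotientGroup.eq_one_iff n).1 h1
  exfalso
  have hcomm : commutator X ≤ N := by
    rw [commutator_def, Subgroup.commutator_le]
    intro x _ y _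
    obtain ⟨u, hu, hux⟩ := h ▸ Subgroup.mem_top (q x)
    obtain ⟨w, hw, hwy⟩ := h ▸ Subgroup.mem_top (q y)
    have hx : ∀ g, u⁻¹ * x * g = g * (u⁻¹ * x) := fun g =>
      (Subgroup.mem_center_iff.1 (QuotientGroup.eq.1 hux) g).symm
    have hy : ∀ g, w⁻¹ * y * g = g * (w⁻¹ * y) := fun g =>
      (Subgroup.mem_center_iff.1 (QuotientGroup.eq.1 hwy) g).symm
    have e : ⁅x, y⁆ = ⁅u, w⁆ := by
      set s := u⁻¹ * x
      set r := w⁻¹ * y
      have ex : x = u * s := by simp [s]
      have ey : y = w * r := by simp [r]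
      rw [commutatorElement_def, commutatorElement_def, ex, ey]
      calc u * s * (w * r) * (u * s)⁻¹ * (w * r)⁻¹ = u * (s * (w * r)) * s⁻¹ * u⁻¹ * r⁻¹ * w⁻¹ := by group
        _ = u * w * (r * u⁻¹) * r⁻¹ * w⁻¹ := by rw [hx]; group
        _ = u * w * u⁻¹ * w⁻¹ := by rw [hy]; group
    rw [e, commutatorElement_def]
    exact mul_mem (mul_mem (mul_mem hu hw) (inv_mem hu)) (inv_mem hw)
  have htN : t ∈ N := hcomm (by rw [hq.1.commutator_eq_top]; exact Subgroup.mem_top t)
  have h2 := Subgroup.orderOf_dvd_natCard N htN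
  rw [orderOf_eq_prime (p := 2) (by rw [pow_two, ht]) ht1] at h2
  exact Nat.not_even_iff_odd.2 hodd (even_iff_two_dvd.2 h2)

variable {G Q : Type u} [Group G] [Group Q] {E : Set Q} {d : G}

open Classical in
/-- The map onto the quotient, on all of `G`. -/
noncomputable def proj (L : Lifts (conjugatesOf d) d Q E) (x : G) : Q :=
  if hx : x ∈ Subgroup.centralizer ({d} : Set G) then L.π ⟨x, hx⟩ else 1

/-- What is assumed: the quotient has type M(22), and the neighbours lift its members. -/
structure M22Data (G Q : Type u) [Group G] [Group Q] (E : Set Q) (d : G) where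
  /-- the lifts -/
  L : Lifts (conjugatesOf d) d Q E
  sq : d * d = 1
  ne : d ≠ 1
  qs : IsQuasisimple ↥(Subgroup.centralizer ({d} : Set G))
  group : IsThreeTranspositionGroup E
  prim : IsPrimitiveUnderConj E
  type : IsOfTypeM22 Q E
  simple : IsSimpleGroup Q

namespace M22Data

variable (A : M22Data G Q E d)
include A

theorem inv_all {x : G} (hx : x ∈ conjugatesOf d) : x * x = 1 := by
  obtain ⟨g, rfl⟩ := isConj_iff.1 hx
  rw [show g * d * g⁻¹ * (g * d * g⁻¹) = g * (d * d) * g⁻¹ by group, A.sq, mul_one, mul_inv_cancel]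

omit A in
theorem closed_conj (g : G) {x : G} (hx : x ∈ conjugatesOf d) : g * x * g⁻¹ ∈ conjugatesOf d :=
  IsConj.trans hx (isConj_iff.2 ⟨g, rfl⟩)

theorem closed_sandwich : ∀ x ∈ conjugatesOf d, ∀ y ∈ conjugatesOf d, y * x * y ∈ conjugatesOf d := by
  intro x hx y hy
  have h := closed_conj y hx
  rwa [inv_eq_of_mul_eq_one_right (A.inv_all hy)] at h

theorem proj_eq {x : G} (hx : x ∈ nbr (conjugatesOf d) d) : proj A.L x = A.L.π (inC hx) := by
  rw [proj, dif_pos (Subgroup.mem_centralizer_singleton_iff.2 hx.2.2.eq.symm)]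
  rfl

theorem matching : Matching (nbr (conjugatesOf d) d) E (proj A.L) := by
  have hinv : ∀ x ∈ conjugatesOf d, x * x = 1 := fun x hx => A.inv_all hx
  have hcl := A.closed_sandwich
  refine ⟨fun x hx => ?_, fun x hx y hy h => ?_, fun z hz => ?_, fun x hx y hy => ?_,
    fun x hx y hy => conj_mem_nbr' hinv hcl hx hy, fun x hx y hy => ?_⟩
  · rw [A.proj_eq hx]; exact A.L.mem x hx
  · rw [A.proj_eq hx, A.proj_eq hy] at h; exact A.L.inj x hx y hy h
  · obtain ⟨x, hx, he⟩ := A.L.cover z hz
    exact ⟨x, hx, (A.proj_eq hx).trans he⟩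
  · rw [A.proj_eq hx, A.proj_eq hy]; exact A.L.commute_iff hinv hcl hx hy
  · rw [A.proj_eq (conj_mem_nbr' hinv hcl hx hy), A.proj_eq hx, A.proj_eq hy]
    exact A.L.map_conj hinv hcl hx hy

theorem matching_conj {a g : G} (hg : g * a * g⁻¹ = d) :
    Matching (nbr (conjugatesOf d) a) (nbr (conjugatesOf d) d) (fun x => g * x * g⁻¹) := by
  have hto : ∀ x ∈ nbr (conjugatesOf d) a, g * x * g⁻¹ ∈ nbr (conjugatesOf d) d := fun x hx =>
    ⟨closed_conj g hx.1, fun h => hx.2.1 (by rw [← hg] at h; exact mul_left_cancel (mul_right_cancel h)), by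
      have := (commute_conj_iff' g a x).2 hx.2.2; rwa [hg] at this⟩
  refine ⟨hto, fun x _ y _ h => mul_left_cancel (mul_right_cancel h), fun z hz => ?_,
    fun x _ y _ => (commute_conj_iff' g x y).symm,
    fun x hx y hy => conj_mem_nbr' (fun z hz => A.inv_all hz) A.closed_sandwich hx hy,
    fun x _ y _ => by group⟩
  refine ⟨g⁻¹ * z * g, ⟨?_, fun h => hz.2.1 ?_, ?_⟩, by group⟩
  · simpa using closed_conj g⁻¹ hz.1
  · rw [← hg, ← h]; group
  · have := (commute_conj_iff' g⁻¹ (g * a * g⁻¹) z).2 (hg.symm ▸ hz.2.2)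
    rwa [inv_inv, show g⁻¹ * (g * a * g⁻¹) * g = a by group] at this

variable [Finite Q]

theorem ball_nbr {x y : G} (hx : x ∈ nbr (conjugatesOf d) d) (hy : y ∈ nbr (conjugatesOf d) d) :
    y ∈ Geom22.ball (nbr (conjugatesOf d) d) x := by
  haveI := A.simple
  exact A.matching.ball hx hy
    (ball_of_simple A.group A.type (A.matching.maps x hx) (A.matching.maps y hy))

theorem geom23 : Geom23 (conjugatesOf d) := by
  have hbase : Geom22 (nbr (conjugatesOf d) d) :=
    A.matching.geom22 (geom22_of_type A.group A.type) fun x hx => A.inv_all hx.1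
  refine ⟨fun x hx => A.inv_all hx, A.closed_sandwich, fun a ha => ?_, fun a ha x hx y hy => ?_⟩
  · obtain ⟨g, hg⟩ := isConj_iff.1 (IsConj.symm ha)
    exact (A.matching_conj hg).geom22 hbase fun x hx => A.inv_all hx.1
  · obtain ⟨g, hg⟩ := isConj_iff.1 (IsConj.symm ha)
    have hf := A.matching_conj hg
    exact hf.ball hx hy (A.ball_nbr (hf.maps x hx) (hf.maps y hy))

theorem isLocal : Local d where
  sq := A.sq
  ne := A.ne
  qs := A.qs
  zc := zc_of_ker A.L.π A.L.surj A.L.ker A.type.1
  braid := fun x hx y hy hxy => A.L.braid (fun z hz => A.inv_all hz) A.closed_sandwich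
    (fun a ha b hb hab => FischerTypes.braid A.group.1 ha hb hab) hx hy hxy
  hconj := fun x hx y hy => by
    obtain ⟨q, hq⟩ := A.prim.1 _ (A.L.mem x hx) _ (A.L.mem y hy)
    obtain ⟨c, rfl⟩ := A.L.surj q
    have hcd : (c : G) * d * (c : G)⁻¹ = d :=
      mul_inv_eq_iff_eq_mul.2 (Subgroup.mem_centralizer_singleton_iff.1 c.2)
    have hcx : (c : G) * x * (c : G)⁻¹ ∈ nbr (conjugatesOf d) d :=
      ⟨closed_conj _ hx.1, fun h => hx.2.1 (mul_left_cancel (mul_right_cancel (h.trans hcd.symm))), by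
        have := (commute_conj_iff' (c : G) d x).2 hx.2.2; rwa [hcd] at this⟩
    refine ⟨c, c.2, A.L.inj _ hcx y hy ?_⟩
    rw [show inC hcx = c * inC hx * c⁻¹ from Subtype.ext rfl, map_mul, map_mul, map_inv, hq]
  two := fun b hb => by
    obtain ⟨M⟩ := exists_perpModel A.group A.type (A.matching.maps b hb)
    obtain ⟨z, hz⟩ : (perp E (proj A.L b)).Nonempty :=
      Set.nonempty_of_ncard_ne_zero (by rw [M.ncard_perp]; norm_num)
    obtain ⟨c, hc, rfl⟩ := A.matching.surj z hz.1
    exact ⟨c, hc, fun h => hz.2.1 (h ▸ rfl), (A.matching.comm b hb c hc).2 hz.2.2⟩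
  conn := fun b hb c hc => by
    rcases (A.ball_nbr hb hc).2 with h | ⟨z, hz1, hz2⟩
    · exact Relation.ReflTransGen.single ⟨hb, hc, h⟩
    · exact Relation.ReflTransGen.tail (Relation.ReflTransGen.single ⟨hb, hz1.1, hz1.2.2⟩)
        ⟨hz1.1, hc, hz2.2.2.symm⟩
  noncomm := by
    obtain ⟨-, a, ha, b, hb, hab, -⟩ := id A.type
    obtain ⟨x, hx, rfl⟩ := A.matching.surj a ha
    obtain ⟨y, hy, rfl⟩ := A.matching.surj b hb
    exact ⟨x, hx, y, hy, fun h => hab ((A.matching.comm x hx y hy).1 h)⟩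
  step := fun v y hv hy => A.geom23.step (IsConj.refl d) hv hy

/-- The centralizer of two commuting members has no normal subgroup of odd order. -/
theorem no_odd [Finite G] (b : G) (hb : b ∈ nbr (conjugatesOf d) d) (P : Subgroup G) (hodd : Odd (Nat.card P))
    (hle : P ≤ Subgroup.centralizer ({d, b} : Set G))
    (hn : ∀ g ∈ Subgroup.centralizer ({d, b} : Set G), ∀ l ∈ P, g * l * g⁻¹ ∈ P) : P = ⊥ := by
  classical
  have hmem2 : ∀ {g : G}, g ∈ Subgroup.centralizer ({d, b} : Set G) ↔ Commute g d ∧ Commute g b := by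
    intro g
    rw [Subgroup.mem_centralizer_iff]
    exact ⟨fun h => ⟨(h d (by simp)).symm, (h b (by simp)).symm⟩,
      fun h w hw => by rcases hw with rfl | rfl; exacts [h.1.eq.symm, h.2.eq.symm]⟩
  set e := proj A.L b with he
  have heE : e ∈ E := A.matching.maps b hb
  let ι : ↥P →* ↥(Subgroup.centralizer ({d} : Set G)) :=
    MonoidHom.codRestrict P.subtype _ fun p =>
      Subgroup.mem_centralizer_singleton_iff.2 (hmem2.1 (hle p.2)).1.eq
  set B := (A.L.π.comp ι).range with hB
  have hX : Subgroup.closure (perp E e) = Subgroup.centralizer ({e} : Set Q) :=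
    (centralizer_eq A.group A.prim A.type heE).symm
  have hBX : B ≤ Subgroup.closure (perp E e) := by
    rw [hX]
    rintro _ ⟨p, rfl⟩
    rw [Subgroup.mem_centralizer_singleton_iff, he, A.proj_eq hb]
    exact (Commute.map (show Commute (ι p) (inC hb) from Subtype.ext (hmem2.1 (hle p.2)).2.eq) A.L.π).eq
  set N := B.subgroupOf (Subgroup.closure (perp E e)) with hN
  haveI : N.Normal := ⟨fun n hn' g => by
    obtain ⟨k, hk⟩ := A.L.surj (g : Q)
    have hkd : (k : G) * d * (k : G)⁻¹ = d :=
      mul_inv_eq_iff_eq_mul.2 (Subgroup.mem_centralizer_singleton_iff.1 k.2)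
    have hkb : (k : G) * b * (k : G)⁻¹ ∈ nbr (conjugatesOf d) d :=
      ⟨closed_conj _ hb.1, fun h => hb.2.1 (mul_left_cancel (mul_right_cancel (h.trans hkd.symm))), by
        have := (commute_conj_iff' (k : G) d b).2 hb.2.2; rwa [hkd] at this⟩
    have hkb' : (k : G) * b * (k : G)⁻¹ = b := A.L.inj _ hkb b hb (by
      have hg : (g : Q) * e = e * g := Subgroup.mem_centralizer_singleton_iff.1 (hX ▸ g.2)
      rw [show inC hkb = k * inC hb * k⁻¹ from Subtype.ext rfl, map_mul, map_mul, map_inv, hk, ← A.proj_eq hb,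
        ← he, hg, mul_inv_cancel_right])
    have hk2 : (k : G) ∈ Subgroup.centralizer ({d, b} : Set G) :=
      hmem2.2 ⟨mul_inv_eq_iff_eq_mul.1 hkd, mul_inv_eq_iff_eq_mul.1 hkb'⟩
    obtain ⟨p, hp⟩ : ∃ p, A.L.π (ι p) = (n : Q) := hn'
    refine ⟨⟨_, hn _ hk2 _ p.2⟩, ?_⟩
    show A.L.π (ι ⟨_, hn _ hk2 _ p.2⟩) = (g : Q) * (n : Q) * (g : Q)⁻¹
    rw [← hp, ← hk, ← map_inv, ← map_mul, ← map_mul]
    exact congrArg A.L.π (Subtype.ext rfl)⟩
  have hNodd : Odd (Nat.card N) := by
    rw [hN, Nat.card_congr (Subgroup.subgroupOfEquivOfLe hBX).toEquiv]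
    exact hodd.of_dvd_nat (Subgroup.card_range_dvd _)
  have he2 : e * e = 1 := FischerTypes.mul_self A.group.1 heE
  have heC : e ∈ Subgroup.closure (perp E e) := hX ▸ Subgroup.mem_centralizer_singleton_iff.2 rfl
  have hcen := le_center_of_odd (CfsgLib.Transpositions.TypeM22.isQuasisimple_closure A.group A.prim A.type heE)
    (t := (⟨e, heC⟩ : ↥(Subgroup.closure (perp E e)))) (Subtype.ext he2)
    (fun h => FischerTypes.ne_one A.group.1 heE (congrArg Subtype.val h)) N hNodd
  have hPi : ∀ p : ↥P, A.L.π (ι p) = 1 := by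
    intro p
    have hp : A.L.π (ι p) ∈ B := ⟨p, rfl⟩
    have hpN : (⟨_, hBX hp⟩ : ↥(Subgroup.closure (perp E e))) ∈ N := hp
    have hz := (CfsgLib.Transpositions.TypeM22.center_closure A.group A.prim A.type heE).le (hcen hpN)
    rw [Subgroup.mem_subgroupOf] at hz
    obtain ⟨k, hk⟩ := Subgroup.mem_zpowers_iff.1 hz
    have hk' : e ^ k = A.L.π (ι p) := hk
    have h2 : (A.L.π (ι p)) ^ 2 = 1 := by
      rw [← hk', ← zpow_natCast, ← zpow_mul, mul_comm, zpow_mul, zpow_natCast, pow_two, he2, one_zpow]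
    have h3 := orderOf_dvd_of_pow_eq_one h2
    have h4 : Odd (orderOf (A.L.π (ι p))) :=
      hodd.of_dvd_nat ((orderOf_map_dvd (A.L.π.comp ι) p).trans (orderOf_dvd_natCard p))
    rcases (Nat.dvd_prime Nat.prime_two).1 h3 with h5 | h5
    · exact orderOf_eq_one_iff.1 h5
    · rw [h5] at h4; exact absurd h4 (by decide)
  rw [Subgroup.eq_bot_iff_forall]
  intro p hp
  rcases (A.L.ker _).1 (hPi ⟨p, hp⟩) with h | h
  · exact h
  · exfalso
    have hpd : p = d := h
    subst hpd
    have h2 := Subgroup.orderOf_dvd_natCard P hp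
    rw [orderOf_eq_prime (p := 2) (by rw [pow_two, A.sq]) A.ne] at h2
    exact Nat.not_even_iff_odd.2 hodd (even_iff_two_dvd.2 h2)

end M22Data

end CfsgLib.SporFischer
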