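import Cfsg.Agent.FischerTypes.M23PencilBase
import Cfsg.Agent.FischerTypes.InvolutionClasses
import Cfsg.Agent.Transpositions.TypeM23Structure
import Cfsg.Agent.Transpositions.TypeM24Cliques

/-!
# Elementary abelian subgroups of order 2048 in type M(23)

They are generated by maximal commuting sets of members; these sets are conjugate, also with one member marked.
-/

set_option autoImplicit false
set_option linter.unusedSectionVars false
set_option maxHeartbeats 1000000

namespace CfsgLib.SporFischer.Big23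

open Cfsg CfsgLib.FischerTypes

variable {Y : Type*} [Group Y] [Finite Y] {E : Set Y} (H : M23.Hyp Y E)

include H

theorem noTwins : NoTwins E := by
  obtain ⟨d₀, -, hN, -, -, -⟩ := nice_of_isOfTypeM23 psu62Facts H.group H.type
  exact hN.noTwins

theorem noRel {n : ℕ} (h1 : 4 ≤ n) (h6 : n ≤ 6) : NoRel E n := by
  interval_cases n
  exacts [noRel_four H.group.1 (noTwins H), (noRel_of_M23 psu62Facts H.group H.type).1,
    (noRel_of_M23 psu62Facts H.group H.type).2]

theorem noCentralMember : NoCentral E := fun c hc => by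
  by_contra hall
  push Not at hall
  have : c ∈ Subgroup.center Y := Subgroup.mem_center_iff.2 fun k => by
    have hk : k ∈ Subgroup.centralizer ({c} : Set Y) :=
      (H.group.2.2 ▸ (Subgroup.closure_le _).2 fun z hz =>
        Subgroup.mem_centralizer_singleton_iff.2 (hall z hz).eq : (⊤ : Subgroup Y) ≤ _) (Subgroup.mem_top k)
    exact Subgroup.mem_centralizer_singleton_iff.1 hk
  rw [H.type.1] at this
  exact FischerTypes.ne_one H.group.1 hc this

theorem pairU : PairUnique E := FischerTypes.pairUnique H.group.1 (noTwins H)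

/-- The double cover at a member. -/
theorem cover {t : Y} (ht : t ∈ E) :
    Cover22 (QuotientGroup.mk' (Subgroup.center ↥(Subgroup.closure (perp E t)))) (img E t)
      ⟨t, M23.mem_closure_perp_self H ht⟩ := by
  have ht2 := FischerTypes.mul_self H.group.1 ht
  have hcen : ∀ g : ↥(Subgroup.closure (perp E t)), Commute (⟨t, M23.mem_closure_perp_self H ht⟩ :
      ↥(Subgroup.closure (perp E t))) g := fun g =>
    Subtype.ext (Subgroup.mem_centralizer_singleton_iff.1 (closure_le_centralizer t g.2)).symm
  refine ⟨QuotientGroup.mk'_surjective _, fun z => ?_, hcen, Subtype.ext ht2,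
    fun h => FischerTypes.ne_one H.group.1 ht (congrArg Subtype.val h),
    (Transpositions.TypeM23.isQuasisimple_closure H ht).1.commutator_eq_top,
    M23.quotGroup H.group t, M23.quotPrim H ht, M23.quot22 H ht⟩
  rw [QuotientGroup.mk'_apply, QuotientGroup.eq_one_iff]
  constructor
  · intro hz
    rcases M23.eq_one_or_eq_of_centralize H ht
      (Subgroup.mem_centralizer_singleton_iff.1 (closure_le_centralizer t z.2))
      (mem_center_closure_iff.1 hz) with h | h
    · exact Or.inl (Subtype.ext h)
    · exact Or.inr (Subtype.ext h)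
  · rintro (rfl | rfl)
    · exact one_mem _
    · exact Subgroup.mem_center_iff.2 fun g => (hcen g).eq.symm

theorem centralizer_le {t : Y} (ht : t ∈ E) : Subgroup.centralizer ({t} : Set Y) ≤ Subgroup.closure (perp E t) :=
  (M23.centralizer_eq H.group H ht).le

theorem mem_perp_closure_of_commute {t g : Y} (ht : t ∈ E) (hg : Commute g t) :
    g ∈ Subgroup.closure (perp E t) :=
  centralizer_le H ht (Subgroup.mem_centralizer_singleton_iff.2 hg.eq)

/-- An elementary abelian subgroup through a member has order at most 2048; if equal, it is the group of a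
maximal commuting set through the member. -/
theorem elementary_member {B : Subgroup Y} (hB : IsElementaryAbelian 2 B) {t : Y} (ht : t ∈ E) (htB : t ∈ B) :
    Nat.card B ≤ 2048 ∧ (2048 ≤ Nat.card B → ∃ M, IsMaxClique E M ∧ t ∈ M ∧ B = Subgroup.closure M) := by
  have hcov := cover H ht
  set P := Subgroup.closure (perp E t) with hP
  set π := QuotientGroup.mk' (Subgroup.center ↥P) with hπ
  have hBP : B ≤ P := fun b hb => mem_perp_closure_of_commute H ht (CfsgLib.PLocal.comm_of_isMulCommutative hB.1 hb htB)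
  set B' := B.subgroupOf P with hB'
  have hcard : Nat.card B' = Nat.card B := Nat.card_congr (Subgroup.subgroupOfEquivOfLe hBP).toEquiv
  have hB'e : IsElementaryAbelian 2 B' := by
    refine ⟨⟨⟨fun a b => Subtype.ext (Subtype.ext ?_)⟩⟩, fun a ha => Subtype.ext ?_⟩
    · exact CfsgLib.PLocal.comm_of_isMulCommutative hB.1 a.2 b.2
    · exact hB.2 _ ha
  obtain ⟨h1, h2⟩ := hcov.elementary_le_cover hB'e
  refine ⟨hcard ▸ h1, fun hc => ?_⟩
  have : Fact (Nat.Prime 2) := ⟨Nat.prime_two⟩
  obtain ⟨T, hT⟩ := ((CfsgLib.PLocal.isPGroup_of_isElementaryAbelian hB'e).map π).exists_le_sylow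
  obtain ⟨hcl, hBeq⟩ := h2 (hcard ▸ hc) T hT
  set cl := {x | x ∈ img E t ∧ x ∈ (T : Subgroup _)} with hcldef
  set M : Set Y := {y | y ∈ E ∧ y ∈ B} with hM
  have hlift : ∀ {y : Y} (hy : y ∈ perp E t), bar hy ∈ cl → y ∈ M := by
    intro y hy hb
    have h : (⟨y, mem_perp_closure hy⟩ : ↥P) ∈ B' := by
      rw [hBeq]; exact Subgroup.subset_closure hb
    exact ⟨hy.1, h⟩
  have hgen : B ≤ Subgroup.closure M := by
    intro b hb
    have key : ∀ q ∈ Subgroup.closure cl, ∃ y : ↥P, (y : Y) ∈ Subgroup.closure M ∧ π y = q := by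
      intro q hq
      induction hq using Subgroup.closure_induction with
      | mem q hq =>
        obtain ⟨x, hx, rfl⟩ := M23.exists_lift hq.1
        exact ⟨⟨x, mem_perp_closure hx⟩, Subgroup.subset_closure (hlift hx hq), rfl⟩
      | one => exact ⟨1, one_mem _, map_one π⟩
      | mul a c _ _ iha ihc =>
        obtain ⟨y, hy, rfl⟩ := iha
        obtain ⟨z, hz, rfl⟩ := ihc
        exact ⟨y * z, mul_mem hy hz, map_mul π y z⟩
      | inv a _ iha =>
        obtain ⟨y, hy, rfl⟩ := iha
        exact ⟨y⁻¹, inv_mem hy, map_inv π y⟩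
    have hb' : (⟨b, hBP hb⟩ : ↥P) ∈ B' := hb
    rw [hBeq] at hb'
    obtain ⟨y, hy, hyb⟩ := key _ hb'
    rcases hcov.eq_or_eq_mul hyb with e | e
    · rw [show b = (y : Y) from congrArg Subtype.val e]; exact hy
    · rw [show b = (y : Y) * t from congrArg Subtype.val e]
      exact mul_mem hy (Subgroup.subset_closure ⟨ht, htB⟩)
  refine ⟨M, ⟨fun y hy => hy.1, fun a ha b hb => CfsgLib.PLocal.comm_of_isMulCommutative hB.1 ha.2 hb.2,
    fun y hy hall => ?_⟩, ⟨ht, htB⟩, le_antisymm hgen ((Subgroup.closure_le _).2 fun y hy => hy.2)⟩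
  by_cases e : y = t
  · exact ⟨hy, e ▸ htB⟩
  have hyt : y ∈ perp E t := ⟨hy, e, (hall t ⟨ht, htB⟩).symm⟩
  refine hlift hyt (hcl.max _ (M23.bar_mem H ht hyt) fun q hq => ?_)
  obtain ⟨x, hx, rfl⟩ := M23.exists_lift hq.1
  exact (M23.bar_commute H hyt hx).2 (hall x (hlift hx hq))

/-- The image of a maximal commuting set at one of its members. -/
theorem clique_image {M : Set Y} (hM : IsMaxClique E M) {t : Y} (ht : t ∈ M) :
    IsMaxClique (img E t) {q | ∃ x, ∃ hx : x ∈ perp E t, x ∈ M ∧ bar hx = q} := by
  have htE := hM.sub ht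
  refine ⟨?_, ?_, fun q hq hall => ?_⟩
  · rintro q ⟨x, hx, -, rfl⟩
    exact M23.bar_mem H htE hx
  · rintro q ⟨x, hx, hxM, rfl⟩ r ⟨y, hy, hyM, rfl⟩
    exact (M23.bar_commute H hx hy).2 (hM.comm x hxM y hyM)
  · obtain ⟨x, hx, rfl⟩ := M23.exists_lift hq
    refine ⟨x, hx, hM.max x hx.1 fun m hm => ?_, rfl⟩
    by_cases hmt : m = t
    · rw [hmt]; exact hx.2.2.symm
    · have hmp := hM.mem_perp ht hm (Ne.symm hmt)
      exact (M23.bar_commute H hx hmp).1 (hall _ ⟨m, hmp, hm, rfl⟩)

theorem exists_mem {M : Set Y} (hM : IsMaxClique E M) : ∃ m, m ∈ M := by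
  obtain ⟨a, ha, -⟩ := H.prim.2.1
  by_contra hno
  push Not at hno
  exact hno a (hM.max a ha fun m hm => absurd hm (hno m))

theorem card_closure {M : Set Y} (hM : IsMaxClique E M) : Nat.card (Subgroup.closure M) = 2048 := by
  obtain ⟨t, ht⟩ := exists_mem H hM
  have htE := hM.sub ht
  have hcov := cover H htE
  have htc : t ∈ Subgroup.closure M := Subgroup.subset_closure ht
  refine le_antisymm (elementary_member H (isElementaryAbelian_clique H.group hM) htE htc).1 ?_
  set P := Subgroup.closure (perp E t)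
  set π := QuotientGroup.mk' (Subgroup.center ↥P)
  have hT := clique_image H hM ht
  set B' := (Subgroup.closure M).subgroupOf P
  have hMP : Subgroup.closure M ≤ P := (Subgroup.closure_le _).2 fun m hm =>
    mem_perp_closure_of_commute H htE (hM.comm m hm t ht)
  have hle : (Subgroup.closure {q | ∃ x, ∃ hx : x ∈ perp E t, x ∈ M ∧ bar hx = q}).comap π ≤ B' := by
    intro p hp
    have hq : π p ∈ B'.map π := by
      refine (Subgroup.closure_le _).2 ?_ hp
      rintro q ⟨x, hx, hxM, rfl⟩
      exact ⟨⟨x, mem_perp_closure hx⟩, (Subgroup.subset_closure hxM : x ∈ Subgroup.closure M), rfl⟩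
    obtain ⟨y, hy, hyp⟩ := hq
    rcases hcov.eq_or_eq_mul hyp with rfl | rfl
    · exact hy
    · exact mul_mem hy htc
  have := Subgroup.card_le_of_le hle
  rw [hcov.card_preimage hT, Nat.card_congr (Subgroup.subgroupOfEquivOfLe hMP).toEquiv] at this
  exact this

/-- Maximal commuting sets with a marked member are conjugate. -/
theorem exists_conj_clique {M M' : Set Y} (hM : IsMaxClique E M) (hM' : IsMaxClique E M') {t t' : Y} (ht : t ∈ M)
    (ht' : t' ∈ M') : ∃ k : Y, (fun x => k * x * k⁻¹) '' M = M' ∧ k * t * k⁻¹ = t' := by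
  obtain ⟨g, hg⟩ := H.prim.1 t (hM.sub ht) t' (hM'.sub ht')
  set N := (fun x => g * x * g⁻¹) '' M
  have hN : IsMaxClique E N := isMaxClique_conj H.group hM g
  have htN : t' ∈ N := ⟨t, ht, hg⟩
  have htE := hM'.sub ht'
  obtain ⟨q, -, hq⟩ := exists_conj_fixing (M23.quotGroup H.group t') (M23.quotPrim H htE) (M23.quot22 H htE)
    (clique_image H hN htN) (clique_image H hM' ht') (X := ∅)
    (fun _ _ => Subgroup.mem_centralizer_iff.2 fun _ h0 => h0.elim)
    (fun _ _ => Subgroup.mem_centralizer_iff.2 fun _ h0 => h0.elim)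
  obtain ⟨p, rfl⟩ := QuotientGroup.mk_surjective q
  have hpt : (p : Y) * t' * (p : Y)⁻¹ = t' :=
    mul_inv_eq_iff_eq_mul.2 (Subgroup.mem_centralizer_singleton_iff.1 (closure_le_centralizer t' p.2))
  have hsub : (fun x => (p : Y) * x * (p : Y)⁻¹) '' N ⊆ M' := by
    rintro _ ⟨x, hx, rfl⟩
    by_cases e : x = t'
    · subst e; show (p : Y) * x * (p : Y)⁻¹ ∈ M'; rw [hpt]; exact ht'
    have hxp := hN.mem_perp htN hx (Ne.symm e)
    have hcx := conj_mem_perp' H.group p.2 hxp
    obtain ⟨y, hy, hyM, hye⟩ := hq.subset ⟨bar hxp, ⟨x, hxp, hx, rfl⟩, rfl⟩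
    have : bar hcx = bar hy := by rw [hye]; rfl
    show (p : Y) * x * (p : Y)⁻¹ ∈ M'
    rw [M23.bar_inj H htE hcx hy this]
    exact hyM
  have hN' := isMaxClique_conj H.group hN (p : Y)
  refine ⟨p * g, ?_, ?_⟩
  · refine Eq.trans ?_ (Set.Subset.antisymm hsub fun y hy => hN'.max y (hM'.sub hy) fun m hm =>
      hM'.comm y hy m (hsub hm))
    rw [Set.image_image]
    exact Set.image_congr' fun x => by group
  · rw [show (p : Y) * g * t * ((p : Y) * g)⁻¹ = (p : Y) * (g * t * g⁻¹) * (p : Y)⁻¹ by group, hg, hpt]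

/-- An element commuting with a product of commuting members permutes them. -/
theorem perm_of_commute {l : List Y} (hl : IsCList E l) (h1 : 1 ≤ l.length) (h3 : l.length ≤ 3) {g : Y}
    (hg : Commute g l.prod) : ∀ a ∈ l, g * a * g⁻¹ ∈ l := by
  intro a ha
  by_contra hno
  set l' := l.map fun x => g * x * g⁻¹ with hl'
  have hp : l'.prod = l.prod := by
    rw [show l' = l.map (MulAut.conj g) from rfl, ← map_list_prod, MulAut.conj_apply, hg.eq, mul_inv_cancel_right]
  have hl'c : IsCList E l' := by
    refine ⟨hl.nodup.map fun x y h => mul_left_cancel (mul_right_cancel h), ?_, ?_⟩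
    · intro x hx
      obtain ⟨y, hy, rfl⟩ := List.mem_map.1 hx
      exact H.group.2.1 g y (hl.mem y hy)
    · intro x hx y hy
      obtain ⟨x, hx', rfl⟩ := List.mem_map.1 hx
      obtain ⟨y, hy', rfl⟩ := List.mem_map.1 hy
      exact (commute_conj_iff' g x y).2 (hl.comm x hx' y hy')
  have hlen : l'.length = l.length := List.length_map _
  have hcc : ∀ x ∈ l, ∀ y ∈ l', Commute x y := fun x hx => hl'c.commute_each H.group.1 (hlen ▸ h3)
    (hl.mem x hx) (hp ▸ Commute.list_prod_right _ _ fun y hy => hl.comm x hx y hy)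
  set x := g * a * g⁻¹
  have hx : x ∈ l' := List.mem_map.2 ⟨a, ha, rfl⟩
  classical
  obtain ⟨e1, e2, e3⟩ := hl'c.prod_erase hx
  -- `x :: l` against the rest of `l'`
  have hxl : IsCList E (x :: l) := isCList_cons (hl'c.mem x hx) hl fun b hb =>
    ⟨hl.mem b hb, fun h => hno (h ▸ hb), (hcc b hb x hx).symm⟩
  refine IsCList.prod_ne H.group.1 (N := 6) (fun n hn1 hn6 => ?_) hxl e3
    (fun u hu w hw => ?_) (by simp; omega) (by simp; omega) ?_
  · rcases Nat.lt_or_ge n 4 with hn | hn
    · interval_cases n
      exacts [noRel_one H.group.1, noRel_two H.group.1, noRel_three H.group.1 (noCentralMember H)]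
    · exact noRel H hn hn6
  · rcases List.mem_cons.1 hu with rfl | hu
    · exact hl'c.comm _ hx w (List.mem_of_mem_erase hw)
    · exact hcc u hu w (List.mem_of_mem_erase hw)
  · rw [List.prod_cons, ← hp, e1, ← mul_assoc, FischerTypes.mul_self H.group.1 (hl'c.mem x hx), one_mul]

theorem prod_pair_perm {a b g : Y} (ha : a ∈ E) (hb : b ∈ E) (hne : a ≠ b) (hab : Commute a b)
    (hg : Commute g (a * b)) :
    (g * a * g⁻¹ = a ∧ g * b * g⁻¹ = b) ∨ (g * a * g⁻¹ = b ∧ g * b * g⁻¹ = a) := by
  have hp : g * a * g⁻¹ * (g * b * g⁻¹) = a * b := by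
    rw [show g * a * g⁻¹ * (g * b * g⁻¹) = g * (a * b) * g⁻¹ by group, hg.eq, mul_inv_cancel_right]
  exact pairU H _ (H.group.2.1 g a ha) _ (H.group.2.1 g b hb) a ha b hb
    (fun h => hne (mul_left_cancel (mul_right_cancel h))) ((commute_conj_iff' g a b).2 hab) hne hab hp

/-- Every elementary abelian subgroup of order at least 2048 is the group of a maximal commuting set. -/
theorem exists_clique_of_card {B : Subgroup Y} (hB : IsElementaryAbelian 2 B) (hc : 2048 ≤ Nat.card B) :
    ∃ M, IsMaxClique E M ∧ B = Subgroup.closure M := by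
  classical
  have : Fact (Nat.Prime 2) := ⟨Nat.prime_two⟩
  by_cases h0 : ∃ t ∈ E, t ∈ B
  · obtain ⟨t, ht, htB⟩ := h0
    obtain ⟨M, hM, -, e⟩ := (elementary_member H hB ht htB).2 hc
    exact ⟨M, hM, e⟩
  push Not at h0
  exfalso
  have hcomm : ∀ {x y : Y}, x ∈ B → y ∈ B → Commute x y := fun hx hy =>
    CfsgLib.PLocal.comm_of_isMulCommutative hB.1 hx hy
  have hsq : ∀ {x : Y}, x ∈ B → x * x = 1 := fun hx => by rw [← pow_two]; exact hB.2 _ hx
  by_cases h2 : ∃ a ∈ E, ∃ b ∈ E, a ≠ b ∧ Commute a b ∧ a * b ∈ B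
  · obtain ⟨a, ha, b, hb, hne, hab, habB⟩ := h2
    set B₁ := B ⊓ Subgroup.centralizer ({a} : Set Y) with hB₁
    have ha2 := FischerTypes.mul_self H.group.1 ha
    have hidx : Nat.card B ≤ 2 * Nat.card B₁ := by
      by_cases hall : ∀ g ∈ B, Commute g a
      · have : B ≤ B₁ := le_inf le_rfl fun g hg => Subgroup.mem_centralizer_singleton_iff.2 (hall g hg).eq
        have := Subgroup.card_le_of_le this
        omega
      push Not at hall
      obtain ⟨s, hs, hsa⟩ := hall
      have hsa' : ∀ g ∈ B, ¬ Commute g a → g * a * g⁻¹ = b := fun g hg hga => by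
        rcases prod_pair_perm H ha hb hne hab (hcomm hg habB) with ⟨e, -⟩ | ⟨e, -⟩
        · exact absurd (mul_inv_eq_iff_eq_mul.1 e) hga
        · exact e
      have hcover : (B : Set Y) ⊆ (B₁ : Set Y) ∪ (fun g => s * g) '' (B₁ : Set Y) := by
        intro g hg
        by_cases hga : Commute g a
        · exact Or.inl ⟨hg, Subgroup.mem_centralizer_singleton_iff.2 hga.eq⟩
        · refine Or.inr ⟨s⁻¹ * g, ⟨mul_mem (B.inv_mem hs) hg, Subgroup.mem_centralizer_singleton_iff.2 ?_⟩,
            mul_inv_cancel_left s g⟩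
          refine mul_inv_eq_iff_eq_mul.1 ?_
          calc s⁻¹ * g * a * (s⁻¹ * g)⁻¹ = s⁻¹ * (g * a * g⁻¹) * s := by group
            _ = s⁻¹ * (s * a * s⁻¹) * s := by rw [hsa' g hg hga, hsa' s hs hsa]
            _ = a := by group
      have := (Set.ncard_le_ncard hcover (Set.toFinite _)).trans (Set.ncard_union_le _ _)
      have := Set.ncard_image_le (f := fun g => s * g) (Set.toFinite (B₁ : Set Y))
      have e1 : (B : Set Y).ncard = Nat.card B := (Nat.card_coe_set_eq _).symm
      have e2 : (B₁ : Set Y).ncard = Nat.card B₁ := (Nat.card_coe_set_eq _).symm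
      omega
    set S : Set Y := insert a (B₁ : Set Y)
    set B₂ := Subgroup.closure S with hB₂
    have hcS : ∀ x ∈ S, ∀ y ∈ S, x * y = y * x := by
      rintro x (rfl | hx) y (rfl | hy)
      · rfl
      · exact (Subgroup.mem_centralizer_singleton_iff.1 hy.2).symm
      · exact Subgroup.mem_centralizer_singleton_iff.1 hx.2
      · exact (hcomm hx.1 hy.1).eq
    have hB₂e : IsElementaryAbelian 2 B₂ := CfsgLib.PLocal.isElementaryAbelian_closure hcS (by
      rintro x (rfl | hx)
      · rw [pow_two]; exact ha2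
      · rw [pow_two]; exact hsq hx.1)
    have haB₂ : a ∈ B₂ := Subgroup.subset_closure (Set.mem_insert _ _)
    have h1le : B₁ ≤ B₂ := fun x hx => Subgroup.subset_closure (Set.mem_insert_of_mem _ hx)
    have hdbl : 2 * Nat.card B₁ ≤ Nat.card B₂ := by
      have hlt : B₁ < B₂ := lt_of_le_of_ne h1le fun e => h0 a ha (e ▸ haB₂ : a ∈ B₁).1
      have hdvd := Subgroup.card_dvd_of_le h1le
      obtain ⟨k, hk⟩ := hdvd
      have hpos : 0 < Nat.card B₁ := Nat.card_pos
      rcases Nat.lt_or_ge k 2 with hk2 | hk2
      · interval_cases k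
        · have : 0 < Nat.card B₂ := Nat.card_pos
          omega
        · exact absurd (Subgroup.eq_of_le_of_card_ge h1le (by omega)) hlt.ne
      · rw [hk, mul_comm]; exact Nat.mul_le_mul_left _ hk2
    obtain ⟨M, hM, haM, hMe⟩ := (elementary_member H hB₂e ha haB₂).2 (by omega)
    have hbB₂ : b ∈ B₂ := by
      have h1 : a * b ∈ B₁ := ⟨habB, Subgroup.mem_centralizer_singleton_iff.2
        (((Commute.refl a).mul_left hab.symm).eq)⟩
      have := mul_mem haB₂ (h1le h1)
      rwa [← mul_assoc, ha2, one_mul] at this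
    have hbM : b ∈ M := mem_clique_of_mem_closure H.group hM hb (hMe ▸ hbB₂)
    obtain ⟨s, hs, hsa⟩ : ∃ s ∈ B, ¬ Commute s a := by
      by_contra hall
      push Not at hall
      have hBB : B ≤ B₁ := le_inf le_rfl fun g hg => Subgroup.mem_centralizer_singleton_iff.2 (hall g hg).eq
      have h1 := Subgroup.card_le_of_le hBB
      have h2 := (elementary_member H hB₂e ha haB₂).1
      omega
    obtain ⟨hsab, hsba⟩ : s * a * s⁻¹ = b ∧ s * b * s⁻¹ = a :=
      (prod_pair_perm H ha hb hne hab (hcomm hs habB)).resolve_left fun h => hsa (mul_inv_eq_iff_eq_mul.1 h.1)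
    -- the members other than `a`, `b` are centralised
    have hfix : ∀ m ∈ M, m ≠ a → m ≠ b → Commute m s := by
      intro m hm hma hmb
      have hmB : m ∈ B₂ := hMe ▸ Subgroup.subset_closure hm
      have hform : ∀ x ∈ B₂, x ∈ B₁ ∨ x * a ∈ B₁ := by
        intro x hx
        induction hx using Subgroup.closure_induction with
        | mem z hz =>
          rcases hz with rfl | hz
          · right; rw [ha2]; exact one_mem _
          · exact Or.inl hz
        | one => exact Or.inl (one_mem _)
        | mul x y hx hy ix iy =>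
          have hay : Commute a y := CfsgLib.PLocal.comm_of_isMulCommutative hB₂e.1 haB₂ hy
          rcases ix with ix | ix <;> rcases iy with iy | iy
          · exact Or.inl (mul_mem ix iy)
          · exact Or.inr (by rw [mul_assoc]; exact mul_mem ix iy)
          · refine Or.inr ?_
            rw [mul_assoc, ← hay.eq, ← mul_assoc]
            exact mul_mem ix iy
          · refine Or.inl ?_
            have := mul_mem ix iy
            have e : x * a * (y * a) = x * y := by
              rw [show x * a * (y * a) = x * (a * y) * a by group, hay.eq, ← mul_assoc, mul_assoc (x * y),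
                ha2, mul_one]
            rwa [e] at this
        | inv x hx ix =>
          rcases ix with ix | ix
          · exact Or.inl (inv_mem ix)
          · refine Or.inr ?_
            have hax : Commute a x := CfsgLib.PLocal.comm_of_isMulCommutative hB₂e.1 haB₂ hx
            have := inv_mem ix
            rwa [_root_.mul_inv_rev, inv_eq_of_mul_eq_one_right ha2, hax.inv_right.eq] at this
      rcases hform m hmB with h | h
      · exact hcomm h.1 hs
      exfalso
      -- otherwise the image is `m a b`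
      have hsm : s * m * s⁻¹ = m * a * b := by
        have e : s * (m * a) * s⁻¹ = m * a := by rw [(hcomm hs h.1).eq, mul_inv_cancel_right]
        calc s * m * s⁻¹ = s * (m * a) * s⁻¹ * (s * a * s⁻¹) := by
              rw [show s * (m * a) * s⁻¹ * (s * a * s⁻¹) = s * (m * (a * a)) * s⁻¹ by group, ha2, mul_one]
          _ = m * a * b := by rw [e, hsab]
      have hm'E : s * m * s⁻¹ ∈ E := H.group.2.1 s m (hM.sub hm)
      set m' := s * m * s⁻¹
      have hm'M : m' ∈ M := mem_clique_of_mem_closure H.group hM hm'E (hsm ▸ mul_mem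
        (mul_mem (Subgroup.subset_closure hm) (Subgroup.subset_closure haM)) (Subgroup.subset_closure hbM))
      have na : m' ≠ a := fun e => by
        refine hmb ?_
        have e' : m' = s * b * s⁻¹ := e.trans hsba.symm
        exact mul_left_cancel (mul_right_cancel e')
      have nb : m' ≠ b := fun e => hma (mul_left_cancel (mul_right_cancel (e.trans hsab.symm)))
      have nm : m' ≠ m := fun e => by
        rw [e, mul_assoc, left_eq_mul, mul_eq_one_iff_eq_inv, inv_eq H.group.1 hb] at hsm
        exact hne hsm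
      refine noRel H le_rfl (by norm_num) [m, a, b, m'] ?_ rfl ?_ ?_ ?_
      · simp [hma, hmb, Ne.symm nm, hne, Ne.symm na, Ne.symm nb]
      · simp [hM.sub hm, ha, hb, hm'E]
      · intro u hu w hw
        have hin : ∀ z ∈ [m, a, b, m'], z ∈ M := by
          intro z hz
          simp only [List.mem_cons, List.not_mem_nil, or_false] at hz
          rcases hz with rfl | rfl | rfl | rfl <;> assumption
        exact hM.comm u (hin u hu) w (hin w hw)
      · simp only [List.prod_cons, List.prod_nil, mul_one]
        rw [← mul_assoc m, ← mul_assoc (m * a), ← hsm, FischerTypes.mul_self H.group.1 hm'E]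
    have hs1 : s ≠ 1 := fun e => hsa (e ▸ Commute.one_left a)
    obtain ⟨k, hk1, hk3, l, hnd, hlen, hD, hcm, hprod⟩ :=
      (involution_classes23 H).1 s (orderOf_eq_prime (by rw [pow_two, hsq hs]) hs1)
    have hl : IsCList E l := ⟨hnd, hD, hcm⟩
    refine hsa ?_
    suffices hs' : s ∈ Subgroup.closure M from commute_closure_clique H.group hM hs' (Subgroup.subset_closure haM)
    rw [← hprod]
    refine Subgroup.list_prod_mem _ fun e he => Subgroup.subset_closure ?_
    by_contra heM
    obtain ⟨h23, hadj⟩ := Transpositions.TypeM24.clique_M23 H hM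
    have hsub : M \ {a, b} ⊆ M ∩ perp E e := fun m hm =>
      ⟨hm.1, hM.sub hm.1, fun h => heM (h ▸ hm.1),
        (hl.commute_each H.group.1 (hlen ▸ hk3) (hM.sub hm.1)
          (hprod.symm ▸ hfix m hm.1 (fun h => hm.2 (by simp [h])) (fun h => hm.2 (by simp [h]))) e he).symm⟩
    have h21 := Set.ncard_le_ncard hsub (Set.toFinite _)
    rw [Set.ncard_sdiff (by simp [Set.insert_subset_iff, haM, hbM]) (Set.toFinite _), h23, Set.ncard_pair hne] at h21
    rcases hadj e (hD e he) heM with h | h | h <;> omega
  · -- all products of three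
    push Not at h2
    obtain ⟨b, hbB, hb1⟩ : ∃ b ∈ B, b ≠ 1 := by
      by_contra hall
      push Not at hall
      have : B = ⊥ := (Subgroup.eq_bot_iff_forall _).2 hall
      rw [this, Subgroup.card_bot] at hc
      omega
    obtain ⟨k, hk1, hk3, l, hnd, hlen, hD, hcm, hprod⟩ :=
      (involution_classes23 H).1 b (orderOf_eq_prime (by rw [pow_two, hsq hbB]) hb1)
    interval_cases k
    · obtain ⟨x, rfl⟩ := List.length_eq_one_iff.1 hlen
      exact h0 x (hD x (by simp)) (by rw [← hprod] at hbB; simpa using hbB)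
    · obtain ⟨x, y, rfl⟩ := List.length_eq_two.1 hlen
      exact h2 x (hD x (by simp)) y (hD y (by simp)) (by simpa using hnd) (hcm x (by simp) y (by simp))
        (by rw [← hprod] at hbB; simpa using hbB)
    obtain ⟨p, q, r, rfl⟩ := List.length_eq_three.1 hlen
    have hl : IsCList E [p, q, r] := ⟨hnd, hD, hcm⟩
    set L := {y : Y // y ∈ [p, q, r]}
    have hperm : ∀ g : ↥B, ∀ y : Y, y ∈ [p, q, r] ↔ (g : Y) * y * (g : Y)⁻¹ ∈ [p, q, r] := by
      intro g y
      refine ⟨perm_of_commute H hl (by simp) (by simp) (hprod.symm ▸ hcomm g.2 hbB) y, fun h => ?_⟩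
      have := perm_of_commute H hl (by simp) (by simp) (hprod.symm ▸ hcomm (inv_mem g.2) hbB) _ h
      rwa [show (g : Y)⁻¹ * ((g : Y) * y * (g : Y)⁻¹) * (g : Y)⁻¹⁻¹ = y by group] at this
    let φ : ↥B →* Equiv.Perm L :=
      { toFun := fun g => (MulAut.conj (g : Y)).toEquiv.subtypeEquiv (hperm g)
        map_one' := Equiv.ext fun o => Subtype.ext (by simp)
        map_mul' := fun g h => Equiv.ext fun o => Subtype.ext (by simp [mul_assoc]) }
    have hLcard : Nat.card (Equiv.Perm L) = 6 := by
      have : Fintype L := Fintype.ofFinite L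
      have hL : Nat.card L = 3 := by
        rw [Nat.card_congr (Equiv.subtypeEquivRight (q := fun y => y ∈ [p, q, r].toFinset) fun y => by simp),
          Nat.card_eq_fintype_card, Fintype.card_coe, List.toFinset_card_of_nodup hnd]
        rfl
      rw [Nat.card_perm, hL]
      rfl
    have hran : Nat.card φ.range ≤ 2 := by
      have h6 := Subgroup.card_subgroup_dvd_card φ.range
      rw [hLcard] at h6
      obtain ⟨j, hj⟩ := ((CfsgLib.PLocal.isPGroup_of_isElementaryAbelian hB).of_surjective φ.rangeRestrict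
        φ.rangeRestrict_surjective).exists_card_eq
      rw [hj] at h6 ⊢
      have : j ≤ 1 := by
        by_contra hj2
        have : 4 ∣ 6 := (pow_dvd_pow 2 (show 2 ≤ j by omega)).trans h6
        omega
      calc 2 ^ j ≤ 2 ^ 1 := Nat.pow_le_pow_right (by norm_num) this
        _ = 2 := rfl
    set K := φ.ker.map B.subtype with hK
    have hBK : Nat.card B ≤ 2 * Nat.card K := by
      rw [hK, Subgroup.card_map_of_injective B.subtype_injective, Subgroup.card_eq_card_quotient_mul_card_subgroup φ.ker,
        Nat.card_congr (QuotientGroup.quotientKerEquivRange φ).toEquiv]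
      exact Nat.mul_le_mul_right _ hran
    have hKc : ∀ g ∈ K, g ∈ B ∧ ∀ y ∈ [p, q, r], Commute g y := by
      rintro _ ⟨g, hg, rfl⟩
      refine ⟨g.2, fun y hy => mul_inv_eq_iff_eq_mul.1 ?_⟩
      exact congrArg Subtype.val (DFunLike.congr_fun (MonoidHom.mem_ker.1 hg) ⟨y, hy⟩)
    have hp := hD p (by simp)
    have hq := hD q (by simp)
    set S : Set Y := (K : Set Y) ∪ {p, q}
    set B₂ := Subgroup.closure S
    have hB₂e : IsElementaryAbelian 2 B₂ := CfsgLib.PLocal.isElementaryAbelian_closure (by
      rintro x (hx | rfl | rfl) y (hy | rfl | rfl)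
      · exact (hcomm (hKc x hx).1 (hKc y hy).1).eq
      · exact ((hKc x hx).2 y (by simp)).eq
      · exact ((hKc x hx).2 y (by simp)).eq
      · exact ((hKc y hy).2 x (by simp)).eq.symm
      · rfl
      · exact (hcm x (by simp) y (by simp)).eq
      · exact ((hKc y hy).2 x (by simp)).eq.symm
      · exact (hcm x (by simp) y (by simp)).eq
      · rfl) (by
      rintro x (hx | rfl | rfl)
      · rw [pow_two]; exact hsq (hKc x hx).1
      all_goals rw [pow_two]; exact FischerTypes.mul_self H.group.1 (hD x (by simp)))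
    have hpB₂ : p ∈ B₂ := Subgroup.subset_closure (Or.inr (Or.inl rfl))
    have hqB₂ : q ∈ B₂ := Subgroup.subset_closure (Or.inr (Or.inr rfl))
    have hpq : p * q ∉ B := fun h => h2 p hp q hq (fun e => by simp [e] at hnd) (hcm p (by simp) q (by simp)) h
    let f : ↥K × Bool × Bool → ↥B₂ := fun z => ⟨(z.1 : Y) * ((if z.2.1 then p else 1) * (if z.2.2 then q else 1)),
      mul_mem (Subgroup.subset_closure (Or.inl z.1.2))
        (mul_mem (by split_ifs <;> [exact hpB₂; exact one_mem _]) (by split_ifs <;> [exact hqB₂; exact one_mem _]))⟩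
    have hinj : Function.Injective f := by
      rintro ⟨k, i, j⟩ ⟨k', i', j'⟩ he
      have he' : (k : Y) * ((if i then p else 1) * (if j then q else 1)) =
          (k' : Y) * ((if i' then p else 1) * (if j' then q else 1)) := congrArg Subtype.val he
      have hmem : ((if i then p else 1) * (if j then q else 1)) *
          ((if i' then p else 1) * (if j' then q else 1))⁻¹ ∈ B := by
        have e : ((if i then p else 1) * (if j then q else 1)) *
            ((if i' then p else 1) * (if j' then q else 1))⁻¹ = (k : Y)⁻¹ * (k' : Y) := by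
          rw [mul_inv_eq_iff_eq_mul, mul_assoc, ← he']; group
        rw [e]
        exact mul_mem (inv_mem (hKc _ k.2).1) (hKc _ k'.2).1
      have hpp := FischerTypes.mul_self H.group.1 hp
      have hqq := FischerTypes.mul_self H.group.1 hq
      have hpi := inv_eq H.group.1 hp
      have hqi := inv_eq H.group.1 hq
      have hcpq := (hcm p (by simp) q (by simp)).eq
      have q1 : ∀ z, p * (p * z) = z := fun z => by rw [← mul_assoc, hpp, one_mul]
      have q2 : ∀ z, q * (q * z) = z := fun z => by rw [← mul_assoc, hqq, one_mul]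
      have q3 : ∀ z, q * (p * z) = p * (q * z) := fun z => by rw [← mul_assoc, ← hcpq, mul_assoc]
      have hij : i = i' ∧ j = j' := by
        have e : ((if i then p else 1) * (if j then q else 1)) * ((if i' then p else 1) * (if j' then q else 1))⁻¹ =
            (if Bool.xor i i' then p else 1) * (if Bool.xor j j' then q else 1) := by
          cases i <;> cases j <;> cases i' <;> cases j' <;>
            simp [mul_assoc, hpi, hqi, hpp, hqq, q1, q3, hcpq.symm]
        rw [e] at hmem
        cases i <;> cases j <;> cases i' <;> cases j' <;> first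
          | exact ⟨rfl, rfl⟩
          | exact absurd (by simpa using hmem) (h0 p hp)
          | exact absurd (by simpa using hmem) (h0 q hq)
          | exact absurd (by simpa using hmem) hpq
      obtain ⟨rfl, rfl⟩ := hij
      rw [show k = k' from Subtype.ext (mul_right_cancel he')]
    have h4 := Nat.card_le_card_of_injective f hinj
    rw [Nat.card_prod, Nat.card_prod, Nat.card_eq_fintype_card (α := Bool), Fintype.card_bool] at h4
    have h5 := (elementary_member H hB₂e hp hpB₂).1
    omega

theorem conj_eq_iff (g g' x : Y) : g * x * g⁻¹ = g' * x * g'⁻¹ ↔ Commute (g⁻¹ * g') x := by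
  constructor
  · intro h
    refine mul_inv_eq_iff_eq_mul.1 ?_
    calc g⁻¹ * g' * x * (g⁻¹ * g')⁻¹ = g⁻¹ * (g' * x * g'⁻¹) * g := by group
      _ = x := by rw [← h]; group
  · intro h
    calc g * x * g⁻¹ = g * (g⁻¹ * g' * x * (g⁻¹ * g')⁻¹) * g⁻¹ := by rw [h.eq, mul_inv_cancel_right]
      _ = g' * x * g'⁻¹ := by group

/-- The centralizer of two commuting members. -/
theorem card_pair {p q : Y} (hp : p ∈ E) (hq : q ∈ perp E p) :
    Nat.card (Subgroup.centralizer ({p, q} : Set Y)) = 36787322880 := by
  have h := card_eq_ncard_mul_card (H := Subgroup.centralizer ({p} : Set Y))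
    (K := Subgroup.centralizer ({p, q} : Set Y)) (Subgroup.centralizer_le (by simp)) (fun g => g * q * g⁻¹)
    (S := perp E p) (fun g hg => conj_mem_perp H.group (Subgroup.mem_centralizer_singleton_iff.1 hg) hq)
    (fun s hs => by
      obtain ⟨g, hg, he⟩ := M23.exists_conj H hp hq hs
      exact ⟨g, closure_le_centralizer p hg, he⟩)
    (fun g hg k hk => by
      rw [conj_eq_iff H, Subgroup.mem_centralizer_iff]
      refine ⟨fun hc x hx => ?_, fun hc => (hc q (by simp)).symm⟩
      rcases hx with rfl | rfl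
      · exact (Subgroup.mem_centralizer_singleton_iff.1 (mul_mem (inv_mem hg) hk)).symm
      · exact hc.eq.symm)
  rw [Transpositions.TypeM23.card_centralizer H hp, M23.ncard_perp H hp] at h
  omega

/-- The centralizer of three commuting members. -/
theorem card_triple {p q r : Y} (hl : IsCList E [p, q, r]) :
    Nat.card (Subgroup.centralizer ({p, q, r} : Set Y)) = 53084160 := by
  have hq : q ∈ perp E p := hl.perp (by simp)
  have hr : r ∈ perp E p ∩ perp E q := ⟨hl.perp (by simp), hl.of_cons.perp (by simp)⟩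
  have hp := hl.mem p (by simp)
  have mem2 : ∀ {g : Y}, g ∈ Subgroup.centralizer ({p, q} : Set Y) → Commute g p ∧ Commute g q := fun hg =>
    ⟨(Subgroup.mem_centralizer_iff.1 hg p (by simp)).symm, (Subgroup.mem_centralizer_iff.1 hg q (by simp)).symm⟩
  have h := card_eq_ncard_mul_card (H := Subgroup.centralizer ({p, q} : Set Y))
    (K := Subgroup.centralizer ({p, q, r} : Set Y)) (Subgroup.centralizer_le (by simp [Set.subset_def]))
    (fun g => g * r * g⁻¹) (S := perp E p ∩ perp E q)
    (fun g hg => ⟨conj_mem_perp H.group (mem2 hg).1 hr.1, conj_mem_perp H.group (mem2 hg).2 hr.2⟩)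
    (fun s hs => by
      have hv : ∀ x, x ∈ perp E p ∩ perp E q → Function.Injective ![p, q, x] ∧ (∀ i, ![p, q, x] i ∈ E) ∧
          ∀ i j, Commute (![p, q, x] i) (![p, q, x] j) := by
        intro x hx
        refine ⟨fun i j hij => ?_, fun i => ?_, fun i j => ?_⟩
        · fin_cases i <;> fin_cases j <;> simp at hij ⊢ <;>
            first
              | exact hq.2.1 hij
              | exact hq.2.1 hij.symm
              | exact hx.1.2.1 hij
              | exact hx.1.2.1 hij.symm
              | exact hx.2.2.1 hij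
              | exact hx.2.2.1 hij.symm
        · fin_cases i <;> simp [hp, hq.1, hx.1.1]
        · fin_cases i <;> fin_cases j <;> simp <;>
            first
              | exact hq.2.2
              | exact hq.2.2.symm
              | exact hx.1.2.2
              | exact hx.1.2.2.symm
              | exact hx.2.2.2
              | exact hx.2.2.2.symm
      obtain ⟨v1, v2, v3⟩ := hv r hr
      obtain ⟨w1, w2, w3⟩ := hv s hs
      obtain ⟨g, hg⟩ := exists_conj_triple23 psu62Facts H.group H.type v1 w1 v2 w2 v3 w3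
      refine ⟨g, Subgroup.mem_centralizer_iff.2 ?_, hg 2⟩
      rintro x (rfl | rfl)
      · exact (mul_inv_eq_iff_eq_mul.1 (hg 0)).symm
      · exact (mul_inv_eq_iff_eq_mul.1 (hg 1)).symm)
    (fun g hg k hk => by
      rw [conj_eq_iff H, Subgroup.mem_centralizer_iff]
      refine ⟨fun hc x hx => ?_, fun hc => (hc r (by simp)).symm⟩
      have := mem2 (mul_mem (inv_mem hg) hk)
      rcases hx with rfl | rfl | rfl
      exacts [this.1.eq.symm, this.2.eq.symm, hc.eq.symm])
  rw [card_pair H hp hq, M23.ncard_perp_perp H hp hq] at h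
  omega

/-- The stabiliser of a pair. -/
theorem card_pair_stab_dvd {p q : Y} (hp : p ∈ E) (hq : q ∈ perp E p) :
    Nat.card (Subgroup.centralizer ({p * q} : Set Y)) ∣ 73574645760 := by
  classical
  set C := Subgroup.centralizer ({p * q} : Set Y) with hC
  set K := Subgroup.centralizer ({p, q} : Set Y) with hK
  have hKC : K ≤ C := fun g hg => Subgroup.mem_centralizer_singleton_iff.2
    ((show Commute g p from (Subgroup.mem_centralizer_iff.1 hg p (by simp)).symm).mul_right
      (show Commute g q from (Subgroup.mem_centralizer_iff.1 hg q (by simp)).symm)).eq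
  have hperm : ∀ g ∈ C, g * p * g⁻¹ ∈ ({p, q} : Set Y) := fun g hg => by
    rcases prod_pair_perm H hp hq.1 (Ne.symm hq.2.1) hq.2.2 (Subgroup.mem_centralizer_singleton_iff.1 hg) with
      ⟨e, -⟩ | ⟨e, -⟩ <;> simp [e]
  set S : Set Y := (fun g => g * p * g⁻¹) '' (C : Set Y)
  have h := card_eq_ncard_mul_card hKC (fun g => g * p * g⁻¹) (S := S) (fun g hg => ⟨g, hg, rfl⟩)
    (fun s hs => hs) (fun g hg k hk => by
      rw [conj_eq_iff H, hK, Subgroup.mem_centralizer_iff]
      refine ⟨fun hc x hx => ?_, fun hc => (hc p (by simp)).symm⟩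
      rcases hx with rfl | rfl
      · exact hc.eq.symm
      · have h1 : Commute (g⁻¹ * k) (p * x) := Subgroup.mem_centralizer_singleton_iff.1 (mul_mem (inv_mem hg) hk)
        have := hc.mul_right h1
        rw [← mul_assoc, FischerTypes.mul_self H.group.1 hp, one_mul] at this
        exact this.eq.symm)
  have hS : S.ncard ≤ 2 := by
    refine (Set.ncard_le_ncard (t := {p, q}) ?_ (Set.toFinite _)).trans ((Set.ncard_insert_le _ _).trans (by simp))
    rintro _ ⟨g, hg, rfl⟩
    exact hperm g hg
  rw [h, card_pair H hp hq]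
  have h0 : 0 < S.ncard := (Set.ncard_pos (Set.toFinite _)).2 ⟨_, 1, one_mem _, rfl⟩
  interval_cases S.ncard <;> norm_num

/-- Products of two members of a commuting set, times a fixed element, take many values. -/
theorem ncard_pair_products {M : Set Y} (hM : M ⊆ E) (hc : ∀ a ∈ M, ∀ b ∈ M, Commute a b) (z : Y) :
    M.ncard * (M.ncard - 1) ≤
      2 * {y | ∃ a ∈ M, ∃ b ∈ M, a ≠ b ∧ z * (a * b) = y}.ncard := by
  classical
  have : Fintype Y := Fintype.ofFinite Y
  set m := M.toFinset
  have h1 : (m.offDiag).card ≤ 2 * (m.offDiag.image fun w => z * (w.1 * w.2)).card := by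
    refine Finset.card_le_mul_card_image _ _ fun y hy => ?_
    obtain ⟨⟨a, b⟩, hab, rfl⟩ := Finset.mem_image.1 hy
    obtain ⟨ha, hb, hne⟩ := Finset.mem_offDiag.1 hab
    rw [Set.mem_toFinset] at ha hb
    refine (Finset.card_le_card (t := {(a, b), (b, a)}) fun w hw => ?_).trans Finset.card_le_two
    obtain ⟨hw1, hw2⟩ := Finset.mem_filter.1 hw
    obtain ⟨hc', he', hne'⟩ := Finset.mem_offDiag.1 hw1
    rw [Set.mem_toFinset] at hc' he'
    rcases pairU H _ (hM hc') _ (hM he') _ (hM ha) _ (hM hb) hne' (hc _ hc' _ he') hne (hc _ ha _ hb)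
      (mul_left_cancel hw2) with ⟨e1, e2⟩ | ⟨e1, e2⟩
    · simp [Prod.ext_iff, e1, e2]
    · simp [Prod.ext_iff, e1, e2]
  rw [Finset.offDiag_card] at h1
  have e : ((m.offDiag.image fun w => z * (w.1 * w.2)) : Finset Y) =
      ({y | ∃ a ∈ M, ∃ b ∈ M, a ≠ b ∧ z * (a * b) = y} : Set Y).toFinset := by
    ext y
    simp [m, and_assoc]
  rw [e, ← Set.ncard_eq_toFinset_card', ← Set.ncard_eq_toFinset_card'] at h1
  rw [Nat.mul_sub_one]
  exact h1

end CfsgLib.SporFischer.Big23
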