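import Cfsg.Agent.SporFischer.Connected

/-!
# A component containing the centralizers of commuting pairs of its members is everything

As in `Connected`, with the centralizers of the products of two commuting members given.  A member `x` outside
would give, for every such pair, a third member such that `x` commutes with the product of the three; this is
impossible inside a maximal commuting subset of 24 members.
-/

set_option autoImplicit false
set_option linter.unusedSectionVars false
set_option linter.style.haveILetI false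

namespace CfsgLib.SporFischer.M24Eng

open Cfsg CfsgLib.FischerTypes
open CompCore (Third)

variable {G : Type*} [Group G]

/-- A component with the centralizers of its members and of their commuting pairs. -/
structure CPair (D K : Set G) (H : Subgroup G) (d : G) (n : ℕ) : Prop where
  inv : ∀ x ∈ D, x * x = 1
  one : (1 : G) ∉ D
  closed : ∀ (g : G), ∀ x ∈ D, g * x * g⁻¹ ∈ D
  sub : K ⊆ D
  subH : K ⊆ H
  inter : ∀ x ∈ D, x ∈ H → x ∈ K
  nbrK : ∀ a ∈ K, nbr D a ⊆ K
  trans : ∀ a ∈ K, ∀ b ∈ K, ∃ h ∈ H, h * a * h⁻¹ = b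
  cent : ∀ a ∈ K, Subgroup.centralizer ({a} : Set G) ≤ H
  three : IsThreeTranspositionSet K
  pairU : PairUnique K
  classes : ∀ v ∈ H, v * v = 1 → v ≠ 1 → ∃ l, IsCList K l ∧ l.prod = v
  length_eq : ∀ l l' : List G, IsCList K l → IsCList K l' → l.length ≤ 2 → l'.length ≤ 2 →
    l.prod = l'.prod → l.length = l'.length
  mem_d : d ∈ K
  conjD : ∀ x ∈ D, IsConj d x
  pairH : ∀ a ∈ K, ∀ b ∈ K, a ≠ b → Commute a b → Subgroup.centralizer ({a * b} : Set G) ≤ H
  clique : ∀ M ⊆ K, (∀ a ∈ M, ∀ b ∈ M, Commute a b) → (∀ g ∈ K, (∀ a ∈ M, Commute g a) → g ∈ M) →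
    M.ncard = n
  num : Odd (n - 1)

namespace CPair

variable {D K : Set G} {H : Subgroup G} {d : G} {n : ℕ} (S : CPair D K H d n)
include S

theorem sq {x : G} (hx : x ∈ D) : x * x = 1 := S.inv x hx

theorem inv' {x : G} (hx : x ∈ D) : x⁻¹ = x := inv_eq_of_mul_eq_one_right (S.inv x hx)

/-- Conjugating a member into `K` can only be done inside `H`. -/
theorem control {a g : G} (ha : a ∈ K) (hga : g * a * g⁻¹ ∈ K) : g ∈ H := by
  obtain ⟨h, hh, he⟩ := S.trans _ hga a ha
  have hc : h * g ∈ Subgroup.centralizer ({a} : Set G) := by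
    rw [Subgroup.mem_centralizer_singleton_iff, ← mul_inv_eq_iff_eq_mul]
    calc h * g * a * (h * g)⁻¹ = h * (g * a * g⁻¹) * h⁻¹ := by group
      _ = a := he
  simpa using mul_mem (inv_mem hh) (S.cent a ha hc)

theorem mem_K_of_conj {a g : G} (ha : a ∈ K) (hg : g ∈ H) : g * a * g⁻¹ ∈ K :=
  S.inter _ (S.closed g a (S.sub ha)) (mul_mem (mul_mem hg (S.subH ha)) (inv_mem hg))

theorem mem_K_of_commute {a x : G} (ha : a ∈ K) (hx : x ∈ D) (hc : Commute a x) : x ∈ K := by
  by_cases e : x = a
  · exact e ▸ ha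
  · exact S.nbrK a ha ⟨hx, e, hc⟩

/-- A member commuting with a product of two commuting members commutes with both. -/
theorem commute_pair {a b e : G} (ha : a ∈ K) (hb : b ∈ K) (hne : a ≠ b) (hab : Commute a b) (he : e ∈ K)
    (hc : Commute e (a * b)) : Commute e a ∧ Commute e b := by
  have hfix : Commute e a → Commute e b := fun h => by
    have := h.mul_right hc
    rwa [← mul_assoc, S.sq (S.sub ha), one_mul] at this
  suffices h : Commute e a from ⟨h, hfix h⟩
  by_contra hea
  have he2 := S.sq (S.sub he)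
  have hei := S.inv' (S.sub he)
  have hbr := braid S.three he ha hea
  have ha' : e * a * e ∈ K := by simpa [hei] using S.mem_K_of_conj ha (S.subH he)
  have hb' : e * b * e ∈ K := by simpa [hei] using S.mem_K_of_conj hb (S.subH he)
  have hprod : e * a * e * (e * b * e) = a * b := by
    calc e * a * e * (e * b * e) = e * (a * b) * e := by
          simp only [mul_assoc]; rw [← mul_assoc e e, he2, one_mul]
      _ = a * b := by rw [hc.eq, mul_assoc, he2, mul_one]
  have hcc : Commute (e * a * e) (e * b * e) := by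
    simpa [hei] using (commute_conj_iff' e a b).2 hab
  have hne' : e * a * e ≠ e * b * e := fun h => hne (mul_left_cancel (mul_right_cancel h))
  rcases S.pairU _ ha' _ hb' _ ha _ hb hne' hcc hne hab hprod with ⟨e1, -⟩ | ⟨e1, -⟩
  · refine hea ?_
    show e * a = a * e
    calc e * a = e * a * e * e := by rw [mul_assoc _ e e, he2, mul_one]
      _ = a * e := by rw [e1]
  · -- `b = aea`, which does not commute with `a`
    refine hea ?_
    have h1 : Commute a (a * e * a) := by rw [← hbr, e1]; exact hab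
    have ha2 := S.sq (S.sub ha)
    have h2 := h1.eq
    rw [← mul_assoc, ← mul_assoc, ha2, one_mul, mul_assoc _ a a, ha2, mul_one] at h2
    exact h2

/-- A product of two commuting members is no member. -/
theorem pair_not_mem {a b : G} (ha : a ∈ K) (hb : b ∈ K) (hne : a ≠ b) (hab : Commute a b) : a * b ∉ K := by
  intro h
  have := S.length_eq [a * b] [a, b] ⟨by simp, by simp [h], by simp⟩
    ⟨by simp [hne], by simp [ha, hb], by simp [hab, hab.symm]⟩ (by simp) (by simp) (by simp)
  simp at this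

/-- The centralizer of a product of two commuting members. -/
theorem centralizer_pair {a b : G} (ha : a ∈ K) (hb : b ∈ K) (hne : a ≠ b) (hab : Commute a b) :
    Subgroup.centralizer ({a * b} : Set G) ≤ H := S.pairH a ha b hb hne hab

variable [Finite G]

/-- A member commuting with a product of two commuting members of `K` is in `K`. -/
theorem mem_K_of_commute_pair {a b x : G} (ha : a ∈ K) (hb : b ∈ K) (hne : a ≠ b) (hab : Commute a b)
    (hx : x ∈ D) (hc : Commute x (a * b)) : x ∈ K :=
  S.inter x hx (S.centralizer_pair ha hb hne hab (Subgroup.mem_centralizer_singleton_iff.2 hc.eq))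

/-- A member outside gives a unique third member for every pair. -/
theorem exists_third {x : G} (hx : x ∈ D) (hxK : x ∉ K) {a b : G} (ha : a ∈ K) (hb : b ∈ K) (hne : a ≠ b)
    (hab : Commute a b) : ∃ e, Third K x a b e ∧ (∀ e', Third K x a b e' → e' = e) ∧
      ∀ f, Commute f x → Commute f (a * b) → Commute f (a * b * e) := by
  set z := a * b with hz
  have hxx := S.sq hx
  have hzz : z * z = 1 := by
    rw [hz, hab.symm.mul_mul_mul_comm, S.sq (S.sub ha), S.sq (S.sub hb), one_mul]
  have hzH : z ∈ H := mul_mem (S.subH ha) (S.subH hb)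
  set p := z * x with hp
  have hxpx : x * p * x⁻¹ = p⁻¹ := by
    rw [hp, _root_.mul_inv_rev, inv_eq_of_mul_eq_one_right hxx, inv_eq_of_mul_eq_one_right hzz]
    simp only [mul_assoc, hxx, mul_one]
  have hrot : ∀ k : ℕ, p ^ k * x * (p ^ k)⁻¹ = p ^ (2 * k) * x := fun k => by
    have e : x * p ^ k * x⁻¹ = (p ^ k)⁻¹ := by rw [← conj_pow, hxpx, inv_pow]
    rw [mul_inv_eq_iff_eq_mul] at e
    have e' : p ^ k * x = x * (p ^ k)⁻¹ := by
      calc p ^ k * x = p ^ k * ((p ^ k)⁻¹ * x * (p ^ k)⁻¹) * 1 := by rw [← e]; group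
        _ = x * (p ^ k)⁻¹ := by group
    rw [mul_assoc, ← e', ← mul_assoc, two_mul, pow_add]
  rcases Nat.even_or_odd' (orderOf p) with ⟨m, hm | hm⟩
  swap
  · refine absurd (S.inter z ?_ hzH) (S.pair_not_mem ha hb hne hab)
    have e := hrot (m + 1)
    rw [show 2 * (m + 1) = orderOf p + 1 by omega, pow_succ p (orderOf p), pow_orderOf_eq_one, one_mul,
      show p * x = z by rw [hp, mul_assoc, hxx, mul_one]] at e
    exact e ▸ S.closed _ x hx
  set v := p ^ m with hv
  have hpm : 0 < orderOf p := orderOf_pos p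
  have hv1 : v ≠ 1 := fun h => by
    have := Nat.le_of_dvd (by omega) (orderOf_dvd_of_pow_eq_one h)
    omega
  have hv2 : v * v = 1 := by rw [hv, ← pow_add, ← two_mul, ← hm, pow_orderOf_eq_one]
  have hvp : Commute p v := Commute.self_pow p m
  have hvx : Commute x v := by
    show x * v = v * x
    have e : x * v * x⁻¹ = v⁻¹ := by rw [hv, ← conj_pow, hxpx, inv_pow]
    rw [inv_eq_of_mul_eq_one_right hv2] at e
    exact mul_inv_eq_iff_eq_mul.1 e
  have hvz : Commute z v := by
    have e := hvp.mul_left hvx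
    rwa [hp, mul_assoc, hxx, mul_one] at e
  have hvH : v ∈ H := S.centralizer_pair ha hb hne hab (Subgroup.mem_centralizer_singleton_iff.2 hvz.eq.symm)
  -- it is a product of neither one nor two members
  have hvK : v ∉ K := fun h => hxK (S.mem_K_of_commute h hx hvx.symm)
  have hv2' : ∀ c ∈ K, ∀ e ∈ K, c ≠ e → Commute c e → v ≠ c * e := fun c hc e he hce hcom h =>
    hxK (S.mem_K_of_commute_pair hc he hce hcom hx (h ▸ hvx))
  rcases Nat.even_or_odd' m with ⟨j, hj | hj⟩
  · -- then `v` is a product of two members next to a conjugate of `d`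
    exfalso
    obtain ⟨l, hl, hlv⟩ := S.classes v hvH hv2 hv1
    set y := v * x with hy
    have hyD : y ∈ D := by
      rw [hy, hv, hj, ← hrot j]; exact S.closed _ x hx
    obtain ⟨k, hk⟩ := isConj_iff.1 (S.conjD x hx).symm
    have hkk : k * y * k⁻¹ ∈ nbr D d := by
      refine ⟨S.closed k y hyD, fun e => hv1 ?_, ?_⟩
      · rw [← hk] at e
        exact mul_eq_right.1 (mul_left_cancel (mul_right_cancel e))
      · rw [← hk]; exact (commute_conj_iff' k x y).2 (hvx.mul_right (Commute.refl x))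
    have hkv : k * v * k⁻¹ = d * (k * y * k⁻¹) := by
      have : v = x * y := by rw [hy, ← mul_assoc, hvx.eq, mul_assoc, hxx, mul_one]
      rw [← hk, this]; group
    have hyK := S.nbrK d S.mem_d hkk
    -- a maximal commuting set around `l` goes to one in `K`
    obtain ⟨M, hlM, ⟨hMK, hMc⟩, hMax⟩ := Finite.exists_le_maximal
      (p := fun N : Set G => N ⊆ K ∧ ∀ a ∈ N, ∀ b ∈ N, Commute a b) (a := {c | c ∈ l})
      ⟨fun c hc => hl.mem c hc, fun c hc c' hc' => hl.comm c hc c' hc'⟩
    have hclq : ∀ N : Set G, N ⊆ K → (∀ a ∈ N, ∀ b ∈ N, Commute a b) → N.ncard = n →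
        ∀ g ∈ K, (∀ a ∈ N, Commute g a) → g ∈ N := by
      intro N hNK hNc hN g hg hgc
      obtain ⟨N', hle, ⟨hN'K, hN'c⟩, hN'max⟩ := Finite.exists_le_maximal
        (p := fun N : Set G => N ⊆ K ∧ ∀ a ∈ N, ∀ b ∈ N, Commute a b) (a := insert g N)
        ⟨Set.insert_subset hg hNK, by
          rintro a (rfl | ha) b (rfl | hb)
          exacts [Commute.refl _, hgc b hb, (hgc a ha).symm, hNc a ha b hb]⟩
      have hN' : N'.ncard = n := S.clique N' hN'K hN'c fun y hy hyc =>
        hN'max (y := insert y N') ⟨Set.insert_subset hy hN'K, by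
          rintro a (rfl | ha) b (rfl | hb)
          exacts [Commute.refl _, hyc b hb, (hyc a ha).symm, hN'c a ha b hb]⟩ (Set.subset_insert _ _)
          (Set.mem_insert _ _)
      rw [Set.eq_of_subset_of_ncard_le ((Set.subset_insert g N).trans hle) (hN'.trans hN.symm).le]
      exact hle (Set.mem_insert _ _)
    have hMn : M.ncard = n := S.clique M hMK hMc fun y hy hyc =>
      hMax (y := insert y M) ⟨Set.insert_subset hy hMK, by
        rintro a (rfl | ha) b (rfl | hb)
        exacts [Commute.refl _, hyc b hb, (hyc a ha).symm, hMc a ha b hb]⟩ (Set.subset_insert _ _)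
        (Set.mem_insert _ _)
    have hMv : ∀ c ∈ M, Commute c v := fun c hc =>
      hlv ▸ Commute.list_prod_right _ _ fun w hw => hMc c hc w (hlM hw)
    set M' : Set G := (fun c => k * c * k⁻¹) '' M with hM'
    have hM'v : ∀ c ∈ M', Commute c (d * (k * y * k⁻¹)) := by
      rintro _ ⟨c, hc, rfl⟩
      rw [← hkv]; exact (commute_conj_iff' k c v).2 (hMv c hc)
    have hM'K : M' ⊆ K := by
      rintro _ ⟨c, hc, rfl⟩
      exact S.mem_K_of_commute_pair S.mem_d hyK (Ne.symm hkk.2.1) hkk.2.2 (S.closed k c (S.sub (hMK hc)))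
        (hM'v _ ⟨c, hc, rfl⟩)
    have hM'c : ∀ a ∈ M', ∀ b ∈ M', Commute a b := by
      rintro _ ⟨c, hc, rfl⟩ _ ⟨c', hc', rfl⟩
      exact (commute_conj_iff' k c c').2 (hMc c hc c' hc')
    have hinj : Function.Injective fun c : G => k * c * k⁻¹ := fun c c' h => mul_left_cancel (mul_right_cancel h)
    have hM'n : M'.ncard = n := by rw [hM', Set.ncard_image_of_injective _ hinj, hMn]
    have hboth : ∀ c ∈ M', Commute d c ∧ Commute (k * y * k⁻¹) c := fun c hc =>
      ⟨(S.commute_pair S.mem_d hyK (Ne.symm hkk.2.1) hkk.2.2 (hM'K hc) (hM'v c hc)).1.symm,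
        (S.commute_pair S.mem_d hyK (Ne.symm hkk.2.1) hkk.2.2 (hM'K hc) (hM'v c hc)).2.symm⟩
    obtain ⟨c, hc, hcd⟩ := hclq M' hM'K hM'c hM'n d S.mem_d fun a ha => (hboth a ha).1
    obtain ⟨e, he, hey⟩ := hclq M' hM'K hM'c hM'n _ hyK fun a ha => (hboth a ha).2
    simp only at hcd hey
    have hce : c ≠ e := fun h => hkk.2.1 (by rw [← hey, ← h, hcd])
    refine hv2' c (hMK hc) e (hMK he) hce (hMc c hc e he) ?_
    rw [← hcd, ← hey] at hkv
    exact mul_left_cancel (mul_right_cancel (hkv.trans (show k * c * k⁻¹ * (k * e * k⁻¹) = k * (c * e) * k⁻¹ by group)))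
  · -- then `z v` is a member
    set e₀ := z * v with he₀
    have he₀D : e₀ ∈ D := by
      have e : e₀ = x * p ^ (2 * j) := by
        rw [he₀, hv, hj, pow_succ', ← mul_assoc, show z * p = x by rw [hp, ← mul_assoc, hzz, one_mul]]
      have e2 : x * p ^ (2 * j) = (p ^ j)⁻¹ * x * (p ^ j)⁻¹⁻¹ := by
        have h4 : x * p ^ j * x⁻¹ = (p ^ j)⁻¹ := by rw [← conj_pow, hxpx, inv_pow]
        rw [mul_inv_eq_iff_eq_mul] at h4
        rw [inv_inv, two_mul, pow_add, ← mul_assoc, h4]
      rw [e, e2]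
      exact S.closed _ x hx
    have he₀K : e₀ ∈ K := S.inter _ he₀D (mul_mem hzH hvH)
    have he₀z : Commute e₀ z := (Commute.refl z).mul_left hvz.symm
    obtain ⟨hea, heb⟩ := S.commute_pair ha hb hne hab he₀K he₀z
    have hve : a * b * e₀ = v := by rw [← hz, he₀, ← mul_assoc, hzz, one_mul]
    have hane : e₀ ≠ a := fun h => hvK (by
      rw [h, hab.eq, mul_assoc, S.sq (S.sub ha), mul_one] at hve
      exact hve ▸ hb)
    have hbne : e₀ ≠ b := fun h => hvK (by
      rw [h, mul_assoc, S.sq (S.sub hb), mul_one] at hve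
      exact hve ▸ ha)
    refine ⟨e₀, ⟨he₀K, hane, hbne, hea, heb, hve.symm ▸ hvx⟩, ?_, fun f hfx hfz => by
      rw [hve]; exact (hfz.mul_right hfx).pow_right m⟩
    rintro e ⟨heK, -, -, hea', heb', hxe⟩
    by_contra hee
    have hze : Commute (z * e) z := (Commute.refl z).mul_left ((hea'.mul_right heb'))
    have hev : Commute (z * e) v := (hze.mul_right hxe.symm).pow_right m
    have hee' : Commute e e₀ := by
      have h1 : Commute e v := by
        have := hvz.mul_left hev
        rwa [← mul_assoc, hzz, one_mul] at this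
      exact (hea'.mul_right heb').mul_right h1
    refine hxK (S.mem_K_of_commute_pair heK he₀K hee hee' hx ?_)
    have h1 : Commute x (z * e * v) := hxe.mul_right hvx
    rwa [show z * e * v = e * (z * v) by rw [← (hea'.mul_right heb').eq, mul_assoc]] at h1

/-- A member outside closes some maximal commuting set containing `d` under the third members. -/
theorem exists_closed_clique {x : G} (hx : x ∈ D) (hxK : x ∉ K) : ∃ (θ : G → G → G) (M : Finset G),
    (∀ a ∈ K, ∀ b ∈ K, a ≠ b → Commute a b → Third K x a b (θ a b)) ∧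
    (∀ a ∈ K, ∀ b ∈ K, a ≠ b → Commute a b → θ b (θ a b) = a) ∧
    (∀ a ∈ K, ∀ b ∈ K, a ≠ b → Commute a b → θ b a = θ a b) ∧
    (M : Set G) ⊆ K ∧ d ∈ (M : Set G) ∧ (∀ a ∈ (M : Set G), ∀ b ∈ (M : Set G), Commute a b) ∧
    M.card = n ∧ ∀ a ∈ (M : Set G), ∀ b ∈ (M : Set G), a ≠ b → θ a b ∈ (M : Set G) := by
  classical
  haveI := Fintype.ofFinite G
  choose! θ hθ huniq hcomm using fun a (ha : a ∈ K) b (hb : b ∈ K) (hne : a ≠ b) (hab : Commute a b) =>
    S.exists_third hx hxK ha hb hne hab
  have hsym : ∀ a ∈ K, ∀ b ∈ K, a ≠ b → Commute a b → θ b (θ a b) = a := by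
    intro a ha b hb hne hab
    obtain ⟨he, h1, h2, c1, c2, hc⟩ := hθ a ha b hb hne hab
    refine (huniq b hb _ he (Ne.symm h2) c2.symm a ⟨ha, hne, Ne.symm h1, hab, c1.symm, ?_⟩).symm
    rwa [show b * θ a b * a = a * b * θ a b by
      rw [mul_assoc a b]; exact (hab.mul_right c1.symm).eq.symm]
  have hswap : ∀ a ∈ K, ∀ b ∈ K, a ≠ b → Commute a b → θ b a = θ a b := by
    intro a ha b hb hne hab
    obtain ⟨he, h1, h2, c1, c2, hc⟩ := hθ a ha b hb hne hab
    exact (huniq b hb a ha (Ne.symm hne) hab.symm _ ⟨he, h2, h1, c2, c1, by rwa [hab.symm.eq]⟩).symm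
  -- commuting sets closed under the map at `d`
  let Good : Set G → Prop := fun M =>
    M ⊆ K ∧ d ∈ M ∧ (∀ a ∈ M, ∀ b ∈ M, Commute a b) ∧ ∀ a ∈ M, a ≠ d → θ d a ∈ M
  have hrule : ∀ M, Good M → ∀ a ∈ K, ∀ b ∈ K, a ≠ b → Commute a b → (∀ c ∈ M, Commute a c) →
      (∀ c ∈ M, Commute b c) → ∀ c ∈ M, c ≠ d → Commute (θ a b) c ∧ Commute (θ a b) d := by
    intro M hM a ha b hb hne hab hac hbc c hc hcd
    obtain ⟨he, -, -, c1, c2, hxe⟩ := hθ a ha b hb hne hab
    have hcK := hM.1 hc
    obtain ⟨hf, f1, f2, g1, g2, hxf⟩ := hθ d S.mem_d c hcK (Ne.symm hcd) (hM.2.2.1 d hM.2.1 c hc)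
    have hfM := hM.2.2.2 c hc hcd
    have hwab : Commute (d * c * θ d c) (a * b) := by
      refine Commute.mul_right ?_ ?_ <;> refine Commute.mul_left (Commute.mul_left ?_ ?_) ?_
      exacts [(hac d hM.2.1).symm, (hac c hc).symm, (hac _ hfM).symm,
        (hbc d hM.2.1).symm, (hbc c hc).symm, (hbc _ hfM).symm]
    have hv := hcomm a ha b hb hne hab _ hxf.symm hwab
    have hew : Commute (θ a b) (d * c * θ d c) := by
      have h1 := (hwab.symm.mul_left hv.symm)
      have hzz : a * b * (a * b * θ a b) = θ a b := by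
        rw [← mul_assoc, hab.symm.mul_mul_mul_comm, S.sq (S.sub ha), S.sq (S.sub hb), one_mul, one_mul]
      rwa [hzz] at h1
    have hcl : IsCList K [d, c, θ d c] :=
      ⟨by simp [Ne.symm hcd, Ne.symm f1, Ne.symm f2], by simp [S.mem_d, hcK, hf],
        by simp [hM.2.2.1 d hM.2.1 c hc, (hM.2.2.1 d hM.2.1 c hc).symm, g1, g2, g1.symm, g2.symm]⟩
    have := hcl.commute_each S.three le_rfl he (by simpa [mul_assoc] using hew)
    exact ⟨this c (by simp), this d (by simp)⟩
  let sets : Finset (Finset G) := Finset.univ.powerset.filter fun F : Finset G => Good (F : Set G)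
  have hne0 : sets.Nonempty := ⟨{d}, by
    simp only [sets, Good, Finset.mem_filter, Finset.mem_powerset, Finset.subset_univ, true_and,
      Finset.coe_singleton, Set.singleton_subset_iff, Set.mem_singleton_iff]
    exact ⟨S.mem_d, fun a ha b hb => by rw [ha, hb], fun a ha h => absurd ha h⟩⟩
  obtain ⟨M, hM, hmax⟩ := sets.exists_max_image Finset.card hne0
  have hG : Good ↑M := (Finset.mem_filter.1 hM).2
  obtain ⟨hMK, hdM, hMc, hMθ⟩ := hG
  have hG : Good ↑M := ⟨hMK, hdM, hMc, hMθ⟩
  have hmaxM : ∀ g ∈ K, (∀ c ∈ (M : Set G), Commute g c) → g ∈ (M : Set G) := by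
    intro g hg hgc
    by_contra hgM
    have hgd : g ≠ d := fun h => hgM (h ▸ hdM)
    have hdg : Commute d g := (hgc d hdM).symm
    obtain ⟨hf, f1, f2, g1, g2, -⟩ := hθ d S.mem_d g hg (Ne.symm hgd) hdg
    have hfc : ∀ c ∈ (M : Set G), Commute (θ d g) c := fun c hc => by
      by_cases hcd : c = d
      · exact hcd ▸ g1
      · exact (hrule _ hG d S.mem_d g hg (Ne.symm hgd) hdg (hMc d hdM) hgc c hc hcd).1
    have hback : θ d (θ d g) = g := by
      have := hsym g hg d S.mem_d hgd hdg.symm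
      rwa [hswap d S.mem_d g hg (Ne.symm hgd) hdg] at this
    have hfM : θ d g ∉ (M : Set G) := fun h => hgM (hback ▸ hMθ _ h f1)
    have hnew : insert g (insert (θ d g) M) ∈ sets := by
      simp only [sets, Finset.mem_filter, Finset.mem_powerset, Finset.subset_univ, true_and, Good]
      rw [Finset.coe_insert, Finset.coe_insert]
      refine ⟨Set.insert_subset hg (Set.insert_subset hf hMK), Or.inr (Or.inr hdM), ?_, ?_⟩
      · rintro a (rfl | rfl | ha) b (rfl | rfl | hb)
        exacts [Commute.refl _, g2.symm, hgc b hb, g2, Commute.refl _, hfc b hb, (hgc a ha).symm,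
          (hfc a ha).symm, hMc a ha b hb]
      · rintro a (rfl | rfl | ha) had
        exacts [Or.inr (Or.inl rfl), Or.inl hback, Or.inr (Or.inr (hMθ a ha had))]
    have := hmax _ hnew
    rw [Finset.card_insert_of_notMem (by simp [show g ∉ M from hgM, Ne.symm f2]),
      Finset.card_insert_of_notMem (show θ d g ∉ M from hfM)] at this
    omega
  have hn : M.card = n := by
    rw [← Set.ncard_coe_finset]; exact S.clique _ hMK hMc hmaxM
  have hcl : ∀ a ∈ (M : Set G), ∀ b ∈ (M : Set G), a ≠ b → θ a b ∈ (M : Set G) := by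
    intro a ha b hb hne
    obtain ⟨he, h1, h2, c1, c2, -⟩ := hθ a (hMK ha) b (hMK hb) hne (hMc a ha b hb)
    refine hmaxM _ he fun c hc => ?_
    have key := hrule _ hG a (hMK ha) b (hMK hb) hne (hMc a ha b hb) (hMc a ha) (hMc b hb)
    by_cases hcd : c = d
    · by_cases had : a = d
      · rw [hcd, ← had]; exact c1
      · rw [hcd]; exact (key a ha had).2
    · exact (key c hc hcd).1
  exact ⟨θ, M, hθ, hsym, hswap, hMK, hdM, hMc, hn, hcl⟩

/-- No member lies outside. -/
theorem subset_K : D ⊆ K := by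
  classical
  haveI := Fintype.ofFinite G
  intro x hx
  by_contra hxK
  obtain ⟨θ, M, hθ, hsym, hswap, hMK, hdM, hMc, hn, hcl⟩ := S.exists_closed_clique hx hxK
  have hMθ : ∀ a ∈ (M : Set G), a ≠ d → θ d a ∈ (M : Set G) := fun a ha had => hcl d hdM a ha (Ne.symm had)
  have hodd := S.num
  let α := {a // a ∈ M.erase d}
  have hmem : ∀ a : α, (a : G) ∈ (M : Set G) ∧ (a : G) ≠ d ∧ (a : G) ∈ K ∧ Commute d a := fun a =>
    ⟨(Finset.mem_erase.1 a.2).2, (Finset.mem_erase.1 a.2).1, hMK (Finset.mem_erase.1 a.2).2,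
      hMc d hdM _ (Finset.mem_erase.1 a.2).2⟩
  let f : α → α := fun a => ⟨θ d a, Finset.mem_erase.2 ⟨(hθ d S.mem_d a (hmem a).2.2.1 (Ne.symm (hmem a).2.1)
    (hmem a).2.2.2).2.1, hMθ _ (hmem a).1 (hmem a).2.1⟩⟩
  have hff : Function.Involutive f := fun a => Subtype.ext (by
    obtain ⟨-, hd', hK', hc'⟩ := hmem a
    have := hsym a hK' d S.mem_d hd' hc'.symm
    rwa [hswap d S.mem_d a hK' (Ne.symm hd') hc'] at this)
  let σ : Equiv.Perm α := hff.toPerm
  have hσ : σ ^ 2 ^ 1 = 1 := Equiv.ext fun a => by simp [σ, pow_two, hff a]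
  haveI : Fact (Nat.Prime 2) := ⟨Nat.prime_two⟩
  have h0 : σ.supportᶜ = ∅ := by
    ext a
    simp only [Finset.mem_compl, Equiv.Perm.mem_support, not_not, Finset.notMem_empty, iff_false]
    intro e
    obtain ⟨-, hd', hK', hc'⟩ := hmem a
    exact (hθ d S.mem_d a hK' (Ne.symm hd') hc').2.2.1 (congrArg Subtype.val e)
  have h1 := Equiv.Perm.card_compl_support_modEq hσ
  rw [h0, Finset.card_empty, Fintype.card_coe, Finset.card_erase_of_mem hdM, hn] at h1
  exact Nat.not_even_iff_odd.2 hodd (even_iff_two_dvd.2 (Nat.modEq_zero_iff_dvd.1 h1.symm))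

/-- The component is the whole class and `H` the whole group. -/
theorem eq_class : D = K := Set.Subset.antisymm S.subset_K S.sub

theorem eq_top : H = ⊤ :=
  eq_top_iff.2 fun g _ => S.control S.mem_d (S.subset_K (S.closed g d (S.sub S.mem_d)))

end CPair

end CfsgLib.SporFischer.M24Eng
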