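import Cfsg.Agent.SporFischer.Component

/-!
# The component of a member, the centralizer not being perfect

As in `Component`, with the generation of the centralizer by the neighbours given.
-/

set_option autoImplicit false
set_option linter.unusedSectionVars false

namespace CfsgLib.SporFischer.M24Eng

open Cfsg CfsgLib.FischerTypes

variable {G : Type*} [Group G] {d : G}

/-- What is used about an involution and the conjugates commuting with it. -/
structure Loc (d : G) : Prop where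
  sq : d * d = 1
  ne : d ≠ 1
  gen : Subgroup.centralizer ({d} : Set G) = Subgroup.closure (nbr (conjugatesOf d) d)
  braid : ∀ x ∈ nbr (conjugatesOf d) d, ∀ y ∈ nbr (conjugatesOf d) d, ¬ Commute x y → x * y * x = y * x * y
  hconj : ∀ x ∈ nbr (conjugatesOf d) d, ∀ y ∈ nbr (conjugatesOf d) d,
    ∃ c ∈ Subgroup.centralizer ({d} : Set G), c * x * c⁻¹ = y
  two : ∀ b ∈ nbr (conjugatesOf d) d, ∃ c ∈ nbr (conjugatesOf d) d, c ≠ b ∧ Commute b c
  noncomm : ∃ x ∈ nbr (conjugatesOf d) d, ∃ y ∈ nbr (conjugatesOf d) d, ¬ Commute x y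
  step : ∀ v y, v ∈ Geom22.ball (conjugatesOf d) d → y ∈ nbr (conjugatesOf d) v →
    y ∈ Geom22.ball (conjugatesOf d) d

local notation "𝐃" => conjugatesOf d

namespace Loc

variable (L : Loc d)
include L

theorem inv {x : G} (hx : x ∈ 𝐃) : x * x = 1 := by
  obtain ⟨g, rfl⟩ := isConj_iff.1 hx
  rw [show g * d * g⁻¹ * (g * d * g⁻¹) = g * (d * d) * g⁻¹ by group, L.sq, mul_one, mul_inv_cancel]

theorem one_not_mem : (1 : G) ∉ 𝐃 := fun h => by
  obtain ⟨g, hg⟩ := isConj_iff.1 h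
  rw [mul_inv_eq_one, mul_eq_left] at hg
  exact L.ne hg

theorem closed (g : G) {x : G} (hx : x ∈ 𝐃) : g * x * g⁻¹ ∈ 𝐃 :=
  IsConj.trans hx (isConj_iff.2 ⟨g, rfl⟩)

theorem mem_self : d ∈ 𝐃 := IsConj.refl d

theorem nbr_conj (g : G) {a x : G} (hx : x ∈ nbr 𝐃 a) : g * x * g⁻¹ ∈ nbr 𝐃 (g * a * g⁻¹) :=
  ⟨L.closed g hx.1, fun h => hx.2.1 (mul_left_cancel (mul_right_cancel h)), (commute_conj_iff' g a x).2 hx.2.2⟩

theorem nbr_conj_d {a x : G} {g : G} (hg : g * a * g⁻¹ = d) (hx : x ∈ nbr 𝐃 a) :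
    g * x * g⁻¹ ∈ nbr 𝐃 d := hg ▸ L.nbr_conj g hx

theorem nbr_of_conj_d {a x : G} {g : G} (hg : g * a * g⁻¹ = d) (hx : x ∈ nbr 𝐃 d) :
    g⁻¹ * x * g ∈ nbr 𝐃 a := by
  have h := L.nbr_conj g⁻¹ hx
  rwa [← hg, inv_inv, show g⁻¹ * (g * a * g⁻¹) * g = a by group, hg] at h

omit L in
theorem exists_to_self {a : G} (ha : a ∈ 𝐃) : ∃ g : G, g * a * g⁻¹ = d :=
  isConj_iff.1 ha.symm

theorem braid_at {a : G} (ha : a ∈ 𝐃) {x y : G} (hx : x ∈ nbr 𝐃 a) (hy : y ∈ nbr 𝐃 a) (hxy : ¬ Commute x y) :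
    x * y * x = y * x * y := by
  obtain ⟨g, hg⟩ := exists_to_self ha
  have h := L.braid _ (L.nbr_conj_d hg hx) _ (L.nbr_conj_d hg hy) fun h => hxy ((commute_conj_iff' g x y).1 h)
  rw [show g * x * g⁻¹ * (g * y * g⁻¹) * (g * x * g⁻¹) = g * (x * y * x) * g⁻¹ by group,
    show g * y * g⁻¹ * (g * x * g⁻¹) * (g * y * g⁻¹) = g * (y * x * y) * g⁻¹ by group] at h
  exact mul_left_cancel (mul_right_cancel h)

/-! ### The component -/

theorem mem_d : d ∈ compSet d := ⟨mem_self L, Or.inl (Commute.refl d)⟩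

theorem nbr_sub {v y : G} (hv : v ∈ compSet d) (hy : y ∈ nbr 𝐃 v) : y ∈ compSet d := L.step v y hv hy

theorem cent {a : G} (ha : a ∈ compSet d) : Subgroup.centralizer ({a} : Set G) ≤ compGroup d := by
  obtain ⟨g, hg⟩ := exists_to_self ha.1
  intro z hz
  have h1 : g * z * g⁻¹ ∈ Subgroup.closure (nbr 𝐃 d) := by
    rw [← L.gen, Subgroup.mem_centralizer_singleton_iff]
    have := (commute_conj_iff' g z a).2 (Subgroup.mem_centralizer_singleton_iff.1 hz)
    rwa [hg] at this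
  have key : ∀ w ∈ Subgroup.closure (nbr 𝐃 d), g⁻¹ * w * g ∈ compGroup d := by
    intro w hw
    induction hw using Subgroup.closure_induction with
    | mem u hu => exact Subgroup.subset_closure (L.nbr_sub ha (L.nbr_of_conj_d hg hu))
    | one => simp
    | mul u v _ _ iu iv =>
      rw [show g⁻¹ * (u * v) * g = g⁻¹ * u * g * (g⁻¹ * v * g) by group]
      exact mul_mem iu iv
    | inv u _ iu =>
      rw [show g⁻¹ * u⁻¹ * g = (g⁻¹ * u * g)⁻¹ by group]
      exact inv_mem iu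
  have := key _ h1
  rwa [show g⁻¹ * (g * z * g⁻¹) * g = z by group] at this

/-- Two members have distance at most two. -/
theorem mem_ball_of_mem {a b : G} (ha : a ∈ compSet d) (hb : b ∈ compSet d) : b ∈ Geom22.ball 𝐃 a := by
  obtain ⟨g, hg⟩ := exists_to_self ha.1
  have step : ∀ v y, v ∈ Geom22.ball 𝐃 a → y ∈ nbr 𝐃 v → y ∈ Geom22.ball 𝐃 a := by
    intro v y hv hy
    have hv' : g * v * g⁻¹ ∈ Geom22.ball 𝐃 d := by
      refine ⟨L.closed g hv.1, ?_⟩
      rcases hv.2 with h | ⟨z, hz1, hz2⟩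
      · left; have := (commute_conj_iff' g a v).2 h; rwa [hg] at this
      · exact Or.inr ⟨g * z * g⁻¹, L.nbr_conj_d hg hz1, L.nbr_conj g hz2⟩
    obtain ⟨h1, h2⟩ := L.step _ _ hv' (L.nbr_conj g hy)
    refine ⟨hy.1, ?_⟩
    rcases h2 with h | ⟨z, hz1, hz2⟩
    · left; rw [← hg] at h; exact (commute_conj_iff' g a y).1 h
    · refine Or.inr ⟨g⁻¹ * z * g, L.nbr_of_conj_d hg hz1, ?_⟩
      have := L.nbr_conj g⁻¹ hz2
      rwa [inv_inv, show g⁻¹ * (g * y * g⁻¹) * g = y by group] at this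
  have hself : a ∈ Geom22.ball 𝐃 a := ⟨ha.1, Or.inl (Commute.refl a)⟩
  have go : ∀ v y, v ∈ Geom22.ball 𝐃 a → y ∈ 𝐃 → Commute v y → y ∈ Geom22.ball 𝐃 a := fun v y hv hy hc => by
    by_cases e : y = v
    · exact e ▸ hv
    · exact step v y hv ⟨hy, e, hc⟩
  have hd : d ∈ Geom22.ball 𝐃 a := by
    rcases ha.2 with h | ⟨z, hz1, hz2⟩
    · exact go a d hself (mem_self L) h.symm
    · exact step z d (step a z hself hz2) (nbr_symm (mem_self L) hz1)
  rcases hb.2 with h | ⟨z, hz1, hz2⟩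
  · exact go d b hd hb.1 h
  · exact step z b (step d z hd hz1) (nbr_symm hb.1 hz2)

theorem three : IsThreeTranspositionSet (compSet d) := by
  refine ⟨fun x hx => orderOf_eq_prime (by rw [pow_two, L.inv hx.1]) fun h => L.one_not_mem (h ▸ hx.1),
    fun a ha b hb => ?_⟩
  have ha2 := L.inv ha.1
  have hb2 := L.inv hb.1
  by_cases hc : Commute a b
  · left; rw [hc.mul_pow, pow_two, pow_two, ha2, hb2, one_mul]
  right
  obtain ⟨-, h | ⟨z, hz1, hz2⟩⟩ := L.mem_ball_of_mem ha hb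
  · exact absurd h hc
  have hbr := L.braid_at hz1.1 (nbr_symm ha.1 hz1) (nbr_symm hb.1 hz2) hc
  rw [pow_succ, pow_two]
  calc a * b * (a * b) * (a * b) = a * b * a * (b * a * b) := by group
    _ = a * b * a * (a * b * a) := by rw [hbr]
    _ = a * (b * (a * a) * b) * a := by group
    _ = 1 := by rw [ha2, mul_one, hb2, mul_one, ha2]

theorem sub_group : compSet d ⊆ compGroup d := Subgroup.subset_closure

theorem conj_adj {u v : G} (hu : u ∈ compSet d) (hv : v ∈ nbr 𝐃 u) : ∃ h ∈ compGroup d, h * u * h⁻¹ = v := by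
  obtain ⟨g, hg⟩ := exists_to_self hu.1
  obtain ⟨w₀, hw₀, hne, hvw⟩ := L.two _ (L.nbr_conj_d hg hv)
  set w := g⁻¹ * w₀ * g with hw
  have hwu : w ∈ nbr 𝐃 u := L.nbr_of_conj_d hg hw₀
  have hwv : w ∈ nbr 𝐃 v := by
    refine ⟨hwu.1, fun e => hne ?_, ?_⟩
    · rw [← e, hw]; group
    · have := (commute_conj_iff' g⁻¹ (g * v * g⁻¹) w₀).2 hvw
      rwa [inv_inv, show g⁻¹ * (g * v * g⁻¹) * g = v by group] at this
  have hvK := L.nbr_sub hu hv
  -- conjugacy within one neighbourhood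
  have key : ∀ a, a ∈ compSet d → ∀ x ∈ nbr 𝐃 a, ∀ y ∈ nbr 𝐃 a, ∃ h ∈ compGroup d, h * x * h⁻¹ = y := by
    intro a ha x hx y hy
    obtain ⟨k, hk⟩ := exists_to_self ha.1
    obtain ⟨c, hc, hcx⟩ := L.hconj _ (L.nbr_conj_d hk hx) _ (L.nbr_conj_d hk hy)
    refine ⟨k⁻¹ * c * k, L.cent ha (Subgroup.mem_centralizer_singleton_iff.2 ?_), ?_⟩
    · have := (commute_conj_iff' k⁻¹ c (k * a * k⁻¹)).2 (hk.symm ▸ Subgroup.mem_centralizer_singleton_iff.1 hc)
      rwa [inv_inv, show k⁻¹ * (k * a * k⁻¹) * k = a by group] at this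
    · calc k⁻¹ * c * k * x * (k⁻¹ * c * k)⁻¹ = k⁻¹ * (c * (k * x * k⁻¹) * c⁻¹) * k := by group
        _ = y := by rw [hcx]; group
  obtain ⟨h₁, m₁, e₁⟩ := key v hvK u (nbr_symm hu.1 hv) w hwv
  obtain ⟨h₂, m₂, e₂⟩ := key u hu w hwu v hv
  exact ⟨h₂ * h₁, mul_mem m₂ m₁, by rw [← e₂, ← e₁]; group⟩

theorem trans {a b : G} (ha : a ∈ compSet d) (hb : b ∈ compSet d) :
    ∃ h ∈ compGroup d, h * a * h⁻¹ = b := by
  obtain ⟨-, h | ⟨z, hz1, hz2⟩⟩ := L.mem_ball_of_mem ha hb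
  · by_cases e : b = a
    · exact ⟨1, one_mem _, by simp [e]⟩
    · exact L.conj_adj ha ⟨hb.1, e, h⟩
  · have hz := L.nbr_sub ha hz1
    obtain ⟨h₁, m₁, e₁⟩ := L.conj_adj ha hz1
    obtain ⟨h₂, m₂, e₂⟩ := L.conj_adj hz (nbr_symm hb.1 hz2)
    exact ⟨h₂ * h₁, mul_mem m₂ m₁, by rw [← e₂, ← e₁]; group⟩

theorem conj_mem {g : G} (hg : g ∈ compGroup d) {a : G} (ha : a ∈ compSet d) :
    g * a * g⁻¹ ∈ compSet d := by
  suffices h : ∀ b ∈ compSet d, g * b * g⁻¹ ∈ compSet d ∧ g⁻¹ * b * g ∈ compSet d from (h a ha).1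
  clear ha a
  induction hg using Subgroup.closure_induction with
  | mem u hu =>
    intro b hb
    have hui : u⁻¹ = u := inv_eq_of_mul_eq_one_right (L.inv hu.1)
    have h : u * b * u⁻¹ ∈ compSet d := by
      by_cases hc : Commute u b
      · rwa [hc.eq, mul_inv_cancel_right]
      obtain ⟨-, h | ⟨z, hz1, hz2⟩⟩ := L.mem_ball_of_mem hu hb
      · exact absurd h hc
      have h1 := L.nbr_conj u (nbr_symm hb.1 hz2)
      rw [show u * z * u⁻¹ = z by rw [hz1.2.2.eq, mul_inv_cancel_right]] at h1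
      exact L.nbr_sub (L.nbr_sub hu hz1) h1
    refine ⟨h, ?_⟩
    rw [hui] at h ⊢
    exact h
  | one => intro b hb; simpa using hb
  | mul u w _ _ iu iw =>
    intro b hb
    refine ⟨?_, ?_⟩
    · rw [show u * w * b * (u * w)⁻¹ = u * (w * b * w⁻¹) * u⁻¹ by group]
      exact (iu _ (iw b hb).1).1
    · rw [show (u * w)⁻¹ * b * (u * w) = w⁻¹ * (u⁻¹ * b * u) * w by group]
      exact (iw _ (iu b hb).2).2
  | inv u _ iu =>
    intro b hb
    refine ⟨?_, ?_⟩
    · rw [inv_inv]; exact (iu b hb).2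
    · rw [inv_inv]; exact (iu b hb).1

theorem group : IsThreeTranspositionGroup (compClass d) := by
  refine ⟨⟨fun x hx => ?_, fun a ha b hb => ?_⟩, fun g x hx => L.conj_mem g.2 hx,
    Subgroup.closure_closure_coe_preimage⟩
  · rw [← Subgroup.orderOf_coe]; exact L.three.1 _ hx
  · rcases L.three.2 _ ha _ hb with h | h
    · exact Or.inl (Subtype.ext (by simpa using h))
    · exact Or.inr (Subtype.ext (by simpa using h))

theorem exists_noncommuting : ∃ y ∈ compSet d, ¬ Commute d y := by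
  obtain ⟨x, hx, y, hy, hxy⟩ := L.noncomm
  obtain ⟨g, hg, hgx⟩ := L.trans (L.nbr_sub L.mem_d hx) L.mem_d
  refine ⟨g * y * g⁻¹, L.conj_mem hg (L.nbr_sub L.mem_d hy), fun h => hxy ?_⟩
  rw [← hgx] at h
  exact (commute_conj_iff' g x y).1 h

end Loc

end CfsgLib.SporFischer.M24Eng
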