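import Cfsg.Agent.FischerThm.Defs

/-!
# Isomorphisms from matchings, and moving the hypotheses of type M(23)

Two sets of involutions closed under their own conjugation with a conjugation-preserving bijection generate the
same group modulo centres.
-/

set_option autoImplicit false

universe u v

namespace CfsgLib.SporFischer

open Cfsg CfsgLib.FischerTypes CfsgLib.FischerThm

/-- The centre of a generated group. -/
theorem mem_center_closure_conj {C : Type*} [Group C] {U : Set C} {g : ↥(Subgroup.closure U)} :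
    g ∈ Subgroup.center ↥(Subgroup.closure U) ↔ ∀ x ∈ U, (g : C) * x * (g : C)⁻¹ = x := by
  rw [Subgroup.mem_center_iff]
  constructor
  · intro h x hx
    exact mul_inv_eq_iff_eq_mul.2 (congrArg Subtype.val (h ⟨x, Subgroup.subset_closure hx⟩)).symm
  · intro h k
    have hle : Subgroup.closure U ≤ Subgroup.centralizer ({(g : C)} : Set C) :=
      (Subgroup.closure_le _).2 fun x hx =>
        Subgroup.mem_centralizer_singleton_iff.2 (mul_inv_eq_iff_eq_mul.1 (h x hx)).symm
    exact Subtype.ext (Subgroup.mem_centralizer_singleton_iff.1 (hle k.2))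

/-- A bijection preserving conjugation gives an isomorphism of the generated groups modulo their centres. -/
theorem dIso_of_matching {A : Type u} {B : Type v} [Group A] [Group B] {S : Set A} {T : Set B} (β : A → B)
    (hS2 : ∀ x ∈ S, x * x = 1) (hScl : ∀ x ∈ S, ∀ y ∈ S, x * y * x ∈ S)
    (hmaps : ∀ x ∈ S, β x ∈ T) (hinj : ∀ x ∈ S, ∀ y ∈ S, β x = β y → x = y)
    (hsurj : ∀ z ∈ T, ∃ x ∈ S, β x = z) (hT2 : ∀ z ∈ T, z * z = 1)
    (hconj : ∀ x ∈ S, ∀ y ∈ S, β (x * y * x) = β x * β y * β x) : DIso (sImg S) (sImg T) := by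
  set Γ := Subgroup.closure {p : A × B | p.1 ∈ S ∧ β p.1 = p.2} with hΓ
  have hgen : ∀ x ∈ S, (x, β x) ∈ Γ := fun x hx => Subgroup.subset_closure ⟨hx, rfl⟩
  -- conjugation corresponds
  have hact : ∀ p ∈ Γ, ∀ x ∈ S, p.1 * x * p.1⁻¹ ∈ S ∧ β (p.1 * x * p.1⁻¹) = p.2 * β x * p.2⁻¹ := by
    intro p hp
    induction hp using Subgroup.closure_induction'' with
    | one => intro x hx; simpa using hx
    | mem q hq =>
      intro x hx
      obtain ⟨hq1, hq2⟩ := hq
      rw [inv_eq_of_mul_eq_one_right (hS2 _ hq1), ← hq2, inv_eq_of_mul_eq_one_right (hT2 _ (hmaps _ hq1))]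
      exact ⟨hScl _ hq1 x hx, hconj _ hq1 x hx⟩
    | inv_mem q hq =>
      intro x hx
      obtain ⟨hq1, hq2⟩ := hq
      rw [Prod.fst_inv, Prod.snd_inv, inv_inv, inv_inv, inv_eq_of_mul_eq_one_right (hS2 _ hq1), ← hq2,
        inv_eq_of_mul_eq_one_right (hT2 _ (hmaps _ hq1))]
      exact ⟨hScl _ hq1 x hx, hconj _ hq1 x hx⟩
    | mul p q _ _ ihp ihq =>
      intro x hx
      obtain ⟨h1, e1⟩ := ihq x hx
      obtain ⟨h2, e2⟩ := ihp _ h1
      have e : (p * q).1 * x * (p * q).1⁻¹ = p.1 * (q.1 * x * q.1⁻¹) * p.1⁻¹ := by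
        rw [Prod.fst_mul]; group
      rw [e]
      refine ⟨h2, ?_⟩
      rw [e2, e1, Prod.snd_mul]; group
  have hfst : ∀ p ∈ Γ, p.1 ∈ Subgroup.closure S := by
    intro p hp
    induction hp using Subgroup.closure_induction with
    | mem q hq => exact Subgroup.subset_closure hq.1
    | one => exact one_mem _
    | mul p q _ _ ihp ihq => exact mul_mem ihp ihq
    | inv p _ ih => exact inv_mem ih
  have hsnd : ∀ p ∈ Γ, p.2 ∈ Subgroup.closure T := by
    intro p hp
    induction hp using Subgroup.closure_induction with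
    | mem q hq => exact Subgroup.subset_closure (hq.2 ▸ hmaps _ hq.1)
    | one => exact one_mem _
    | mul p q _ _ ihp ihq => exact mul_mem ihp ihq
    | inv p _ ih => exact inv_mem ih
  let f1 : ↥Γ →* SQuot S := (QuotientGroup.mk' _).comp
    (((MonoidHom.fst A B).comp Γ.subtype).codRestrict (Subgroup.closure S) fun p => hfst p p.2)
  let f2 : ↥Γ →* SQuot T := (QuotientGroup.mk' _).comp
    (((MonoidHom.snd A B).comp Γ.subtype).codRestrict (Subgroup.closure T) fun p => hsnd p p.2)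
  have surj1 : Function.Surjective f1 := by
    intro q
    obtain ⟨⟨g, hg⟩, rfl⟩ := QuotientGroup.mk_surjective q
    suffices ∃ p ∈ Γ, p.1 = g by
      obtain ⟨p, hp, rfl⟩ := this
      exact ⟨⟨p, hp⟩, rfl⟩
    induction hg using Subgroup.closure_induction with
    | mem x hx => exact ⟨_, hgen x hx, rfl⟩
    | one => exact ⟨1, one_mem _, rfl⟩
    | mul a b _ _ iha ihb =>
      obtain ⟨p, hp, rfl⟩ := iha
      obtain ⟨r, hr, rfl⟩ := ihb
      exact ⟨p * r, mul_mem hp hr, rfl⟩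
    | inv a _ iha =>
      obtain ⟨p, hp, rfl⟩ := iha
      exact ⟨p⁻¹, inv_mem hp, rfl⟩
  have surj2 : Function.Surjective f2 := by
    intro q
    obtain ⟨⟨g, hg⟩, rfl⟩ := QuotientGroup.mk_surjective q
    suffices ∃ p ∈ Γ, p.2 = g by
      obtain ⟨p, hp, rfl⟩ := this
      exact ⟨⟨p, hp⟩, rfl⟩
    induction hg using Subgroup.closure_induction with
    | mem x hx =>
      obtain ⟨y, hy, rfl⟩ := hsurj x hx
      exact ⟨_, hgen y hy, rfl⟩
    | one => exact ⟨1, one_mem _, rfl⟩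
    | mul a b _ _ iha ihb =>
      obtain ⟨p, hp, rfl⟩ := iha
      obtain ⟨r, hr, rfl⟩ := ihb
      exact ⟨p * r, mul_mem hp hr, rfl⟩
    | inv a _ iha =>
      obtain ⟨p, hp, rfl⟩ := iha
      exact ⟨p⁻¹, inv_mem hp, rfl⟩
  have hker : f1.ker = f2.ker := by
    ext p
    simp only [f1, f2, MonoidHom.mem_ker, MonoidHom.comp_apply, QuotientGroup.mk'_apply,
      QuotientGroup.eq_one_iff]
    rw [mem_center_closure_conj, mem_center_closure_conj]
    constructor
    · intro h z hz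
      obtain ⟨x, hx, rfl⟩ := hsurj z hz
      exact ((hact p p.2 x hx).2).symm.trans (congrArg β (h x hx))
    · intro h x hx
      obtain ⟨h1, e1⟩ := hact p p.2 x hx
      exact hinj _ h1 x hx (e1.trans (h _ (hmaps x hx)))
  let e1 := QuotientGroup.quotientKerEquivOfSurjective f1 surj1
  let e2 := QuotientGroup.quotientKerEquivOfSurjective f2 surj2
  let e := e1.symm.trans ((QuotientGroup.quotientMulEquivOfEq hker).trans e2)
  have he : ∀ p : ↥Γ, e (f1 p) = f2 p := by
    intro p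
    have : e1.symm (f1 p) = QuotientGroup.mk p := e1.symm_apply_eq.2 rfl
    simp only [e, MulEquiv.trans_apply, this]
    rfl
  refine ⟨e, Set.Subset.antisymm ?_ ?_⟩
  · rintro _ ⟨_, ⟨⟨x, hxc⟩, hx, rfl⟩, rfl⟩
    refine ⟨⟨β x, Subgroup.subset_closure (hmaps x hx)⟩, hmaps x hx, ?_⟩
    exact (he ⟨_, hgen x hx⟩).symm
  · rintro _ ⟨⟨z, hzc⟩, hz, rfl⟩
    obtain ⟨x, hx, rfl⟩ := hsurj z hz
    exact ⟨_, ⟨⟨x, Subgroup.subset_closure hx⟩, hx, rfl⟩, he ⟨_, hgen x hx⟩⟩

/-- A class of 3-transpositions moved by an isomorphism. -/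
theorem isThreeTranspositionGroup_of_equiv {A : Type u} {B : Type v} [Group A] [Group B] (ψ : A ≃* B)
    {S : Set A} {T : Set B} (hST : ∀ x, x ∈ S ↔ ψ x ∈ T) (h : IsThreeTranspositionGroup S) :
    IsThreeTranspositionGroup T := by
  have hT : ∀ {y}, y ∈ T ↔ ψ.symm y ∈ S := fun {y} => by rw [hST, ψ.apply_symm_apply]
  refine ⟨⟨fun y hy => ?_, fun y hy z hz => ?_⟩, fun g y hy => hT.2 ?_, ?_⟩
  · rw [← ψ.apply_symm_apply y, MulEquiv.orderOf_eq]
    exact h.1.1 _ (hT.1 hy)
  · exact (h.1.2 _ (hT.1 hy) _ (hT.1 hz)).imp (fun e => ψ.symm.injective (by simpa using e))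
      fun e => ψ.symm.injective (by simpa using e)
  · simpa using h.2.1 (ψ.symm g) _ (hT.1 hy)
  · have := MonoidHom.map_closure ψ.toMonoidHom S
    rw [h.2.2, Subgroup.map_top_of_surjective _ ψ.surjective] at this
    rw [this]
    congr 1
    ext y
    exact ⟨fun hy => ⟨ψ.symm y, hT.1 hy, ψ.apply_symm_apply y⟩, fun ⟨x, hx, e⟩ => e ▸ (hST x).1 hx⟩

/-- Primitivity moved by an isomorphism. -/
theorem isPrimitiveUnderConj_of_equiv {A : Type u} {B : Type v} [Group A] [Group B] (ψ : A ≃* B)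
    {S : Set A} {T : Set B} (hST : ∀ x, x ∈ S ↔ ψ x ∈ T) (h : IsPrimitiveUnderConj S) :
    IsPrimitiveUnderConj T := by
  have hT : ∀ {y}, y ∈ T ↔ ψ.symm y ∈ S := fun {y} => by rw [hST, ψ.apply_symm_apply]
  refine ⟨fun a ha b hb => ?_, ?_, fun U hU hblock => ?_⟩
  · obtain ⟨g, hg⟩ := h.1 _ (hT.1 ha) _ (hT.1 hb)
    exact ⟨ψ g, ψ.symm.injective (by simpa using hg)⟩
  · obtain ⟨a, ha, b, hb, hne⟩ := h.2.1
    exact ⟨ψ a, (hST a).1 ha, ψ b, (hST b).1 hb, fun e => hne (ψ.injective e)⟩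
  · have himg : ∀ (g : A) (V : Set B), (fun x => g * x * g⁻¹) '' (ψ.symm '' V) =
        ψ.symm '' ((fun y => ψ g * y * (ψ g)⁻¹) '' V) := fun g V => by
      rw [Set.image_image, Set.image_image]
      exact Set.image_congr' fun y => by simp
    have hblk : ∀ g : A, (fun x => g * x * g⁻¹) '' (ψ.symm '' U) = ψ.symm '' U ∨
        Disjoint ((fun x => g * x * g⁻¹) '' (ψ.symm '' U)) (ψ.symm '' U) := fun g => by
      rw [himg]
      rcases hblock (ψ g) with e | e
      · exact Or.inl (by rw [e])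
      · exact Or.inr ((Set.disjoint_image_iff ψ.symm.injective).2 e)
    rcases h.2.2 (ψ.symm '' U) (by rintro _ ⟨y, hy, rfl⟩; exact hT.1 (hU hy)) hblk with h1 | h1
    · exact Or.inl fun a ha b hb => ψ.symm.injective (h1 ⟨a, ha, rfl⟩ ⟨b, hb, rfl⟩)
    · refine Or.inr (Set.Subset.antisymm hU fun y hy => ?_)
      obtain ⟨z, hz, e⟩ := h1.symm ▸ hT.1 hy
      exact ψ.symm.injective e ▸ hz

end CfsgLib.SporFischer
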