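import Cfsg.Agent.SporFischer.M24Clique
import Cfsg.Agent.SporFischer.M24Match
import Cfsg.Agent.SporFischer.Geom

/-!
# An outer involution with centraliser 2 × M(23)

Let `G₀` have index 2, `d ∉ G₀` an involution, `Y = G₀ ∩ C(d)` of type M(23) with class `E`, and suppose that the
centraliser of each `t ∈ E` moves `d` exactly to `d` and `d t`.  Then the conjugates of `d` commuting with it are
`d` and the `d t`, and the same holds at every conjugate.
-/

set_option autoImplicit false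
set_option linter.unusedSectionVars false
set_option maxHeartbeats 1000000

namespace CfsgLib.SporFischer.M24Eng

open Cfsg CfsgLib.FischerTypes

variable {X : Type*} [Group X]

/-- The even part of the centraliser. -/
abbrev even (G₀ : Subgroup X) (d : X) : Subgroup X := G₀ ⊓ Subgroup.centralizer ({d} : Set X)

/-- The members seen in the even part of the centraliser of `a`. -/
def members (G₀ : Subgroup X) (a : X) : Set ↥(even G₀ a) := {y | a * (y : X) ∈ nbr (conjugatesOf a) a}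

/-- What is assumed at `d`. -/
structure Data (G₀ : Subgroup X) (d : X) (E : Set ↥(even G₀ d)) : Prop where
  idx : G₀.index = 2
  out : d ∉ G₀
  sq : d * d = 1
  hyp : M23.Hyp ↥(even G₀ d) E
  swap : ∀ t ∈ E, ∀ g : X, Commute g (t : X) → g * d * g⁻¹ = d ∨ g * d * g⁻¹ = d * (t : X)
  pair : ∀ t ∈ E, IsConj d (d * (t : X))

namespace Data

variable {G₀ : Subgroup X} {d : X} {E : Set ↥(even G₀ d)} (A : Data G₀ d E)
include A

theorem normal : G₀.Normal := Subgroup.normal_of_index_eq_two A.idx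

theorem not_mem_G₀ {x : X} (hx : IsConj d x) : x ∉ G₀ := by
  obtain ⟨g, rfl⟩ := isConj_iff.1 hx
  intro h
  have := A.normal.conj_mem _ h g⁻¹
  rw [show g⁻¹ * (g * d * g⁻¹) * g⁻¹⁻¹ = d by group] at this
  exact A.out this

theorem mul_mem_G₀ {x y : X} (hx : x ∉ G₀) (hy : y ∉ G₀) : x * y ∈ G₀ :=
  (Subgroup.mul_mem_iff_of_index_two A.idx).2 (iff_of_false hx hy)

theorem mul_not_mem_G₀ {x y : X} (hx : x ∉ G₀) (hy : y ∈ G₀) : x * y ∉ G₀ := fun h =>
  hx (((Subgroup.mul_mem_iff_of_index_two A.idx).1 h).2 hy)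

theorem inv_all {x : X} (hx : IsConj d x) : x * x = 1 := by
  obtain ⟨g, rfl⟩ := isConj_iff.1 hx
  rw [show g * d * g⁻¹ * (g * d * g⁻¹) = g * (d * d) * g⁻¹ by group, A.sq, mul_one, mul_inv_cancel]

omit A in
theorem commute_coe (y : ↥(even G₀ d)) : Commute d (y : X) :=
  (Subgroup.mem_centralizer_singleton_iff.1 y.2.2).symm

theorem coe_mul_self {t : ↥(even G₀ d)} (ht : t ∈ E) : (t : X) * (t : X) = 1 :=
  congrArg Subtype.val (FischerTypes.mul_self A.hyp.group.1 ht)

theorem coe_ne_one {t : ↥(even G₀ d)} (ht : t ∈ E) : (t : X) ≠ 1 := fun h =>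
  FischerTypes.ne_one A.hyp.group.1 ht (Subtype.ext h)

theorem lift_mem {t : ↥(even G₀ d)} (ht : t ∈ E) : d * (t : X) ∈ nbr (conjugatesOf d) d :=
  ⟨A.pair t ht, fun h => A.coe_ne_one ht (mul_eq_left.1 h), (Commute.refl d).mul_right (commute_coe t)⟩

variable [Finite X]

theorem coe_list_prod (l : List ↥(even G₀ d)) : ((l.prod : ↥(even G₀ d)) : X) = (l.map Subtype.val).prod :=
  map_list_prod (even G₀ d).subtype l

/-- The key count: the only conjugates of `d` in `d⟨M⟩` are `d` and the lifts of the members. -/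
theorem no_long {l : List ↥(even G₀ d)} (hl : IsCList E l) (h2 : 2 ≤ l.length) (h3 : l.length ≤ 3)
    (hD : IsConj d (d * (l.prod : ↥(even G₀ d)))) : False := by
  classical
  have H := A.hyp
  obtain ⟨M, hM, hlM⟩ := exists_clique_supset H.group (S := {x | x ∈ l}) (fun x hx => hl.mem x hx)
    (fun a ha b hb => hl.comm a ha b hb)
  set A₀ : Subgroup X := (Subgroup.closure M).map (even G₀ d).subtype with hA₀
  have hA₀G : A₀ ≤ even G₀ d := by
    rintro _ ⟨y, -, rfl⟩; exact y.2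
  have hA₀e : IsElementaryAbelian 2 A₀ :=
    CfsgLib.PLocal.isElementaryAbelian_map (isElementaryAbelian_clique H.group hM) _
  have hA₀card : Nat.card A₀ = 2048 := by
    rw [hA₀, Subgroup.card_map_of_injective (even G₀ d).subtype_injective]
    exact Big23.card_closure H hM
  set AA : Subgroup X := Subgroup.closure ({d} ∪ (A₀ : Set X)) with hAA
  have hAe : IsElementaryAbelian 2 AA := CfsgLib.PLocal.isElementaryAbelian_closure (by
    rintro x (rfl | hx) y (rfl | hy)
    · rfl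
    · exact (commute_coe ⟨y, hA₀G hy⟩).eq
    · exact (commute_coe ⟨x, hA₀G hx⟩).eq.symm
    · exact CfsgLib.PLocal.comm_of_isMulCommutative hA₀e.1 hx hy) (by
    rintro x (rfl | hx)
    · rw [pow_two]; exact A.sq
    · exact hA₀e.2 x hx)
  have hdA : d ∈ AA := Subgroup.subset_closure (Or.inl rfl)
  have hA₀A : A₀ ≤ AA := fun x hx => Subgroup.subset_closure (Or.inr hx)
  have hmemA : ∀ x ∈ AA, x ∈ A₀ ∨ d * x ∈ A₀ := by
    intro x hx
    induction hx using Subgroup.closure_induction with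
    | mem z hz =>
      rcases hz with rfl | hz
      · right; rw [A.sq]; exact one_mem _
      · exact Or.inl hz
    | one => exact Or.inl (one_mem _)
    | mul x y hx hy ix iy =>
      have hdx : Commute d x := CfsgLib.PLocal.comm_of_isMulCommutative hAe.1 hdA hx
      rcases ix with ix | ix <;> rcases iy with iy | iy
      · exact Or.inl (mul_mem ix iy)
      · exact Or.inr (by rw [← mul_assoc, hdx.eq, mul_assoc]; exact mul_mem ix iy)
      · exact Or.inr (by rw [← mul_assoc]; exact mul_mem ix iy)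
      · refine Or.inl ?_
        have := mul_mem ix iy
        rwa [mul_assoc, ← mul_assoc x d y, ← hdx.eq, mul_assoc d x y, ← mul_assoc d d, A.sq, one_mul] at this
    | inv x hx ix =>
      have hdx : Commute d x := CfsgLib.PLocal.comm_of_isMulCommutative hAe.1 hdA hx
      rcases ix with ix | ix
      · exact Or.inl (inv_mem ix)
      · refine Or.inr ?_
        have := inv_mem ix
        rwa [_root_.mul_inv_rev, inv_eq_of_mul_eq_one_right A.sq, ← hdx.inv_right.eq] at this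
  have hcapA : ∀ x ∈ AA, x ∈ G₀ → x ∈ A₀ := fun x hx hxG => (hmemA x hx).resolve_right fun h =>
    A.mul_not_mem_G₀ A.out hxG (hA₀G h).1
  set Ω : Set X := {z | IsConj d z ∧ z ∈ AA}
  set N : Subgroup X := Subgroup.normalizer (AA : Set X) with hN
  have hnmem : ∀ {n : X}, n ∈ N → ∀ x ∈ AA, n * x * n⁻¹ ∈ AA := fun {n} hn x hx =>
    (Subgroup.mem_normalizer_iff.1 hn x).1 hx
  have hnorm : ∀ n : X, (∀ x ∈ AA, n * x * n⁻¹ ∈ AA) → n ∈ N := by
    intro n hn
    have he : AA.map (MulAut.conj n).toMonoidHom = AA := Subgroup.eq_of_le_of_card_ge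
      (by rintro _ ⟨x, hx, rfl⟩; exact hn x hx)
      (by rw [Subgroup.card_map_of_injective (MulAut.conj n).injective])
    refine Subgroup.mem_normalizer_iff.2 fun x => ⟨hn x, fun hx => ?_⟩
    rw [← he] at hx
    obtain ⟨y, hy, hyx⟩ := hx
    exact mul_left_cancel (mul_right_cancel (show n * y * n⁻¹ = n * x * n⁻¹ from hyx)) ▸ hy
  -- transitivity of the normaliser
  have htr : ∀ z ∈ Ω, ∃ n ∈ N, n * d * n⁻¹ = z := by
    rintro z ⟨hz, hzA⟩
    obtain ⟨h, rfl⟩ := isConj_iff.1 hz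
    set B₀ := A₀.map (MulAut.conj h⁻¹).toMonoidHom
    have hB₀ : B₀ ≤ even G₀ d := by
      rintro _ ⟨a, ha, rfl⟩
      have haG := hA₀G ha
      refine ⟨A.normal.conj_mem _ haG.1 _, Subgroup.mem_centralizer_singleton_iff.2 ?_⟩
      have hc : Commute a (h * d * h⁻¹) :=
        CfsgLib.PLocal.comm_of_isMulCommutative hAe.1 (hA₀A ha) hzA
      have := (commute_conj_iff' h⁻¹ a (h * d * h⁻¹)).2 hc
      rw [show h⁻¹ * (h * d * h⁻¹) * h⁻¹⁻¹ = d by group] at this
      exact this.eq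
    set B := B₀.subgroupOf (even G₀ d)
    have hBe : IsElementaryAbelian 2 B := by
      have hb := CfsgLib.PLocal.isElementaryAbelian_map hA₀e (MulAut.conj h⁻¹).toMonoidHom
      refine ⟨⟨⟨fun a b => Subtype.ext (Subtype.ext ?_)⟩⟩, fun a ha => Subtype.ext ?_⟩
      · exact CfsgLib.PLocal.comm_of_isMulCommutative hb.1 a.2 b.2
      · exact hb.2 _ ha
    have hBc : Nat.card B = 2048 := by
      rw [Nat.card_congr (Subgroup.subgroupOfEquivOfLe hB₀).toEquiv,
        Subgroup.card_map_of_injective (MulAut.conj h⁻¹).injective, hA₀card]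
    obtain ⟨M', hM', hB⟩ := Big23.exists_clique_of_card H hBe hBc.ge
    obtain ⟨t, ht⟩ := Big23.exists_mem H hM
    obtain ⟨t', ht'⟩ := Big23.exists_mem H hM'
    obtain ⟨k, hk, -⟩ := Big23.exists_conj_clique H hM hM' ht ht'
    have hkd : (k : X) * d * (k : X)⁻¹ = d := by rw [← (commute_coe k).eq, mul_inv_cancel_right]
    refine ⟨h * k, hnorm _ fun x hx => ?_,
      by rw [show h * (k : X) * d * (h * (k : X))⁻¹ = h * ((k : X) * d * (k : X)⁻¹) * h⁻¹ by group, hkd]⟩
    have hA₀n : ∀ x ∈ A₀, h * k * x * (h * (k : X))⁻¹ ∈ A₀ := by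
      rintro _ ⟨y, hy, rfl⟩
      have : k * y * k⁻¹ ∈ B := by
        rw [hB, ← hk, ← conj_closure]
        exact ⟨y, hy, rfl⟩
      obtain ⟨a, ha, hae⟩ := this
      have e : h * (k : X) * (y : X) * (h * (k : X))⁻¹ = a := by
        have hae' : h⁻¹ * a * h⁻¹⁻¹ = (k : X) * (y : X) * (k : X)⁻¹ := hae
        rw [show h * (k : X) * (y : X) * (h * (k : X))⁻¹ = h * ((k : X) * (y : X) * (k : X)⁻¹) * h⁻¹ by group,
          ← hae']
        group
      exact e.symm ▸ ha
    rcases hmemA x hx with h1 | h1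
    · exact hA₀A (hA₀n x h1)
    · have hd' : h * k * d * (h * (k : X))⁻¹ = h * d * h⁻¹ := by
        rw [show h * (k : X) * d * (h * (k : X))⁻¹ = h * ((k : X) * d * (k : X)⁻¹) * h⁻¹ by group, hkd]
      have := mul_mem (hd'.symm ▸ hzA : h * k * d * (h * (k : X))⁻¹ ∈ AA) (hA₀A (hA₀n _ h1))
      rwa [show h * (k : X) * d * (h * (k : X))⁻¹ * (h * (k : X) * (d * x) * (h * (k : X))⁻¹) =
        h * (k : X) * (d * d) * x * (h * (k : X))⁻¹ by group, A.sq, mul_one] at this
  -- orbit counts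
  obtain ⟨t, ht⟩ := Big23.exists_mem H hM
  have htE := hM.sub ht
  have htA₀ : (t : X) ∈ A₀ := ⟨t, Subgroup.subset_closure ht, rfl⟩
  set Nd := N ⊓ Subgroup.centralizer ({d} : Set X)
  set Nt := N ⊓ Subgroup.centralizer ({(t : X)} : Set X)
  set Ntd := Nd ⊓ Subgroup.centralizer ({(t : X)} : Set X)
  have cq : ∀ g g' x : X, g * x * g⁻¹ = g' * x * g'⁻¹ ↔ g⁻¹ * g' ∈ Subgroup.centralizer ({x} : Set X) := by
    intro g g' x
    rw [Subgroup.mem_centralizer_singleton_iff, conj_eq_conj_iff]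
    rfl
  have e1 : Nat.card N = Ω.ncard * Nat.card Nd :=
    card_eq_ncard_mul_card inf_le_left (fun n => n * d * n⁻¹)
      (fun n hn => ⟨isConj_iff.2 ⟨n, rfl⟩, hnmem hn d hdA⟩) htr
      (fun n hn m hm => by rw [cq, Subgroup.mem_inf]; exact (and_iff_right (mul_mem (inv_mem hn) hm)).symm)
  set T : Set X := (fun n => n * (t : X) * n⁻¹) '' (N : Set X) with hT
  have e2 : Nat.card N = T.ncard * Nat.card Nt :=
    card_eq_ncard_mul_card inf_le_left (fun n => n * (t : X) * n⁻¹) (fun n hn => ⟨n, hn, rfl⟩) (fun s hs => hs)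
      (fun n hn m hm => by rw [cq, Subgroup.mem_inf]; exact (and_iff_right (mul_mem (inv_mem hn) hm)).symm)
  have hTle : T.ncard ≤ 2047 := by
    have hsub : T ⊆ (A₀ : Set X) \ {1} := by
      rintro _ ⟨n, hn, rfl⟩
      refine ⟨hcapA _ (hnmem hn _ (hA₀A htA₀)) (A.normal.conj_mem _ t.2.1 n), fun h => A.coe_ne_one htE ?_⟩
      exact conj_eq_one_iff.1 (Set.mem_singleton_iff.1 h)
    refine (Set.ncard_le_ncard hsub (Set.toFinite _)).trans ?_
    rw [Set.ncard_sdiff_singleton_of_mem (one_mem A₀), ← Nat.card_coe_set_eq]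
    exact le_of_eq (congrArg (· - 1) hA₀card)
  set S : Set X := (fun n => n * d * n⁻¹) '' (Nt : Set X)
  have e3 : Nat.card Nt = S.ncard * Nat.card Ntd :=
    card_eq_ncard_mul_card (show Ntd ≤ Nt from fun x hx => ⟨hx.1.1, hx.2⟩) (fun n => n * d * n⁻¹) (fun n hn => ⟨n, hn, rfl⟩)
      (fun s hs => hs) (fun n hn m hm => by
        have h := mul_mem (inv_mem hn) hm
        rw [cq]
        exact ⟨fun h' => ⟨⟨h.1, h'⟩, h.2⟩, fun h' => h'.1.2⟩)
  have hS : S.ncard ≤ 2 := by
    refine (Set.ncard_le_ncard (t := {d, d * (t : X)}) ?_ (Set.toFinite _)).trans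
      ((Set.ncard_insert_le _ _).trans (by simp))
    rintro _ ⟨n, hn, rfl⟩
    rcases A.swap t htE n (Subgroup.mem_centralizer_singleton_iff.1 hn.2) with e | e <;> simp [e]
  set U : Set X := (fun n => n * (t : X) * n⁻¹) '' (Nd : Set X)
  have e4 : Nat.card Nd = U.ncard * Nat.card Ntd :=
    card_eq_ncard_mul_card inf_le_left (fun n => n * (t : X) * n⁻¹) (fun n hn => ⟨n, hn, rfl⟩) (fun s hs => hs)
      (fun n hn m hm => by rw [cq]; exact (and_iff_right (mul_mem (inv_mem hn) hm)).symm)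
  have hU : 23 ≤ U.ncard := by
    have hsub : Subtype.val '' M ⊆ U := by
      rintro _ ⟨m, hm, rfl⟩
      obtain ⟨k, hk, hkt⟩ := Big23.exists_conj_clique H hM hM ht hm
      have hkd : (k : X) * d * (k : X)⁻¹ = d := by rw [← (commute_coe k).eq, mul_inv_cancel_right]
      refine ⟨k, ⟨hnorm _ fun x hx => ?_, k.2.2⟩, congrArg Subtype.val hkt⟩
      have h0 : ∀ x ∈ A₀, (k : X) * x * (k : X)⁻¹ ∈ A₀ := by
        rintro _ ⟨y, hy, rfl⟩
        refine ⟨k * y * k⁻¹, ?_, rfl⟩
        rw [SetLike.mem_coe, ← hk, ← conj_closure]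
        exact ⟨y, hy, rfl⟩
      rcases hmemA x hx with h1 | h1
      · exact hA₀A (h0 x h1)
      · have := mul_mem hdA (hA₀A (h0 _ h1))
        rwa [show d * ((k : X) * (d * x) * (k : X)⁻¹) = (k : X) * x * (k : X)⁻¹ by
          simp only [← mul_assoc]
          rw [(commute_coe k).eq, mul_assoc (k : X) d d, A.sq, mul_one]] at this
    have := Set.ncard_le_ncard hsub (Set.toFinite _)
    rwa [Set.ncard_image_of_injective _ Subtype.val_injective,
      (Transpositions.TypeM24.clique_M23 H hM).1] at this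
  -- the fibre of `l`
  set m := l.length with hm
  have hm1 : 1 ≤ m := by omega
  have hconjY : ∀ l' : List ↥(even G₀ d), IsCList E l' → l'.length = m →
      IsConj d (d * ((l'.prod : ↥(even G₀ d)) : X)) := by
    intro l' hl' hlen
    obtain ⟨c, hc⟩ := isConj_iff.1 (((involution_classes23 H).2.1 m hm1 h3).2 l.prod l'.prod
      ⟨l, hl.nodup, rfl, hl.mem, hl.comm, rfl⟩ ⟨l', hl'.nodup, hlen, hl'.mem, hl'.comm, rfl⟩)
    refine hD.trans (isConj_iff.2 ⟨c, ?_⟩)
    have hc' : (c : X) * ((l.prod : ↥(even G₀ d)) : X) * (c : X)⁻¹ = ((l'.prod : ↥(even G₀ d)) : X) :=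
      congrArg Subtype.val hc
    rw [← hc', show (c : X) * (d * ((l.prod : ↥(even G₀ d)) : X)) * (c : X)⁻¹ =
      (c : X) * d * (c : X)⁻¹ * ((c : X) * ((l.prod : ↥(even G₀ d)) : X) * (c : X)⁻¹) by group,
      show (c : X) * d * (c : X)⁻¹ = d by rw [← (commute_coe c).eq, mul_inv_cancel_right]]
  have hfib : ∀ y ∈ Subgroup.closure M, ∀ l' : List ↥(even G₀ d), IsCList E l' → l'.length = m → l'.prod = y →
      d * (y : X) ∈ Ω := fun y hy l' hl' hlen hp =>
    ⟨hp ▸ hconjY l' hl' hlen, mul_mem hdA (hA₀A ⟨y, hy, rfl⟩)⟩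
  have hΩ : ∀ P : Set ↥(even G₀ d), (∀ y ∈ P, d * (y : X) ∈ Ω) → P.ncard ≤ Ω.ncard := fun P hP =>
    Set.ncard_le_ncard_of_injOn (fun y => d * (y : X)) hP
      (fun x _ y _ h => Subtype.ext (mul_left_cancel h)) (Set.toFinite _)
  obtain ⟨h23, -⟩ := Transpositions.TypeM24.clique_M23 H hM
  have hbig : 231 ≤ Ω.ncard := by
    interval_cases m
    · have hp := Big23.ncard_pair_products H hM.sub hM.comm 1
      rw [h23] at hp
      refine le_trans (by omega) (hΩ {y | ∃ a ∈ M, ∃ b ∈ M, a ≠ b ∧ 1 * (a * b) = y} ?_)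
      rintro y ⟨a, ha, b, hb, hne, rfl⟩
      refine hfib _ ?_ [a, b] ⟨by simp [hne], by simp [hM.sub ha, hM.sub hb],
        by simp [hM.comm a ha b hb, (hM.comm a ha b hb).symm]⟩ rfl (by simp)
      rw [one_mul]; exact mul_mem (Subgroup.subset_closure ha) (Subgroup.subset_closure hb)
    · have hp := Big23.ncard_pair_products H (M := M \ {t}) (fun a ha => hM.sub ha.1)
        (fun a ha b hb => hM.comm a ha.1 b hb.1) t
      rw [Set.ncard_sdiff_singleton_of_mem ht, h23] at hp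
      refine le_trans (by omega) (hΩ {y | ∃ a ∈ M \ {t}, ∃ b ∈ M \ {t}, a ≠ b ∧ t * (a * b) = y} ?_)
      rintro y ⟨a, ⟨ha, hat⟩, b, ⟨hb, hbt⟩, hne, rfl⟩
      refine hfib _ (mul_mem (Subgroup.subset_closure ht) (mul_mem (Subgroup.subset_closure ha)
        (Subgroup.subset_closure hb))) [t, a, b] ⟨?_, ?_, ?_⟩ rfl (by simp)
      · simp [Ne.symm (show a ≠ t from hat), Ne.symm (show b ≠ t from hbt), hne]
      · simp [htE, hM.sub ha, hM.sub hb]
      · intro u hu w hw
        simp only [List.mem_cons, List.not_mem_nil, or_false] at hu hw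
        refine hM.comm u ?_ w ?_
        · rcases hu with rfl | rfl | rfl <;> assumption
        · rcases hw with rfl | rfl | rfl <;> assumption
  -- combine
  have key : Ω.ncard * (23 * Nat.card Ntd) ≤ 2047 * (2 * Nat.card Ntd) := by
    calc Ω.ncard * (23 * Nat.card Ntd) ≤ Ω.ncard * Nat.card Nd := by
          rw [e4]; exact Nat.mul_le_mul_left _ (Nat.mul_le_mul_right _ hU)
      _ = T.ncard * Nat.card Nt := by rw [← e1, ← e2]
      _ ≤ 2047 * (2 * Nat.card Ntd) := Nat.mul_le_mul hTle (by rw [e3]; exact Nat.mul_le_mul_right _ hS)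
  have h0 : 0 < Nat.card Ntd := Nat.card_pos
  have := Nat.le_of_mul_le_mul_right (show (Ω.ncard * 23) * Nat.card Ntd ≤ 4094 * Nat.card Ntd by linarith) h0
  omega

/-- The conjugates of `d` commuting with it. -/
theorem nbr_iff {x : X} : x ∈ nbr (conjugatesOf d) d ↔ ∃ t ∈ E, d * (t : X) = x := by
  refine ⟨fun hx => ?_, fun ⟨t, ht, e⟩ => e ▸ A.lift_mem ht⟩
  have hy : d * x ∈ even G₀ d :=
    ⟨A.mul_mem_G₀ A.out (A.not_mem_G₀ hx.1),
      Subgroup.mem_centralizer_singleton_iff.2 ((Commute.refl d).mul_right hx.2.2).eq.symm⟩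
  set y : ↥(even G₀ d) := ⟨d * x, hy⟩
  have hxy : d * (y : X) = x := by show d * (d * x) = x; rw [← mul_assoc, A.sq, one_mul]
  have hy2 : y * y = 1 := Subtype.ext (by
    show d * x * (d * x) = 1
    rw [hx.2.2.symm.mul_mul_mul_comm, A.sq, A.inv_all hx.1, one_mul])
  have hy1 : y ≠ 1 := fun h => hx.2.1 (by rw [← hxy, h]; exact mul_one d)
  obtain ⟨m, hm1, hm3, l, hnd, hlen, hD, hcm, hp⟩ :=
    (involution_classes23 A.hyp).1 y (orderOf_eq_prime (by rw [pow_two, hy2]) hy1)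
  rcases Nat.lt_or_ge m 2 with h | h
  · obtain ⟨t, rfl⟩ := List.length_eq_one_iff.1 (show l.length = 1 by omega)
    exact ⟨t, hD t (by simp), by rw [show t = y by simpa using hp, hxy]⟩
  · exfalso
    refine A.no_long ⟨hnd, hD, hcm⟩ (hlen ▸ h) (hlen ▸ hm3) ?_
    rw [hp, hxy]
    exact hx.1

theorem members_eq : members G₀ d = E := by
  ext y
  refine ⟨fun hy => ?_, fun hy => A.lift_mem hy⟩
  obtain ⟨t, ht, he⟩ := A.nbr_iff.1 hy
  rwa [show y = t from Subtype.ext (mul_left_cancel he).symm]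

/-- The same at every conjugate. -/
theorem conj {a : X} (ha : IsConj d a) : Data G₀ a (members G₀ a) := by
  obtain ⟨g, rfl⟩ := isConj_iff.1 ha
  have hn := A.normal
  have hmap : (even G₀ d).map (MulAut.conj g).toMonoidHom = even G₀ (g * d * g⁻¹) := by
    ext z
    simp only [Subgroup.mem_map, MulEquiv.coe_toMonoidHom, MulAut.conj_apply, Subgroup.mem_inf,
      Subgroup.mem_centralizer_singleton_iff]
    constructor
    · rintro ⟨y, ⟨h1, h2⟩, rfl⟩
      exact ⟨hn.conj_mem _ h1 g, ((commute_conj_iff' g y d).2 h2).eq⟩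
    · rintro ⟨h1, h2⟩
      refine ⟨g⁻¹ * z * g, ⟨by simpa using hn.conj_mem _ h1 g⁻¹, ?_⟩, by group⟩
      have := (commute_conj_iff' g⁻¹ z (g * d * g⁻¹)).2 h2
      rw [inv_inv, show g⁻¹ * (g * d * g⁻¹) * g = d by group] at this
      exact this.eq
  set ψ : ↥(even G₀ d) ≃* ↥(even G₀ (g * d * g⁻¹)) :=
    ((MulAut.conj g).subgroupMap _).trans (MulEquiv.subgroupCongr hmap) with hψ
  have hval : ∀ y : ↥(even G₀ d), ((ψ y : ↥(even G₀ (g * d * g⁻¹))) : X) = g * (y : X) * g⁻¹ := fun y => rfl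
  have hcls : conjugatesOf (g * d * g⁻¹) = conjugatesOf d :=
    Set.ext fun z => ⟨fun h => ha.trans h, fun h => ha.symm.trans h⟩
  have hmem : ∀ y, y ∈ E ↔ ψ y ∈ members G₀ (g * d * g⁻¹) := by
    intro y
    rw [← A.members_eq]
    have e : g * d * g⁻¹ * (ψ y : X) = g * (d * (y : X)) * g⁻¹ := by rw [hval]; group
    show _ ↔ g * d * g⁻¹ * (ψ y : X) ∈ nbr (conjugatesOf (g * d * g⁻¹)) (g * d * g⁻¹)
    rw [e, hcls]
    constructor
    · intro h
      exact ⟨h.1.trans (isConj_iff.2 ⟨g, rfl⟩), fun h' => h.2.1 (mul_left_cancel (mul_right_cancel h')),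
        (commute_conj_iff' g _ _).2 h.2.2⟩
    · intro h
      exact ⟨h.1.trans (isConj_iff.2 ⟨g, rfl⟩).symm, fun h' => h.2.1 (by rw [h']),
        (commute_conj_iff' g _ _).1 h.2.2⟩
  have hconjd : ∀ {y}, y ∈ members G₀ (g * d * g⁻¹) → ∃ t, t ∈ E ∧ ψ t = y := fun {y} hy =>
    ⟨ψ.symm y, (hmem _).2 (by rwa [ψ.apply_symm_apply]), ψ.apply_symm_apply y⟩
  refine ⟨A.idx, A.not_mem_G₀ ha, A.inv_all ha,
    ⟨isThreeTranspositionGroup_of_equiv ψ hmem A.hyp.group, isPrimitiveUnderConj_of_equiv ψ hmem A.hyp.prim,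
      isOfTypeM23_equiv ψ hmem A.hyp.type⟩, ?_, fun y hy => hy.1⟩
  intro y hy c hc
  obtain ⟨t, ht, rfl⟩ := hconjd hy
  rw [hval] at hc ⊢
  have hc' : Commute (g⁻¹ * c * g) (t : X) := by
    have := (commute_conj_iff' g⁻¹ c (g * (t : X) * g⁻¹)).2 hc
    rwa [inv_inv, show g⁻¹ * (g * (t : X) * g⁻¹) * g = t by group] at this
  have e : c * (g * d * g⁻¹) * c⁻¹ = g * ((g⁻¹ * c * g) * d * (g⁻¹ * c * g)⁻¹) * g⁻¹ := by group
  rcases A.swap t ht _ hc' with h | h
  · exact Or.inl (by rw [e, h])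
  · exact Or.inr (by rw [e, h]; group)

theorem centralizer_cases {c : X} (hc : Commute c d) : c ∈ even G₀ d ∨ d * c ∈ even G₀ d := by
  by_cases h : c ∈ G₀
  · exact Or.inl ⟨h, Subgroup.mem_centralizer_singleton_iff.2 hc.eq⟩
  · exact Or.inr ⟨A.mul_mem_G₀ A.out h,
      Subgroup.mem_centralizer_singleton_iff.2 ((Commute.refl d).mul_left hc).eq⟩

end Data

end CfsgLib.SporFischer.M24Eng
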