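import Cfsg.Agent.FischerDisc.Refl.Basic
import Cfsg.Agent.FischerThm.StdForm

/-!
# An involution without fixed member in the eight-dimensional reflection group

A product of eight reflections has square minus one and commutes with an element of order seven, which is also a
product of eight reflections.
-/

set_option autoImplicit false
set_option linter.unusedSectionVars false
set_option maxRecDepth 4000

namespace CfsgLib.SporFischer.Octet

open Cfsg Matrix CfsgLib.FischerThm
open CfsgLib.Transpositions (reflClass classRefl classRefl_mem exists_eq_classRefl)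
open CfsgLib.Spinor (mat mat_ext mat_mul mat_one)

/-- The form. -/
abbrev Q8 : QuadraticForm (ZMod 3) (Fin 8 → ZMod 3) := stdQ 8 1

/-- A reflection on coordinate lists. -/
def lref (a w : List (ZMod 3)) : List (ZMod 3) :=
  List.zipWith (fun x y => y + (List.zipWith (· * ·) a w).sum * x) a w

/-- A product of reflections on coordinate lists. -/
def app (L : List (List (ZMod 3))) (w : List (ZMod 3)) : List (ZMod 3) := L.foldr lref w

/-- The vectors of the involution. -/
def jVec : List (Fin 8 → ZMod 3) :=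
  [![1,0,0,0,0,0,0,0], ![0,0,1,0,0,0,0,0], ![1,1,1,1,0,0,0,0], ![1,1,2,2,0,0,0,0],
    ![0,0,0,0,1,0,0,0], ![0,0,0,0,0,0,1,0], ![0,0,0,0,1,1,1,1], ![0,0,0,0,1,1,2,2]]

/-- The vectors of the element of order seven. -/
def gVec : List (Fin 8 → ZMod 3) :=
  [![1,0,0,2,0,1,1,0], ![0,2,2,0,1,0,0,2], ![1,2,1,1,2,0,1,2], ![2,2,1,2,0,1,2,2],
    ![1,2,0,2,1,2,2,1], ![2,2,2,0,2,2,1,1], ![1,1,1,0,1,1,1,1], ![1,2,0,2,1,2,1,2]]

/-- Lists of vectors as lists of lists. -/
abbrev toL (L : List (Fin 8 → ZMod 3)) : List (List (ZMod 3)) := L.map List.ofFn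

/-- The standard basis. -/
def bas : List (List (ZMod 3)) :=
  List.ofFn fun j : Fin 8 => List.ofFn fun i : Fin 8 => if i = j then (1 : ZMod 3) else 0

theorem check_norm : ∀ a ∈ jVec ++ gVec, ∑ i, a i * a i = 1 := by decide +kernel

theorem check_jj : ∀ b ∈ bas, app (toL jVec) (app (toL jVec) b) = b.map (- ·) := by decide +kernel

theorem check_jg : ∀ b ∈ bas, app (toL jVec) (app (toL gVec) b) = app (toL gVec) (app (toL jVec) b) := by
  decide +kernel

theorem check_g7 : (∀ b ∈ bas, app (toL (List.replicate 7 gVec).flatten) b = b) ∨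
    (∀ b ∈ bas, app (toL (List.replicate 7 gVec).flatten) b = b.map (- ·)) := by decide +kernel

theorem check_g : (¬ ∀ b ∈ bas, app (toL gVec) b = b) ∧ (¬ ∀ b ∈ bas, app (toL gVec) b = b.map (- ·)) := by
  decide +kernel

theorem stdQ_sum (w : Fin 8 → ZMod 3) : Q8 w = ∑ i, w i * w i := by simp [stdQ_apply, stdW]

theorem polar_sum (a w : Fin 8 → ZMod 3) : QuadraticMap.polar (⇑Q8) a w = 2 * ∑ i, a i * w i := by
  simp [polar_stdQ, stdW, Finset.mul_sum]

theorem lref_ofFn (a w : Fin 8 → ZMod 3) (ha : Q8 a = 1) :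
    lref (List.ofFn a) (List.ofFn w) = List.ofFn (reflectionMatrix (⇑Q8) a *ᵥ w) := by
  have hzip : ∀ (f : ZMod 3 → ZMod 3 → ZMod 3) (x y : Fin 8 → ZMod 3),
      List.zipWith f (List.ofFn x) (List.ofFn y) = List.ofFn fun i => f (x i) (y i) := fun f x y =>
    List.ext_getElem (by simp) fun i h1 h2 => by simp
  rw [lref, hzip, hzip, List.sum_ofFn]
  congr 1
  funext i
  rw [Spinor.reflectionMatrix_mulVec, Spinor.refl_apply, ha, polar_sum, inv_one, one_mul, sub_eq_add_neg,
    ← neg_smul, Pi.add_apply, Pi.smul_apply, smul_eq_mul]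
  congr 2
  generalize (∑ i, a i * w i) = b
  revert b; decide

/-- The group element of a list of vectors. -/
theorem exists_elem (L : List (Fin 8 → ZMod 3)) (hL : ∀ a ∈ L, Q8 a = 1) :
    ∃ r : ↥(reflectionSubgroup (⇑Q8) 1), (∃ l : List ↥(reflectionSubgroup (⇑Q8) 1),
      (∀ x ∈ l, x ∈ reflClass Q8 1) ∧ l.length = L.length ∧ l.prod = r) ∧
      ∀ w, List.ofFn (mat Q8 r.1 *ᵥ w) = app (toL L) (List.ofFn w) := by
  induction L with
  | nil => exact ⟨1, ⟨[], by simp, rfl, rfl⟩, fun w => by simp [app, mat_one]⟩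
  | cons a L ih =>
    obtain ⟨r, ⟨l, hl, hlen, hlp⟩, hw⟩ := ih fun b hb => hL b (List.mem_cons_of_mem _ hb)
    have ha := hL a List.mem_cons_self
    refine ⟨classRefl one_ne_zero a ha * r, ⟨classRefl one_ne_zero a ha :: l, ?_, by simp [hlen],
      by rw [List.prod_cons, hlp]⟩, fun w => ?_⟩
    · intro x hx
      rcases List.mem_cons.1 hx with rfl | hx
      exacts [classRefl_mem one_ne_zero a ha, hl x hx]
    · have e : app (toL (a :: L)) (List.ofFn w) = lref (List.ofFn a) (app (toL L) (List.ofFn w)) := rfl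
      rw [e, ← hw w, lref_ofFn _ _ ha, Subgroup.coe_mul, mat_mul, ← mulVec_mulVec]
      rfl

theorem ext_bas {M N : Matrix (Fin 8) (Fin 8) (ZMod 3)}
    (h : ∀ j : Fin 8, List.ofFn (M *ᵥ fun i => if i = j then (1 : ZMod 3) else 0) =
      List.ofFn (N *ᵥ fun i => if i = j then (1 : ZMod 3) else 0)) : M = N := by
  ext i j
  have := congrFun (List.ofFn_injective (h j)) i
  simpa [Matrix.mulVec, dotProduct] using this

theorem mem_bas (j : Fin 8) : List.ofFn (fun i => if i = j then (1 : ZMod 3) else 0) ∈ bas :=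
  List.mem_ofFn.2 ⟨j, rfl⟩

theorem map_neg_ofFn (w : Fin 8 → ZMod 3) : (List.ofFn w).map (- ·) = List.ofFn (-w) := by
  rw [List.map_ofFn]; rfl

theorem app_append (L L' : List (List (ZMod 3))) (w : List (ZMod 3)) : app (L ++ L') w = app L (app L' w) :=
  List.foldr_append

theorem central_of_scalar {z : ↥(reflectionSubgroup (⇑Q8) 1)} (h : mat Q8 z.1 = 1 ∨ mat Q8 z.1 = -1) :
    z ∈ Subgroup.center ↥(reflectionSubgroup (⇑Q8) 1) := by
  refine Subgroup.mem_center_iff.2 fun k => Subtype.ext (mat_ext Q8 ?_)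
  rw [Subgroup.coe_mul, Subgroup.coe_mul, mat_mul, mat_mul]
  rcases h with h | h <;> simp [h]

/-- The two elements of the model. -/
theorem exists_octet : ∃ j g : ReflGroup 8 1,
    (∃ l : List (ReflGroup 8 1), (∀ x ∈ l, x ∈ reflD 8 1) ∧ l.length = 8 ∧ l.prod = j) ∧
    (∃ l : List (ReflGroup 8 1), (∀ x ∈ l, x ∈ reflD 8 1) ∧ l.length = 8 ∧ l.prod = g) ∧
    j * j = 1 ∧ (∀ s ∈ reflD 8 1, ¬ Commute j s) ∧ g ^ 7 = 1 ∧ g ≠ 1 ∧ Commute j g := by
  have hQ := stdQ_nondegenerate 8 (one_ne_zero (α := ZMod 3))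
  have hn : 5 ≤ Fintype.card (Fin 8) := by simp
  have hnorm : ∀ a ∈ jVec ++ gVec, Q8 a = 1 := fun a ha => (stdQ_sum a).trans (check_norm a ha)
  obtain ⟨J, ⟨lj, hlj, hljn, rfl⟩, hJw⟩ := exists_elem jVec fun a ha => hnorm a (List.mem_append_left _ ha)
  obtain ⟨K, ⟨lg, hlg, hlgn, rfl⟩, hKw⟩ := exists_elem gVec fun a ha => hnorm a (List.mem_append_right _ ha)
  set J := lj.prod
  set K := lg.prod
  set π : ↥(reflectionSubgroup (⇑Q8) 1) →* ReflGroup 8 1 := FischerDisc.Refl.proj Q8
  have himg : ∀ {l : List ↥(reflectionSubgroup (⇑Q8) 1)}, (∀ x ∈ l, x ∈ reflClass Q8 1) →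
      ∀ x ∈ l.map π, x ∈ reflD 8 1 := fun hl x hx => by
    obtain ⟨y, hy, rfl⟩ := List.mem_map.1 hx
    exact ⟨y, hl y hy, rfl⟩
  have hJJ : mat Q8 (J * J).1 = -1 := ext_bas fun j => by
    rw [Subgroup.coe_mul, mat_mul, ← mulVec_mulVec, hJw, hJw, check_jj _ (mem_bas j), map_neg_ofFn, neg_mulVec,
      one_mulVec]
  have hJK : J * K = K * J := Subtype.ext (mat_ext Q8 (ext_bas fun j => by
    rw [Subgroup.coe_mul, Subgroup.coe_mul, mat_mul, mat_mul, ← mulVec_mulVec, ← mulVec_mulVec, hJw, hKw, hKw,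
      hJw, check_jg _ (mem_bas j)]))
  refine ⟨π J, π K, ⟨lj.map π, himg hlj, by simp [hljn, jVec], (map_list_prod π lj).symm⟩,
    ⟨lg.map π, himg hlg, by simp [hlgn, gVec], (map_list_prod π lg).symm⟩, ?_, ?_, ?_, ?_, ?_⟩
  · rw [← map_mul]
    exact FischerDisc.Refl.proj_eq_one.2 (central_of_scalar (Or.inr hJJ))
  · rintro _ ⟨s, hs, rfl⟩ hc
    obtain ⟨v, hv, rfl⟩ := exists_eq_classRefl one_ne_zero hs
    have e : π (J * classRefl one_ne_zero v hv * J⁻¹) = π (classRefl one_ne_zero v hv) := by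
      rw [map_mul, map_mul, map_inv]
      exact mul_inv_eq_iff_eq_mul.2 hc
    rw [FischerDisc.Refl.classRefl_conj J hv] at e
    have hpm := FischerDisc.Refl.proj_classRefl_inj hQ hn ((Spinor.quad_mulVec Q8 J.1 v).trans hv) hv e
    have h2 : mat Q8 J.1 *ᵥ (mat Q8 J.1 *ᵥ v) = -v := by
      have := congrArg (· *ᵥ v) hJJ
      simpa [mat_mul, ← mulVec_mulVec, neg_mulVec] using this
    have hvv : v = -v := by
      rcases hpm with e1 | e1
      · rw [← e1, ← e1] at h2; exact h2
      · rw [show mat Q8 J.1 *ᵥ v = -v from neg_eq_iff_eq_neg.1 e1.symm, mulVec_neg,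
          show mat Q8 J.1 *ᵥ v = -v from neg_eq_iff_eq_neg.1 e1.symm, neg_neg] at h2
        exact h2
    have h0 : v = 0 := by
      funext i
      have key : ∀ x : ZMod 3, x = -x → x = 0 := by decide
      exact key _ (congrFun hvv i)
    rw [h0, QuadraticMap.map_zero] at hv
    exact zero_ne_one hv
  · rw [← map_pow]
    refine FischerDisc.Refl.proj_eq_one.2 (central_of_scalar ?_)
    have hpow : ∀ (n : ℕ) w, List.ofFn (mat Q8 (K ^ n).1 *ᵥ w) =
        app (toL (List.replicate n gVec).flatten) (List.ofFn w) := by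
      intro n
      induction n with
      | zero => intro w; simp [app, mat_one]
      | succ n ih =>
        intro w
        rw [pow_succ', Subgroup.coe_mul, mat_mul, ← mulVec_mulVec, hKw, ih, List.replicate_succ,
          List.flatten_cons, ← app_append]
        simp [toL]
    rcases check_g7 with h | h
    · exact Or.inl (ext_bas fun j => by rw [hpow, h _ (mem_bas j), one_mulVec])
    · exact Or.inr (ext_bas fun j => by rw [hpow, h _ (mem_bas j), map_neg_ofFn, neg_mulVec, one_mulVec])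
  · intro h
    have hall : ∀ b ∈ bas, ∃ j : Fin 8, List.ofFn (fun i => if i = j then (1 : ZMod 3) else 0) = b := fun b hb =>
      List.mem_ofFn.1 hb
    rcases FischerDisc.Refl.mat_of_mem_center hQ hn (FischerDisc.Refl.proj_eq_one.1 h) with e | e
    · refine check_g.1 fun b hb => ?_
      obtain ⟨j, rfl⟩ := hall b hb
      rw [← hKw, e, one_mulVec]
    · refine check_g.2 fun b hb => ?_
      obtain ⟨j, rfl⟩ := hall b hb
      rw [← hKw, e, neg_mulVec, one_mulVec, map_neg_ofFn]
  · exact (show Commute J K from hJK).map π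

end CfsgLib.SporFischer.Octet
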