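import Cfsg.Agent.SporFischer.SliceChecks

/-!
# Checks on middles of vectors
-/

set_option autoImplicit false
set_option maxRecDepth 100000

namespace CfsgLib.SporFischer.SliceData

/-- The middle without scaling. -/
def rawMid (c : ℕ) : ℕ := Nat.land (Nat.shiftRight c 2) 255

theorem mid_facts : (List.range 256).all (fun w => Nat.beq w 0 ||
    (Nat.beq (smN (lead w) (normN w)) w && Nat.blt (lead w) 4 && !Nat.beq (lead w) 0 &&
      Nat.beq (hT 0 (4 * w) (4 * w)) (hT 1 (4 * w) (4 * w)) && Nat.blt (normN w) 256)) = true := by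
  decide +kernel

theorem seed_cases : (List.range 1024).all (fun c =>
    Nat.beq c 0 || !Nat.beq (normN c) c || !Nat.beq (midN c) wStar ||
      (List.range 4).any fun c0 => Nat.beq c (normN (c0 + 4 * wStar))) = true := by
  decide +kernel

theorem raw_mid : (List.range 4096).all (fun c =>
    Nat.beq (midN c) (normN (rawMid c)) && Nat.blt (rawMid c) 256 &&
      (!Nat.beq (dg c 5) 0 || (Nat.beq c (dg c 0 + 4 * rawMid c) && Nat.blt c 1024 &&
        Nat.beq c (Nat.xor (dg c 0) (4 * rawMid c))))) = true := by
  decide +kernel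

theorem orth_e : (List.range 4096).all (fun c =>
    Nat.beq (hT 0 c 1) (dg c 5) && Nat.beq (hT 1 c 1) (dg c 5)) = true := by
  decide +kernel

theorem zero_mid : (List.range 4).all (fun c => Nat.beq c 0 || Nat.beq (normN c) 1) = true := by
  decide +kernel

theorem four00_mid : wit00.all (fun k => Nat.beq (hT 0 ((pts 0 ops00).getD k 0) 1) 0) = true := by
  decide +kernel

theorem path126 : (let o := fun x y => Nat.beq (hT 1 x y) 0
    o 4 64 && o 64 1 && !o 4 16) = true := by
  decide +kernel

end CfsgLib.SporFischer.SliceData
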