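import Cfsg.Agent.SporFischer.Coded
import Cfsg.Agent.SporFischer.MidChecks

/-!
# Common neighbours of two members in `U(6,2)`

When `x` and `v` do not commute and have a common neighbour, their common neighbours are, in the coordinates
of the neighbours of `v`, one standard set of 126 points.
-/

set_option autoImplicit false
set_option linter.unusedSectionVars false
set_option maxRecDepth 20000
set_option maxHeartbeats 800000

namespace CfsgLib.SporFischer

open CfsgLib.RepBounds.Unit CfsgLib.U62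
open SliceData (mulN conN dg hT h4 normN smN moveN lead midN rawMid iso4 chain4 mids wStar pts seeds pts126)

variable {G : Type*} [Group G] {D : Set G}

/-- The common neighbours of `x` and `v`, in standard coordinates. -/
structure SliceRep (D : Set G) (x v : G) (M : UModel (nbr D v)) where
  /-- the coordinates -/
  R : Coded M 1
  /-- the member at a point -/
  φ : ℕ → G
  mem : ∀ c ∈ pts126, φ c ∈ nbr D x ∧ R.At (φ c) c
  surj : ∀ z ∈ nbr D x, z ∈ nbr D v → ∃ c ∈ pts126, φ c = z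

namespace Geom22

variable (hD : Geom22 D) {u x v : G} (hu : u ∈ D) (hx : x ∈ nbr D u) (hv : v ∈ nbr D u)
  (hxv : ¬ Commute x v)
include hD hu hx hv hxv

/-- Generators next to `u`, and one member commuting with the first and not with `u`. -/
theorem exists_gens : ∃ g : Fin 4 → G, ∃ m : G,
    (∀ i, g i ∈ nbr D u ∧ g i ∈ nbr D x ∧ g i ∈ nbr D v) ∧
    (∀ i j : Fin 4, Commute (g i) (g j) ↔ ¬ ((i : ℕ) + 1 = j ∨ (j : ℕ) + 1 = i)) ∧
    (m ∈ nbr D x ∧ m ∈ nbr D v) ∧ ¬ Commute u m ∧ Commute (g 0) m ∧ Commute (g 2) m ∧ Commute (g 3) m := by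
  obtain ⟨Φ⟩ := hD.exists_frame hu hx hv hxv
  obtain ⟨hlen, hch⟩ := SliceData.chain_ok
  simp only [List.all_eq_true, List.mem_range, Bool.and_eq_true, Nat.blt_eq] at hch
  set k : Fin 4 → ℕ := fun i => iso4.getD (chain4.getD i 0) 0 with hk
  have hmem : ∀ i, k i ∈ iso4 := fun i => by
    have hl : chain4.getD (i : ℕ) 0 < iso4.length := by
      rw [SliceData.iso4_complete.1]; exact (hch i i.2 i i.2).1
    rw [hk]
    simp only []
    rw [List.getD_eq_getElem _ _ hl]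
    exact List.getElem_mem hl
  have hcm : ∀ i j : Fin 4, Commute (Φ.φ (k i)) (Φ.φ (k j)) ↔ ¬ ((i : ℕ) + 1 = j ∨ (j : ℕ) + 1 = i) := by
    intro i j
    rw [Φ.comm _ (hmem i) _ (hmem j)]
    have h := (hch i i.2 j j.2).2
    by_cases hij : (i : ℕ) + 1 = j ∨ (j : ℕ) + 1 = i
    · rw [if_pos (by simpa using hij)] at h
      simp only [hij, not_true_eq_false, iff_false]
      intro he
      simp only [hk] at he
      rw [he] at h
      simp at h
    · rw [if_neg (by simpa using hij)] at h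
      simp only [hij, not_false_eq_true, iff_true]
      exact Nat.eq_of_beq_eq_true h
  have hg : ∀ i, Φ.φ (k i) ∈ nbr D u ∧ Φ.φ (k i) ∈ nbr D x ∧ Φ.φ (k i) ∈ nbr D v := fun i => Φ.mem _ (hmem i)
  set g := fun i => Φ.φ (k i) with hgdef
  -- seen from the first of the chain
  have h0 := hg 0
  obtain ⟨Ψ⟩ := hD.exists_frame h0.1.1 (nbr_symm hx.1 h0.2.1) (nbr_symm hv.1 h0.2.2) hxv
  have hfar : ∀ i : Fin 4, i ≠ 0 → Commute (g 0) (g i) → g i ∈ nbr D (g 0) := by
    intro i hi hc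
    refine ⟨(hg i).1.1, fun he => ?_, hc⟩
    have h01 : ¬ Commute (g i) (g 1) := by
      rw [he]; exact fun h => (hcm 0 1).1 h (Or.inl rfl)
    have h12 : i = 2 ∨ i = 3 := by
      fin_cases i
      · exact absurd rfl hi
      · exact absurd hc fun h => (hcm 0 1).1 h (Or.inl rfl)
      · exact Or.inl rfl
      · exact Or.inr rfl
    rcases h12 with rfl | rfl
    · exact ((hcm 2 3).1 (by rw [show Φ.φ (k 2) = Φ.φ (k 0) from he]; exact (hcm 0 3).2 (by simp))) (Or.inl rfl)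
    · exact h01 ((hcm 3 1).2 (by simp))
  have c02 : Commute (g 0) (g 2) := (hcm 0 2).2 (by simp)
  have c03 : Commute (g 0) (g 3) := (hcm 0 3).2 (by simp)
  obtain ⟨a, ha, hau⟩ := Ψ.surj u (nbr_symm hu h0.1) (nbr_symm hx.1 (nbr_symm hu hx) |> fun _ => nbr_symm hu hx)
    (nbr_symm hu hv)
  obtain ⟨b, hb, hb2⟩ := Ψ.surj (g 2) (hfar 2 (by simp) c02) (hg 2).2.1 (hg 2).2.2
  obtain ⟨c, hc, hc3⟩ := Ψ.surj (g 3) (hfar 3 (by simp) c03) (hg 3).2.1 (hg 3).2.2
  have hab : h4 a b = 0 := (Ψ.comm a ha b hb).1 (by rw [hau, hb2]; exact (hg 2).1.2.2)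
  have hac : h4 a c = 0 := (Ψ.comm a ha c hc).1 (by rw [hau, hc3]; exact (hg 3).1.2.2)
  have hbc : h4 b c ≠ 0 := fun h => ((hcm 2 3).1 (by
    have := (Ψ.comm b hb c hc).2 h
    rwa [hb2, hc3] at this)) (Or.inl rfl)
  have h4th := SliceData.exists_fourth
  simp only [List.all_eq_true, Bool.or_eq_true, Bool.not_eq_true', List.any_eq_true, Bool.and_eq_true] at h4th
  obtain ⟨d, hd, ⟨hdb, hdc⟩, hda⟩ : ∃ d ∈ iso4, (h4 d b = 0 ∧ h4 d c = 0) ∧ h4 d a ≠ 0 := by
    rcases h4th a ha b hb with h | h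
    · rw [hab] at h; simp at h
    rcases h c hc with (h | h) | ⟨d, hd, ⟨h1, h2⟩, h3⟩
    · rw [hac] at h; simp at h
    · exact absurd (Nat.eq_of_beq_eq_true h) hbc
    · exact ⟨d, hd, ⟨Nat.eq_of_beq_eq_true h1, Nat.eq_of_beq_eq_true h2⟩, fun e => by rw [e] at h3; simp at h3⟩
  obtain ⟨dm0, dm1, dm2⟩ := Ψ.mem d hd
  refine ⟨g, Ψ.φ d, hg, hcm, ⟨dm1, dm2⟩, fun h => hda ((Ψ.comm d hd a ha).1 (by rw [hau]; exact h.symm)),
    dm0.2.2, ?_, ?_⟩
  · rw [← hb2]; exact ((Ψ.comm d hd b hb).2 hdb).symm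
  · rw [← hc3]; exact ((Ψ.comm d hd c hc).2 hdc).symm

/-- A basis on the generators. -/
theorem exists_basis (M : UModel (nbr D v)) : ∃ a < 2, ∃ R : Coded M a, ∃ g1 g2 g3 g4 m : G,
    (∀ z ∈ ({g1, g2, g3, g4} : Set G), z ∈ nbr D u ∧ z ∈ nbr D x ∧ z ∈ nbr D v) ∧ m ∈ nbr D x ∧
    R.At u 1 ∧ R.At g1 4 ∧ R.At g2 16 ∧ R.At g3 64 ∧ R.At g4 256 ∧ R.At m 1024 := by
  obtain ⟨g, m, hg, hcm, ⟨hmx, hmv⟩, hum, hm0, hm2, hm3⟩ := hD.exists_gens hu hx hv hxv
  obtain ⟨N⟩ := exists_numField M.C M.hq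
  have huv : u ∈ nbr D v := nbr_symm hu hv
  set H := fun y z => herm M.C (M.vec y) (M.vec z) with hH
  have hne : ∀ {y z}, y ∈ nbr D v → z ∈ nbr D v → ¬ Commute y z → H y z ≠ 0 := fun hy hz h h0 =>
    h ((M.comm _ hy _ hz).2 h0)
  have hze : ∀ {y z}, y ∈ nbr D v → z ∈ nbr D v → Commute y z → H y z = 0 := fun hy hz h =>
    (M.comm _ hy _ hz).1 h
  have gv : ∀ i, g i ∈ nbr D v := fun i => (hg i).2.2
  have n01 : H (g 0) (g 1) ≠ 0 := hne (gv 0) (gv 1) fun h => (hcm 0 1).1 h (Or.inl rfl)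
  have n12 : H (g 1) (g 2) ≠ 0 := hne (gv 1) (gv 2) fun h => (hcm 1 2).1 h (Or.inl rfl)
  have n23 : H (g 2) (g 3) ≠ 0 := hne (gv 2) (gv 3) fun h => (hcm 2 3).1 h (Or.inl rfl)
  have num : H u m ≠ 0 := hne huv hmv hum
  -- the factors along the chain
  set t1 := (M.C.σ (H (g 0) (g 1)))⁻¹ with ht1
  set t2 := (M.C.σ (t1 * H (g 1) (g 2)))⁻¹ with ht2
  set t3 := (M.C.σ (t2 * H (g 2) (g 3)))⁻¹ with ht3
  set t5 := (M.C.σ (H u m))⁻¹ with ht5
  have σne : ∀ {z : M.K}, z ≠ 0 → (M.C.σ z)⁻¹ ≠ 0 := fun hz => inv_ne_zero ((_root_.map_ne_zero _).2 hz)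
  have t1' : t1 ≠ 0 := σne n01
  have t2' : t2 ≠ 0 := σne (mul_ne_zero t1' n12)
  have t3' : t3 ≠ 0 := σne (mul_ne_zero t2' n23)
  have t5' : t5 ≠ 0 := σne num
  have one : ∀ {r z : M.K}, r * z ≠ 0 → r * (M.C.σ ((M.C.σ (r * z))⁻¹) * z) = 1 := fun {r z} h => by
    rw [map_inv₀, M.C.invol, ← mul_assoc, mul_comm r, mul_assoc, inv_mul_cancel₀ h]
  -- the entry between the second of the chain and `m`
  set h := t1 * (M.C.σ t5 * H (g 1) m) with hh
  obtain ⟨lam, a, ha2, hlam, hla⟩ : ∃ lam : M.K, ∃ a, a < 2 ∧ lam ≠ 0 ∧ lam * h = N.e a := by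
    by_cases h0 : h = 0
    · exact ⟨1, 0, by norm_num, one_ne_zero, by rw [h0, mul_zero, N.zero]⟩
    · exact ⟨h⁻¹, 1, by norm_num, inv_ne_zero h0, by rw [inv_mul_cancel₀ h0, N.one]⟩
  set y : Fin 6 → G := ![u, g 0, g 1, g 2, g 3, m] with hy
  set t : Fin 6 → M.K := ![1, lam, lam * t1, lam * t2, lam * t3, t5] with ht
  set b : Fin 6 → I6 → M.K := fun i => t i • M.vec (y i) with hb
  have hll : lam * M.C.σ lam = 1 := norm_eq_one M.C M.hq hlam
  have hyv : ∀ i, y i ∈ nbr D v := by intro i; fin_cases i <;> first | exact huv | exact gv _ | exact hmv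
  have ht0 : ∀ i, t i ≠ 0 := by
    intro i; fin_cases i <;> simp [ht, hlam, t1', t2', t3', t5']
  have e05 : herm M.C (b 0) (b 5) = 1 := by
    simp only [hb, hy, ht]
    show herm M.C ((1 : M.K) • M.vec u) (t5 • M.vec m) = 1
    rw [herm_smul_left, herm_smul_right, ht5]
    have h1 := one (r := 1) (z := H u m) (by rw [one_mul]; exact num)
    rw [one_mul] at h1
    simpa [H] using h1
  have chain : ∀ {p q : M.K} {y z : G}, p * H y z ≠ 0 → q = (M.C.σ (p * H y z))⁻¹ →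
      herm M.C ((lam * p) • M.vec y) ((lam * q) • M.vec z) = 1 := by
    intro p q y z hn hq
    rw [herm_smul_left, herm_smul_right, map_mul, hq]
    calc lam * p * (M.C.σ lam * M.C.σ (M.C.σ (p * H y z))⁻¹ * H y z)
        = lam * M.C.σ lam * (p * (M.C.σ (M.C.σ (p * H y z))⁻¹ * H y z)) := by ring
      _ = 1 := by rw [one hn, hll, one_mul]
  have e12 : herm M.C (b 1) (b 2) = 1 := by
    have := chain (p := 1) (q := t1) (y := g 0) (z := g 1) (by rw [one_mul]; exact n01) (by rw [one_mul])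
    rw [mul_one] at this
    exact this
  have e23 : herm M.C (b 2) (b 3) = 1 := chain (mul_ne_zero t1' n12) ht2
  have e34 : herm M.C (b 3) (b 4) = 1 := chain (mul_ne_zero t2' n23) ht3
  have e25 : herm M.C (b 2) (b 5) = N.e a := by
    show herm M.C ((lam * t1) • M.vec (g 1)) (t5 • M.vec m) = _
    rw [herm_smul_left, herm_smul_right, ← hla, hh]
    ring
  have orth : ∀ i j, Commute (y i) (y j) → herm M.C (b i) (b j) = 0 := fun i j hc => by
    simp only [hb, herm_smul_left, herm_smul_right]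
    have := hze (hyv i) (hyv j) hc
    simp only [H] at this
    rw [this, mul_zero, mul_zero]
  have flip : ∀ {i j} {e : ℕ}, e < 2 → herm M.C (b i) (b j) = N.e e → herm M.C (b j) (b i) = N.e e := by
    intro i j e he hij
    rw [← conj_herm, hij]
    interval_cases e
    · rw [N.zero, map_zero]
    · rw [N.one, map_one]
  have cgg : ∀ i j : Fin 4, ¬ ((i : ℕ) + 1 = j ∨ (j : ℕ) + 1 = i) → Commute (g i) (g j) := fun i j hij =>
    (hcm i j).2 hij
  have z00 := orth 0 0 (Commute.refl _); have z11 := orth 1 1 (Commute.refl _)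
  have z22 := orth 2 2 (Commute.refl _); have z33 := orth 3 3 (Commute.refl _)
  have z44 := orth 4 4 (Commute.refl _); have z55 := orth 5 5 (Commute.refl _)
  have z01 := orth 0 1 (hg 0).1.2.2; have z02 := orth 0 2 (hg 1).1.2.2
  have z03 := orth 0 3 (hg 2).1.2.2; have z04 := orth 0 4 (hg 3).1.2.2
  have z13 := orth 1 3 (cgg 0 2 (by simp)); have z14 := orth 1 4 (cgg 0 3 (by simp))
  have z24 := orth 2 4 (cgg 1 3 (by simp)); have z15 := orth 1 5 hm0
  have z35 := orth 3 5 hm2; have z45 := orth 4 5 hm3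
  have gram : ∀ i j, herm M.C (b i) (b j) = N.e (gT a i j) := by
    have hbase : ∀ i j : Fin 6, i ≤ j → herm M.C (b i) (b j) = N.e (gT a i j) := by
      intro i j hij
      fin_cases i <;> fin_cases j <;>
        first
          | exact absurd hij (by decide)
          | (simp only [gT, N.zero, N.one, Fin.zero_eta, Fin.mk_one, Fin.isValue, Fin.reduceFinMk]
             first
               | exact z00 | exact z11 | exact z22 | exact z33 | exact z44 | exact z55 | exact z01 | exact z02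
               | exact z03 | exact z04 | exact z13 | exact z14 | exact z24 | exact z15 | exact z35 | exact z45
               | exact e05 | exact e12 | exact e23 | exact e34 | exact e25)
    intro i j
    rcases le_total i j with h' | h'
    · exact hbase i j h'
    · have hs : gT a i j = gT a j i ∧ gT a j i < 2 := by
        fin_cases i <;> fin_cases j <;> refine ⟨rfl, ?_⟩ <;> first | exact ha2 | exact Nat.zero_lt_two | exact Nat.one_lt_two
      rw [hs.1]
      exact flip hs.2 (hbase j i h')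
  have hat : ∀ i : Fin 6, (⟨N, b, gram⟩ : Coded M a).At (y i) (4 ^ (i : ℕ)) := fun i =>
    Coded.at_basis _ i (hyv i) (ht0 i) rfl
  refine ⟨a, ha2, ⟨N, b, gram⟩, g 0, g 1, g 2, g 3, m, ?_, hmx, hat 0, hat 1, hat 2, hat 3, hat 4, hat 5⟩
  rintro z (rfl | rfl | rfl | rfl) <;> exact hg _

variable {M : UModel (nbr D v)} {a : ℕ} (R : Coded M a) (ha : a < 2) (hu1 : R.At u 1)
include ha hu1

/-- The members next to `u` are told apart by the middles of their coordinates. -/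
theorem mid_injective {y z : G} {c d : ℕ} (hy : y ∈ nbr D u ∧ y ∈ nbr D x) (hz : z ∈ nbr D u ∧ z ∈ nbr D x)
    (hyc : R.At y c) (hzd : R.At z d) (he : midN c = midN d) : y = z ∧ midN c ≠ 0 ∧ midN c ∈ mids := by
  obtain ⟨Φ⟩ := hD.exists_frame hu hx hv hxv
  have hmid : ∀ {y : G} {c : ℕ}, y ∈ nbr D u → R.At y c →
      dg c 5 = 0 ∧ rawMid c < 256 ∧ midN c = normN (rawMid c) ∧ rawMid c ≠ 0 ∧
        R.vec6 c = R.N.e (dg c 0) • R.vec6 1 + R.vec6 (4 * rawMid c) := by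
    intro y c hyu hc
    have h0 : hT a c 1 = 0 := (R.at_comm ha hc hu1).1 hyu.2.2.symm
    have h5 : dg c 5 = 0 := by
      have h := List.all_eq_true.1 SliceData.orth_e c (List.mem_range.2 hc.2.1)
      simp only [Bool.and_eq_true] at h
      interval_cases a
      · rw [← Nat.eq_of_beq_eq_true h.1, h0]
      · rw [← Nat.eq_of_beq_eq_true h.2, h0]
    have h := List.all_eq_true.1 SliceData.raw_mid c (List.mem_range.2 hc.2.1)
    simp only [Bool.and_eq_true, Bool.or_eq_true, Nat.blt_eq, Bool.not_eq_true', h5] at h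
    obtain ⟨⟨e1, e2⟩, h'⟩ := h
    obtain ⟨⟨e3, -⟩, e4⟩ := h'.resolve_left (by simp)
    refine ⟨h5, e2, Nat.eq_of_beq_eq_true e1, fun hr => ?_, ?_⟩
    · have e : c = dg c 0 := by simpa [hr] using Nat.eq_of_beq_eq_true e3
      have hne : dg c 0 ≠ 0 := fun h => hc.2.2.1 (e.trans h)
      have hz := List.all_eq_true.1 SliceData.zero_mid (dg c 0) (List.mem_range.2 (dg_lt c 0))
      simp only [Bool.or_eq_true] at hz
      have h1 := Nat.eq_of_beq_eq_true (hz.resolve_left (by simpa using hne))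
      rw [← e, hc.2.2.2.1] at h1
      exact hyu.2.1 (R.at_inj hc (h1 ▸ hu1))
    · have hs : smN (dg c 0) 1 = dg c 0 := by
        have : ∀ t < 4, smN t 1 = t := by decide +kernel
        exact this _ (dg_lt c 0)
      conv_lhs => rw [Nat.eq_of_beq_eq_true e4]
      rw [R.vec6_xor]
      conv_lhs => arg 1; rw [← hs, R.vec6_smN (dg_lt c 0)]
  obtain ⟨-, y1, y2, y3, y4⟩ := hmid hy.1 hyc
  obtain ⟨-, z1, z2, z3, z4⟩ := hmid hz.1 hzd
  have hmf : ∀ {w : ℕ}, w < 256 → w ≠ 0 → smN (lead w) (normN w) = w ∧ lead w < 4 ∧ lead w ≠ 0 ∧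
      hT 0 (4 * w) (4 * w) = hT 1 (4 * w) (4 * w) ∧ normN w < 256 := by
    intro w hw hw0
    have h := List.all_eq_true.1 SliceData.mid_facts w (List.mem_range.2 hw)
    simp only [Bool.and_eq_true, Bool.or_eq_true, Nat.blt_eq, Bool.not_eq_true'] at h
    obtain ⟨⟨⟨⟨a1, a2⟩, a3⟩, a4⟩, a5⟩ := h.resolve_left (by simpa using hw0)
    exact ⟨Nat.eq_of_beq_eq_true a1, a2, fun e => by simp [e] at a3, Nat.eq_of_beq_eq_true a4, a5⟩
  obtain ⟨p1, p2, p3, p4, p5⟩ := hmf y1 y3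
  obtain ⟨q1, q2, q3, -, -⟩ := hmf z1 z3
  have four : ∀ {t w : ℕ}, t < 4 → w < 256 → 4 * smN t w = smN t (4 * w) := by
    have h : (List.range 4).all (fun t => (List.range 256).all fun w =>
        Nat.beq (4 * smN t w) (smN t (4 * w))) = true := by decide +kernel
    exact fun {t w} ht hw => Nat.eq_of_beq_eq_true
      (List.all_eq_true.1 (List.all_eq_true.1 h t (List.mem_range.2 ht)) w (List.mem_range.2 hw))
  have hlin : ∀ {w : ℕ}, w < 256 → w ≠ 0 → R.vec6 (4 * w) = R.N.e (lead w) • R.vec6 (4 * normN w) := by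
    intro w hw hw0
    obtain ⟨r1, r2, -, -, r5⟩ := hmf hw hw0
    conv_lhs => rw [← r1, four r2 r5, R.vec6_smN r2]
  have le0 : ∀ {w : ℕ}, lead w < 4 → lead w ≠ 0 → R.N.e (lead w) ≠ 0 := fun hl hl0 h =>
    hl0 ((R.N.eq_zero_iff hl).1 h)
  have hn0 : normN (rawMid c) ≠ 0 := fun h => by
    rw [h] at p1
    have : ∀ t < 4, smN t 0 = 0 := by decide +kernel
    exact y3 (p1.symm.trans (this _ p2))
  refine ⟨?_, y2 ▸ hn0, ?_⟩
  · obtain ⟨i, hi, rfl⟩ := Φ.surj y hy.1 hy.2 hyc.1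
    obtain ⟨j, hj, rfl⟩ := Φ.surj z hz.1 hz.2 hzd.1
    by_contra hne
    have h := SliceData.no_twins
    simp only [List.all_eq_true, Bool.or_eq_true, List.any_eq_true, Bool.and_eq_true, Bool.not_eq_true'] at h
    rcases h i hi j hj with h' | ⟨t, ht, h1, h2⟩
    · exact hne (congrArg Φ.φ (Nat.eq_of_beq_eq_true h'))
    obtain ⟨tm0, tm1, tm2⟩ := Φ.mem t ht
    obtain ⟨e, he'⟩ := R.exists_at ha tm2
    obtain ⟨-, -, -, t0, htv⟩ := id he'
    have hc1 : Commute (Φ.φ i) (Φ.φ t) := (Φ.comm i hi t ht).2 (Nat.eq_of_beq_eq_true h1)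
    have hc2 : ¬ Commute (Φ.φ j) (Φ.φ t) := fun hc => by
      rw [(Φ.comm j hj t ht).1 hc] at h2; simp at h2
    rw [R.at_comm ha hyc he'] at hc1
    rw [R.at_comm ha hzd he'] at hc2
    refine hc2 ((R.N.eq_zero_iff (hT_lt _ _)).1 ?_)
    have hue : herm M.C (R.vec6 1) (R.vec6 e) = 0 := by
      rw [R.herm_vec6 ha, (R.at_comm ha hu1 he').1 tm0.2.2, R.N.zero]
    have E1 : herm M.C (R.vec6 c) (R.vec6 e) = 0 := by rw [R.herm_vec6 ha, hc1, R.N.zero]
    rw [y4, hlin y1 y3, herm_add_left, herm_smul_left, herm_smul_left, hue, mul_zero, zero_add,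
      mul_eq_zero, or_iff_right (le0 p2 p3)] at E1
    rw [← R.herm_vec6 ha, z4, hlin z1 z3, herm_add_left, herm_smul_left, herm_smul_left, hue, mul_zero,
      zero_add, ← z2, ← he, y2, E1, mul_zero]
  · rw [y2]
    have hiso : herm M.C (R.vec6 (4 * rawMid c)) (R.vec6 (4 * rawMid c)) = 0 := by
      obtain ⟨t, ht, htv⟩ := hyc.2.2.2.2
      have h0 : herm M.C (R.vec6 c) (R.vec6 c) = 0 := by
        have := (M.iso y hyc.1).1
        rw [htv, herm_smul_left, herm_smul_right] at this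
        simpa [ht] using this
      have h1 : herm M.C (R.vec6 1) (R.vec6 1) = 0 := by
        have : ∀ a < 2, hT a 1 1 = 0 := by decide +kernel
        rw [R.herm_vec6 ha, this a ha, R.N.zero]
      have h2 : herm M.C (R.vec6 (4 * rawMid c)) (R.vec6 1) = 0 := by
        have e0 : herm M.C (R.vec6 c) (R.vec6 1) = 0 := by
          rw [R.herm_vec6 ha, (R.at_comm ha hyc hu1).1 hy.1.2.2.symm, R.N.zero]
        rw [y4, herm_add_left, herm_smul_left, h1, mul_zero, zero_add] at e0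
        exact e0
      have h3 : herm M.C (R.vec6 1) (R.vec6 (4 * rawMid c)) = 0 := by rw [← conj_herm, h2, map_zero]
      rw [y4] at h0
      simpa only [herm_add_left, herm_add_right, herm_smul_left, herm_smul_right, h1, h2, h3, mul_zero,
        zero_add, add_zero] using h0
    have hz0 : hT 0 (4 * normN (rawMid c)) (4 * normN (rawMid c)) = 0 := by
      have e := (hmf p5 hn0).2.2.2.1
      have hz : hT a (4 * normN (rawMid c)) (4 * normN (rawMid c)) = 0 := by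
        rw [hlin y1 y3, herm_smul_left, herm_smul_right, R.herm_vec6 ha] at hiso
        refine (R.N.eq_zero_iff (hT_lt _ _)).1 ?_
        simpa [le0 p2 p3] using hiso
      interval_cases a
      · exact hz
      · rw [e]; exact hz
    obtain ⟨-, hcomp⟩ := SliceData.mids_complete.2
    have h := List.all_eq_true.1 hcomp (normN (rawMid c)) (List.mem_range.2 p5)
    simp only [Bool.or_eq_true, decide_eq_true_eq, Bool.not_eq_true'] at h
    have hidem := (norm_spec (show rawMid c < 4096 by omega) y3).2.1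
    rcases h with ((h | h) | h) | h
    · exact absurd (Nat.eq_of_beq_eq_true h) hn0
    · rw [hidem] at h; simp at h
    · rw [hz0] at h; simp at h
    · exact h

/-- Every middle occurs next to `u`. -/
theorem exists_mid {w : ℕ} (hw : w ∈ mids) :
    ∃ y c, y ∈ nbr D u ∧ y ∈ nbr D x ∧ R.At y c ∧ midN c = w := by
  classical
  obtain ⟨Φ⟩ := hD.exists_frame hu hx hv hxv
  have hc : ∀ c ∈ iso4, ∃ k, R.At (Φ.φ c) k := fun c hc => R.exists_at ha (Φ.mem c hc).2.2
  choose k hk using hc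
  have hf : ∀ c (hc : c ∈ iso4), midN (k c hc) ∈ mids.toFinset := fun c hc => by
    rw [List.mem_toFinset]
    exact (hD.mid_injective hu hx hv hxv R ha hu1 ⟨(Φ.mem c hc).1, (Φ.mem c hc).2.1⟩
      ⟨(Φ.mem c hc).1, (Φ.mem c hc).2.1⟩ (hk c hc) (hk c hc) rfl).2.2
  obtain ⟨l1, n1, -, -⟩ := SliceData.iso4_complete
  let f : {c // c ∈ iso4.toFinset} → {w // w ∈ mids.toFinset} := fun c =>
    ⟨midN (k c.1 (List.mem_toFinset.1 c.2)), hf c.1 (List.mem_toFinset.1 c.2)⟩
  have hinj : Function.Injective f := fun c d h => by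
    have hc := List.mem_toFinset.1 c.2
    have hd := List.mem_toFinset.1 d.2
    exact Subtype.ext (Φ.inj _ hc _ hd (hD.mid_injective hu hx hv hxv R ha hu1
      ⟨(Φ.mem _ hc).1, (Φ.mem _ hc).2.1⟩ ⟨(Φ.mem _ hd).1, (Φ.mem _ hd).2.1⟩ (hk _ hc) (hk _ hd)
      (congrArg Subtype.val h)).1)
  have hle : Fintype.card {w // w ∈ mids.toFinset} ≤ Fintype.card {c // c ∈ iso4.toFinset} := by
    simp only [Fintype.card_coe]
    rw [List.toFinset_card_of_nodup n1, l1]
    exact (List.toFinset_card_le _).trans_eq SliceData.mids_complete.1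
  obtain ⟨c, hcw⟩ := (hinj.bijective_of_nat_card_le (by simpa only [Nat.card_eq_fintype_card] using hle)).2
    ⟨w, List.mem_toFinset.2 hw⟩
  have hc := List.mem_toFinset.1 c.2
  exact ⟨Φ.φ c, k _ hc, (Φ.mem _ hc).1, (Φ.mem _ hc).2.1, hk _ hc, congrArg Subtype.val hcw⟩

/-- The seventh point. -/
theorem exists_seed : ∃ c0 < 4, ∃ s, s ∈ nbr D u ∧ s ∈ nbr D x ∧ R.At s (normN (c0 + 4 * wStar)) := by
  obtain ⟨y, c, hyu, hyx, hc, hcw⟩ := hD.exists_mid hu hx hv hxv R ha hu1 SliceData.mids_complete.2.1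
  have h0 : hT a c 1 = 0 := (R.at_comm ha hc hu1).1 hyu.2.2.symm
  have h5 : dg c 5 = 0 := by
    have h := List.all_eq_true.1 SliceData.orth_e c (List.mem_range.2 hc.2.1)
    simp only [Bool.and_eq_true] at h
    interval_cases a
    · rw [← Nat.eq_of_beq_eq_true h.1, h0]
    · rw [← Nat.eq_of_beq_eq_true h.2, h0]
  have hlt : c < 1024 := by
    have h := List.all_eq_true.1 SliceData.raw_mid c (List.mem_range.2 hc.2.1)
    simp only [Bool.and_eq_true, Bool.or_eq_true, Nat.blt_eq, Bool.not_eq_true', h5] at h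
    exact (h.2.resolve_left (by simp)).1.2
  have h := List.all_eq_true.1 SliceData.seed_cases c (List.mem_range.2 hlt)
  simp only [Bool.or_eq_true, Bool.not_eq_true', List.any_eq_true, List.mem_range] at h
  rcases h with ((h | h) | h) | ⟨c0, hc0, h⟩
  · exact absurd (Nat.eq_of_beq_eq_true h) hc.2.2.1
  · rw [hc.2.2.2.1] at h; simp at h
  · rw [hcw] at h; simp at h
  · exact ⟨c0, hc0, y, hyu, hyx, Nat.eq_of_beq_eq_true h ▸ hc⟩

/-- The closure of the seeds consists of common neighbours. -/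
theorem exists_of_ops {c0 : ℕ} (hs : ∀ c ∈ seeds c0, ∃ z ∈ nbr D x, R.At z c) {ops : List (ℕ × ℕ × ℕ)}
    (hok : SliceData.okOps a c0 ops = true) :
    ∀ k < (pts c0 ops).length, ∃ z ∈ nbr D x, R.At z ((pts c0 ops).getD k 0) := by
  have hl : (seeds c0).length = 7 := rfl
  intro k
  induction k using Nat.strong_induction_on with
  | _ k ih =>
    intro hk
    rcases lt_or_ge k 7 with hk7 | hk7
    · rw [pts, List.getD_append _ _ _ _ (hl.symm ▸ hk7), List.getD_eq_getElem _ _ (hl.symm ▸ hk7)]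
      exact hs _ (List.getElem_mem _)
    · simp only [pts, List.length_append, List.length_map, hl] at hk
      have hk' : k - 7 < ops.length := by omega
      have h := List.all_eq_true.1 hok (k - 7) (List.mem_range.2 hk')
      have e : (pts c0 ops).getD k 0 = (ops.getD (k - 7) (0, 0, 0)).1 := by
        rw [pts, List.getD_append_right _ _ _ _ (hl.symm ▸ hk7), hl,
          List.getD_eq_getElem _ _ (by simpa using hk'), List.getD_eq_getElem _ _ hk', List.getElem_map]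
      obtain ⟨n, i, j, hn⟩ : ∃ n i j, ops.getD (k - 7) (0, 0, 0) = (n, i, j) := ⟨_, _, _, rfl⟩
      simp only [hn, Bool.and_eq_true, Nat.blt_eq] at h
      obtain ⟨⟨hi, hj⟩, hnm⟩ := h
      obtain ⟨y, hy, hyc⟩ := ih i (by omega) (by simp only [pts, List.length_append, List.length_map, hl]; omega)
      obtain ⟨w, hw, hwc⟩ := hs ((seeds c0).getD j 0) (by
        rw [List.getD_eq_getElem _ _ (hl.symm ▸ hj)]; exact List.getElem_mem _)
      refine ⟨w * y * w, (hD.closed_common y ⟨hy, hyc.1⟩ w ⟨hw, hwc.1⟩).1, ?_⟩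
      rw [e, hn, Nat.eq_of_beq_eq_true hnm]
      exact R.at_conj ha hyc hwc

/-- Two points above one middle are impossible. -/
theorem no_clash {P wit : List ℕ} (hP : ∀ k < P.length, ∃ z ∈ nbr D x, R.At z (P.getD k 0)) :
    SliceData.clash a P wit = false := by
  by_contra h
  rw [Bool.not_eq_false] at h
  simp only [SliceData.clash, Bool.and_eq_true, Nat.blt_eq, Bool.not_eq_true'] at h
  obtain ⟨⟨⟨⟨⟨⟨h1, h2⟩, hne⟩, p1⟩, q1⟩, he⟩, h0⟩ := h
  obtain ⟨y, hy, hyc⟩ := hP _ h1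
  obtain ⟨z, hz, hzc⟩ := hP _ h2
  have he' := Nat.eq_of_beq_eq_true he
  have hyu : y ≠ u := fun e => by
    rw [R.at_unique ha hyc (e ▸ hu1)] at h0
    exact Bool.false_ne_true (h0.symm.trans (by decide +kernel))
  have hzu : z ≠ u := fun e => by
    rw [he', R.at_unique ha hzc (e ▸ hu1)] at h0
    exact Bool.false_ne_true (h0.symm.trans (by decide +kernel))
  have h := (hD.mid_injective hu hx hv hxv R ha hu1
    ⟨⟨hy.1, hyu, ((R.at_comm ha hyc hu1).2 (Nat.eq_of_beq_eq_true p1)).symm⟩, hy⟩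
    ⟨⟨hz.1, hzu, ((R.at_comm ha hzc hu1).2 (Nat.eq_of_beq_eq_true q1)).symm⟩, hz⟩ hyc hzc he').1
  rw [R.at_unique ha hyc (h ▸ hzc)] at hne
  simp at hne

omit ha hu1

/-- Four points next to two non-commuting ones are too many. -/
theorem no_four {g m : G} {R : Coded M 0} (hu1 : R.At u 1)
    (hg : g ∈ nbr D u ∧ g ∈ nbr D x ∧ g ∈ nbr D v) (hg4 : R.At g 4) (hm : m ∈ nbr D x) (hm5 : R.At m 1024)
    (hP : ∀ k < (pts 0 SliceData.ops00).length, ∃ z ∈ nbr D x, R.At z ((pts 0 SliceData.ops00).getD k 0)) :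
    False := by
  classical
  have ha : 0 < 2 := by norm_num
  obtain ⟨Ψ⟩ := hD.exists_frame hg.1.1 (nbr_symm hx.1 hg.2.1) (nbr_symm hv.1 hg.2.2) hxv
  have hmv : m ∈ nbr D v := hm5.1
  have h4m : Commute g m := (R.at_comm ha hg4 hm5).2 (by decide +kernel)
  have hmg : m ≠ g := fun e => absurd (R.at_unique ha hm5 (e ▸ hg4)) (by norm_num)
  obtain ⟨p, hp, hpu⟩ := Ψ.surj u (nbr_symm hu hg.1) (nbr_symm hu hx) (nbr_symm hu hv)
  obtain ⟨q, hq, hqm⟩ := Ψ.surj m ⟨hm.1, hmg, h4m⟩ hm hmv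
  have hpq : h4 p q ≠ 0 := fun h => by
    have e := (Ψ.comm p hp q hq).2 h
    rw [hpu, hqm, R.at_comm ha hu1 hm5] at e
    exact absurd e (by decide +kernel)
  obtain ⟨hnd, hlen, hall⟩ := SliceData.four00
  simp only [List.all_eq_true, Bool.and_eq_true, Nat.blt_eq, Bool.not_eq_true'] at hall
  have hz : ∀ c ∈ SliceData.wit00.map (fun k => (pts 0 SliceData.ops00).getD k 0),
      ∃ t ∈ iso4, h4 p t = 0 ∧ h4 q t = 0 ∧ R.At (Ψ.φ t) c := by
    intro c hc
    obtain ⟨k, hk, rfl⟩ := List.mem_map.1 hc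
    obtain ⟨hkl, hk'⟩ := hall k hk
    obtain ⟨z, hz, hzc⟩ := hP k hkl
    have hzg : z ≠ g := fun e => by
      have h := (hk' 4 (by simp)).2
      rw [R.at_unique ha hzc (e ▸ hg4)] at h
      simp at h
    obtain ⟨t, ht, rfl⟩ := Ψ.surj z
      ⟨hz.1, hzg, ((R.at_comm ha hzc hg4).2 (Nat.eq_of_beq_eq_true (hk' 4 (by simp)).1)).symm⟩ hz hzc.1
    refine ⟨t, ht, (Ψ.comm p hp t ht).1 ?_, (Ψ.comm q hq t ht).1 ?_, hzc⟩
    · rw [hpu]; exact ((R.at_comm ha hzc hu1).2 (Nat.eq_of_beq_eq_true (hk' 1 (by simp)).1)).symm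
    · rw [hqm]; exact ((R.at_comm ha hzc hm5).2 (Nat.eq_of_beq_eq_true (hk' 1024 (by simp)).1)).symm
  set L := SliceData.wit00.map (fun k => (pts 0 SliceData.ops00).getD k 0) with hL
  choose t ht h1 h2 h3 using hz
  have h3c := List.all_eq_true.1 (List.all_eq_true.1 SliceData.three_common p hp) q hq
  simp only [Bool.or_eq_true] at h3c
  have hlen3 := Nat.eq_of_beq_eq_true (h3c.resolve_left fun h => hpq (Nat.eq_of_beq_eq_true h))
  have hsub : (L.attach.map fun c => t c.1 c.2).toFinset ⊆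
      (iso4.filter fun s => Nat.beq (h4 p s) 0 && Nat.beq (h4 q s) 0).toFinset := by
    intro s hs
    obtain ⟨⟨c, hc⟩, -, rfl⟩ := List.mem_map.1 (List.mem_toFinset.1 hs)
    rw [List.mem_toFinset, List.mem_filter]
    exact ⟨ht c hc, Bool.and_eq_true_iff.2 ⟨by rw [h1 c hc]; rfl, by rw [h2 c hc]; rfl⟩⟩
  have hnd' : (L.attach.map fun c => t c.1 c.2).Nodup :=
    (List.nodup_attach.2 hnd).map_on fun c _ d _ e => Subtype.ext (R.at_unique ha (h3 c.1 c.2) (by
      rw [e]; exact h3 d.1 d.2))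
  have hcard := Finset.card_le_card hsub
  rw [List.toFinset_card_of_nodup hnd', List.length_map, List.length_attach] at hcard
  have hl4 : L.length = 4 := by rw [hL, List.length_map, hlen]
  have := hcard.trans ((List.toFinset_card_le _).trans_eq hlen3)
  omega

/-- The common neighbours are the standard 126 points. -/
theorem exists_sliceRep (M : UModel (nbr D v)) : Nonempty (SliceRep D x v M) := by
  classical
  obtain ⟨a, ha, R, g1, g2, g3, g4, m, hg, hm, hu1, h1, h2, h3, h4', h5⟩ := hD.exists_basis hu hx hv hxv M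
  obtain ⟨c0, hc0, s, hsu, hsx, hs⟩ := hD.exists_seed hu hx hv hxv R ha hu1
  have hseeds : ∀ c ∈ seeds c0, ∃ z ∈ nbr D x, R.At z c := by
    intro c hc
    simp only [seeds, List.mem_cons, List.not_mem_nil, or_false] at hc
    rcases hc with rfl | rfl | rfl | rfl | rfl | rfl | rfl
    exacts [⟨u, nbr_symm hu hx, hu1⟩, ⟨g1, (hg g1 (by simp)).2.1, h1⟩, ⟨g2, (hg g2 (by simp)).2.1, h2⟩,
      ⟨g3, (hg g3 (by simp)).2.1, h3⟩, ⟨g4, (hg g4 (by simp)).2.1, h4'⟩, ⟨m, hm, h5⟩, ⟨s, hsx, hs⟩]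
  obtain ⟨o00, o01, o02, o03, o10, o11, o12, o13⟩ := SliceData.ok_ops
  obtain ⟨k1, k2, k3, k4, k5, k6⟩ := SliceData.clashes
  have bad : ∀ {ops : List (ℕ × ℕ × ℕ)} {wit : List ℕ}, SliceData.okOps a c0 ops = true →
      SliceData.clash a (pts c0 ops) wit = true → False := fun ho hc => by
    rw [hD.no_clash hu hx hv hxv R ha hu1 (hD.exists_of_ops hu hx hv hxv R ha hu1 hseeds ho)] at hc
    exact Bool.false_ne_true hc
  obtain ⟨rfl, rfl⟩ : a = 1 ∧ c0 = 3 := by
    interval_cases a <;> interval_cases c0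
    · exact (hD.no_four hu hx hv hxv hu1 (hg g1 (by simp)) h1 hm h5
        (hD.exists_of_ops hu hx hv hxv R ha hu1 hseeds o00)).elim
    · exact (bad o01 k1).elim
    · exact (bad o02 k2).elim
    · exact (bad o03 k3).elim
    · exact (bad o10 k4).elim
    · exact (bad o11 k5).elim
    · exact (bad o12 k6).elim
    · exact ⟨rfl, rfl⟩
  have hall : ∀ c ∈ pts126, ∃ z ∈ nbr D x, R.At z c := by
    intro c hc
    obtain ⟨k, hk, rfl⟩ := List.getElem_of_mem hc
    rw [← List.getD_eq_getElem _ 0 hk]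
    exact hD.exists_of_ops hu hx hv hxv R ha hu1 hseeds o13 k hk
  choose! φ hφ using hall
  refine ⟨⟨R, φ, hφ, fun z hzx hzv => ?_⟩⟩
  have back : ∀ {w : G} {c : ℕ}, c ∈ pts126 → R.At w c → φ c = w := fun hc hw => R.at_inj (hφ _ hc).2 hw
  -- the members next to `u`
  have hSu : ∀ w, w ∈ nbr D u → w ∈ nbr D x → w ∈ nbr D v → ∃ p ∈ pts126, p ≠ 1 ∧ hT 1 p 1 = 0 ∧ φ p = w := by
    intro w hwu hwx hwv
    obtain ⟨c, hc⟩ := R.exists_at ha hwv
    have hmem := (hD.mid_injective hu hx hv hxv R ha hu1 ⟨hwu, hwx⟩ ⟨hwu, hwx⟩ hc hc rfl).2.2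
    have h := List.all_eq_true.1 SliceData.mids_covered _ hmem
    simp only [List.any_eq_true, Bool.and_eq_true, Bool.not_eq_true'] at h
    obtain ⟨p, hp, ⟨hp1, hpne⟩, hpm⟩ := h
    have hpne' : p ≠ 1 := fun e => by simp [e] at hpne
    obtain ⟨hpx, hpc⟩ := hφ p hp
    have hpu : φ p ∈ nbr D u := ⟨hpx.1, fun e => hpne' (R.at_unique ha hpc (e ▸ hu1)),
      ((R.at_comm ha hpc hu1).2 (Nat.eq_of_beq_eq_true hp1)).symm⟩
    exact ⟨p, hp, hpne', Nat.eq_of_beq_eq_true hp1,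
      (hD.mid_injective hu hx hv hxv R ha hu1 ⟨hpu, hpx⟩ ⟨hwu, hwx⟩ hpc hc (Nat.eq_of_beq_eq_true hpm)).1⟩
  -- a common neighbour of `u` and `z`
  obtain ⟨q, r, p, n, hmem, e1, e2, e3, n1, n2, n3⟩ := hD.exists_path hu hx hv hxv
  have hS : ∀ z ∈ ({q, r, p, n} : Set G), z ∈ nbr D u ∩ nbr D x ∩ nbr D v := fun z hz =>
    ⟨⟨(hmem z hz).1, (hmem z hz).2.1⟩, (hmem z hz).2.2⟩
  obtain ⟨w, ⟨⟨hwu, hwx⟩, hwv⟩, hzw⟩ := M.exists_commute_of_path (S := nbr D u ∩ nbr D x ∩ nbr D v)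
    Set.inter_subset_right (fun a ha' b hb' => ⟨⟨hD.conj_mem_nbr hb'.1.1.1 hb'.1.1.2.2 ha'.1.1,
      hD.conj_mem_nbr hb'.1.2.1 hb'.1.2.2.2 ha'.1.2⟩, hD.conj_mem_nbr hb'.2.1 hb'.2.2.2 ha'.2⟩)
    (hS q (by simp)) (hS r (by simp)) (hS p (by simp)) (hS n (by simp)) e1 e2 e3 n1 n2 n3 hzv
  obtain ⟨c, hc, hc1, hcu, rfl⟩ := hSu w hwu hwx hwv
  by_cases hzc : z = φ c
  · exact ⟨c, hc, hzc.symm⟩
  -- all the members next to that one
  obtain ⟨Ψ⟩ := hD.exists_frame hwx.1 (nbr_symm hx.1 hwx) (nbr_symm hv.1 hwv) hxv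
  obtain ⟨i, hi, rfl⟩ := Ψ.surj z ⟨hzx.1, hzc, hzw.symm⟩ hzx hzv
  have hdeg := List.all_eq_true.1 SliceData.degree c hc
  simp only [Bool.or_eq_true, Bool.not_eq_true'] at hdeg
  have hdeg' := Nat.eq_of_beq_eq_true (hdeg.resolve_left (by simp [hc1, hcu]))
  set N := (pts126.filter fun q => !Nat.beq q c && Nat.beq (hT 1 c q) 0).toFinset with hN
  have hNmem : ∀ q ∈ N, q ∈ pts126 ∧ φ q ∈ nbr D (φ c) ∧ φ q ∈ nbr D x ∧ φ q ∈ nbr D v := by
    intro q hq
    rw [hN, List.mem_toFinset, List.mem_filter, Bool.and_eq_true, Bool.not_eq_true'] at hq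
    obtain ⟨hq, hqc, hq0⟩ := hq
    exact ⟨hq, ⟨(hφ q hq).1.1, fun e => by
      rw [R.at_unique ha (hφ q hq).2 (e ▸ (hφ c hc).2)] at hqc; simp at hqc,
      (R.at_comm ha (hφ c hc).2 (hφ q hq).2).2 (Nat.eq_of_beq_eq_true hq0)⟩, (hφ q hq).1, (hφ q hq).2.1⟩
  let f : {q // q ∈ N} → {i // i ∈ iso4.toFinset} := fun q =>
    ⟨(Ψ.surj _ (hNmem q q.2).2.1 (hNmem q q.2).2.2.1 (hNmem q q.2).2.2.2).choose,
      List.mem_toFinset.2 (Ψ.surj _ (hNmem q q.2).2.1 (hNmem q q.2).2.2.1 (hNmem q q.2).2.2.2).choose_spec.1⟩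
  have hf : ∀ q, Ψ.φ (f q).1 = φ q.1 := fun q =>
    (Ψ.surj _ (hNmem q q.2).2.1 (hNmem q q.2).2.2.1 (hNmem q q.2).2.2.2).choose_spec.2
  have hinj : Function.Injective f := fun q r he => Subtype.ext (R.at_unique ha
    (hφ q (hNmem q q.2).1).2 (by rw [← hf q, he, hf r]; exact (hφ r (hNmem r r.2).1).2))
  have hle : Fintype.card {i // i ∈ iso4.toFinset} ≤ Fintype.card {q // q ∈ N} := by
    simp only [Fintype.card_coe, hN]
    rw [List.toFinset_card_of_nodup (SliceData.pts_props.2.1.filter _), hdeg']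
    exact (List.toFinset_card_le _).trans_eq SliceData.iso4_complete.1
  obtain ⟨q, hq⟩ := (hinj.bijective_of_nat_card_le (by simpa only [Nat.card_eq_fintype_card] using hle)).2
    ⟨i, List.mem_toFinset.2 hi⟩
  exact ⟨q, (hNmem q q.2).1, by rw [← hf q, hq]⟩

end Geom22

end CfsgLib.SporFischer
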