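import Mathlib.Data.List.Basic

/-!
# Tables for common neighbours in `U(6,2)` (generated)

Vectors over the field with four elements are coded in base four; addition is exclusive or. In the form
`hT a` the basis vectors `e, g₁, g₂, g₃, g₄, m` satisfy: the `gᵢ` form a chain, `(e, m) = 1`, `(g₂, m) = a`.
A closure entry `(n, i, j)` says that `n` is the point number `i` moved by the transvection at the seed
number `j`.
-/

set_option autoImplicit false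

namespace CfsgLib.SporFischer.SliceData

/-- Multiplication. -/
def mulN (a b : ℕ) : ℕ := Nat.land (Nat.shiftRight 2625168384 (2 * (4 * a + b))) 3

/-- The conjugate. -/
def conN (a : ℕ) : ℕ := mulN a a

/-- A coordinate. -/
def dg (c i : ℕ) : ℕ := Nat.land (Nat.shiftRight c (2 * i)) 3

/-- The product of one coordinate of each of two vectors. -/
def pr (c d i j : ℕ) : ℕ := mulN (dg c i) (conN (dg d j))

/-- The form on six coordinates. -/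
def hT (a c d : ℕ) : ℕ :=
  Nat.xor (Nat.xor (Nat.xor (pr c d 0 5) (pr c d 5 0)) (Nat.xor (pr c d 1 2) (pr c d 2 1)))
    (Nat.xor (Nat.xor (Nat.xor (pr c d 2 3) (pr c d 3 2)) (Nat.xor (pr c d 3 4) (pr c d 4 3)))
      (Nat.xor (mulN a (pr c d 2 5)) (mulN a (pr c d 5 2))))

/-- The sum of the norms of four coordinates. -/
def h4 (c d : ℕ) : ℕ :=
  Nat.xor (Nat.xor (pr c d 0 0) (pr c d 1 1)) (Nat.xor (pr c d 2 2) (pr c d 3 3))

/-- A scalar multiple of a vector with six coordinates. -/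
def smN (t c : ℕ) : ℕ :=
  mulN t (dg c 0) + 4 * mulN t (dg c 1) + 16 * mulN t (dg c 2) + 64 * mulN t (dg c 3) +
    256 * mulN t (dg c 4) + 1024 * mulN t (dg c 5)

/-- The leading coordinate. -/
def lead (c : ℕ) : ℕ :=
  if dg c 0 ≠ 0 then dg c 0 else if dg c 1 ≠ 0 then dg c 1 else if dg c 2 ≠ 0 then dg c 2
  else if dg c 3 ≠ 0 then dg c 3 else if dg c 4 ≠ 0 then dg c 4 else dg c 5

/-- The multiple with leading coordinate one. -/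
def normN (c : ℕ) : ℕ := smN (conN (lead c)) c

/-- The image of `p` under the transvection at `q`. -/
def moveN (a p q : ℕ) : ℕ := normN (Nat.xor p (smN (hT a p q) q))

/-- The coordinates between the first and the last. -/
def midN (c : ℕ) : ℕ := normN (Nat.land (Nat.shiftRight c 2) 255)

/-- The isotropic points for `h4`. -/
def iso4 : List ℕ := [
  5, 9, 13, 17, 20, 33, 36, 49, 52, 65, 68, 80, 85, 89, 93,
  101, 105, 109, 117, 121, 125, 129, 132, 144, 149, 153, 157, 165, 169, 173,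
  181, 185, 189, 193, 196, 208, 213, 217, 221, 229, 233, 237, 245, 249, 253]

/-- A chain among them. -/
def chain4 : List ℕ := [
  0, 1, 12, 23]

/-- The middle of the seventh seed. -/
def wStar : ℕ := 189

/-- The middles of the points orthogonal to `e`. -/
def mids : List ℕ := [
  1, 4, 5, 16, 17, 20, 21, 25, 29, 33, 45, 49, 57, 64, 65,
  68, 69, 80, 81, 84, 85, 89, 93, 100, 101, 105, 116, 117, 125, 129,
  132, 133, 161, 173, 180, 181, 189, 193, 196, 197, 228, 229, 233, 241, 249]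

/-- The closure for `a = 0`, first coordinate 0. -/
def ops00 : List (ℕ × ℕ × ℕ) := [
  (1025, 0, 5), (20, 1, 2), (420, 1, 6), (80, 2, 3), (724, 2, 6), (320, 3, 4), (692, 3, 6), (500, 4, 6),
  (84, 8, 3), (400, 8, 6), (404, 9, 2), (356, 9, 3), (932, 9, 4), (336, 10, 4), (516, 10, 6), (720, 11, 1),
  (532, 11, 3), (468, 11, 4), (116, 12, 6), (644, 13, 2), (180, 13, 4), (372, 14, 3), (340, 15, 4), (912, 16, 4),
  (916, 17, 4), (100, 18, 4), (996, 19, 3), (528, 22, 3), (464, 22, 4), (228, 25, 1), (132, 26, 4), (772, 29, 6),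
  (784, 30, 3), (788, 31, 3), (68, 31, 6), (276, 32, 6), (964, 33, 2), (272, 33, 6), (324, 35, 6), (196, 36, 2),
  (260, 42, 2)]

/-- Its witnesses. -/
def wit00 : List ℕ := [
  3, 4, 12, 21]

/-- The closure for `a = 0`, first coordinate 1. -/
def ops01 : List (ℕ × ℕ × ℕ) := [
  (1025, 0, 5), (693, 3, 6), (1780, 7, 6), (645, 8, 2), (3492, 9, 1), (133, 10, 4), (3428, 11, 3), (1101, 13, 6),
  (77, 14, 5)]

/-- Its witnesses. -/
def wit01 : List ℕ := [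
  12, 15]

/-- The closure for `a = 0`, first coordinate 2. -/
def ops02 : List (ℕ × ℕ × ℕ) := [
  (1025, 0, 5), (365, 3, 6), (2804, 7, 6), (333, 8, 2), (1444, 9, 1), (77, 10, 4), (1380, 11, 3), (1225, 13, 6),
  (201, 14, 5)]

/-- Its witnesses. -/
def wit02 : List ℕ := [
  12, 15]

/-- The closure for `a = 0`, first coordinate 3. -/
def ops03 : List (ℕ × ℕ × ℕ) := [
  (1025, 0, 5), (985, 3, 6), (3828, 7, 6), (969, 8, 2), (2468, 9, 1), (201, 10, 4), (2404, 11, 3), (1157, 13, 6),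
  (133, 14, 5)]

/-- Its witnesses. -/
def wit03 : List ℕ := [
  12, 15]

/-- The closure for `a = 1`, first coordinate 0. -/
def ops10 : List (ℕ × ℕ × ℕ) := [
  (1025, 0, 5), (420, 1, 6), (1041, 7, 2), (404, 8, 2), (1045, 9, 1), (916, 10, 4), (1109, 11, 3), (68, 12, 6),
  (1093, 13, 2), (69, 15, 5)]

/-- Its witnesses. -/
def wit10 : List ℕ := [
  14, 16]

/-- The closure for `a = 1`, first coordinate 1. -/
def ops11 : List (ℕ × ℕ × ℕ) := [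
  (1025, 0, 5), (761, 1, 6), (1041, 7, 2), (745, 8, 2), (1045, 9, 1), (489, 10, 4), (1109, 11, 3), (205, 12, 6),
  (1093, 13, 2), (69, 15, 5)]

/-- Its witnesses. -/
def wit11 : List ℕ := [
  14, 16]

/-- The closure for `a = 1`, first coordinate 2. -/
def ops12 : List (ℕ × ℕ × ℕ) := [
  (1025, 0, 5), (421, 1, 6), (1041, 7, 2), (405, 8, 2), (1045, 9, 1), (917, 10, 4), (1109, 11, 3), (137, 12, 6),
  (1093, 13, 2), (69, 15, 5)]

/-- Its witnesses. -/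
def wit12 : List ℕ := [
  14, 16]

/-- The closure for `a = 1`, first coordinate 3. -/
def ops13 : List (ℕ × ℕ × ℕ) := [
  (1025, 0, 5), (20, 1, 2), (861, 1, 6), (80, 2, 3), (1040, 2, 5), (873, 2, 6), (320, 3, 4), (985, 3, 6),
  (601, 4, 6), (1041, 7, 2), (84, 8, 3), (1044, 8, 5), (881, 8, 6), (893, 9, 2), (989, 9, 3), (605, 9, 4),
  (336, 10, 4), (1104, 10, 5), (777, 10, 6), (3945, 11, 6), (865, 12, 1), (809, 12, 3), (617, 12, 4), (153, 13, 6),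
  (969, 14, 2), (217, 14, 4), (665, 15, 3), (1045, 16, 1), (1105, 16, 3), (2773, 16, 6), (340, 17, 4), (1108, 17, 5),
  (2929, 18, 6), (625, 19, 4), (637, 20, 4), (2941, 20, 5), (221, 21, 4), (669, 22, 3), (1360, 23, 5), (1801, 24, 6),
  (3937, 26, 1), (3881, 26, 3), (3689, 26, 4), (801, 27, 3), (609, 27, 4), (157, 30, 1), (201, 31, 4), (1993, 31, 5),
  (1109, 34, 3), (3473, 34, 6), (1361, 35, 4), (3588, 35, 6), (2769, 36, 1), (2581, 36, 3), (2517, 36, 4), (1364, 37, 5),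
  (525, 37, 6), (1092, 38, 2), (2881, 39, 2), (2673, 39, 4), (561, 40, 3), (573, 41, 3), (2685, 41, 5), (69, 41, 6),
  (3477, 42, 0), (277, 43, 6), (653, 44, 2), (273, 44, 6), (1849, 46, 2), (3905, 47, 2), (3873, 47, 3), (3681, 47, 4),
  (3897, 48, 2), (325, 51, 6), (141, 52, 2), (1225, 53, 5), (3716, 54, 0), (1093, 55, 2), (1365, 55, 4), (3457, 56, 2),
  (3985, 56, 4), (3620, 58, 2), (2753, 59, 2), (2577, 59, 3), (2513, 59, 4), (2597, 60, 2), (1348, 62, 2), (1549, 62, 6),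
  (3989, 64, 6), (2945, 65, 3), (2625, 65, 4), (2609, 66, 3), (2621, 68, 5), (261, 72, 2), (1677, 73, 5), (1845, 75, 1),
  (3969, 76, 3), (3649, 76, 4), (3857, 77, 2), (1349, 78, 6), (3893, 79, 1), (1165, 81, 5), (3204, 82, 0), (2820, 85, 6),
  (3521, 86, 3), (2433, 86, 5), (1844, 88, 1), (1572, 88, 5), (2497, 89, 4), (3777, 89, 5), (2605, 92, 1), (1573, 92, 5),
  (1284, 93, 3), (1581, 94, 2), (3861, 95, 3), (1285, 100, 5), (3012, 101, 0), (2868, 104, 6), (2244, 105, 6)]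

/-- Its witnesses. -/
def wit13 : List ℕ := []

/-- For every isotropic point `s`: four of the points, orthogonal to `s`, forming an induced path. -/
def quads : List (ℕ × ℕ × ℕ × ℕ × ℕ) := [
  (1, 1, 3, 19, 15), (4, 0, 3, 5, 58), (5, 0, 3, 45, 16), (9, 0, 3, 39, 69), (13, 0, 3, 49, 36),
  (16, 0, 4, 18, 24), (17, 0, 4, 5, 55), (20, 0, 4, 11, 38), (21, 0, 4, 5, 35), (33, 0, 4, 48, 56),
  (41, 0, 4, 77, 65), (49, 0, 4, 46, 59), (61, 0, 4, 46, 36), (64, 0, 1, 5, 56), (65, 0, 1, 76, 16),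
  (68, 0, 1, 5, 16), (69, 0, 1, 76, 36), (73, 0, 1, 76, 56), (77, 0, 1, 76, 49), (80, 0, 8, 11, 57),
  (81, 0, 8, 47, 7), (84, 0, 2, 18, 56), (85, 0, 2, 26, 7), (100, 0, 2, 18, 48), (101, 0, 2, 26, 58),
  (109, 0, 8, 47, 49), (116, 0, 2, 18, 59), (117, 0, 2, 26, 56), (121, 0, 6, 65, 59), (129, 0, 1, 65, 36),
  (132, 0, 1, 5, 87), (133, 0, 1, 65, 45), (137, 0, 1, 65, 56), (141, 0, 1, 65, 16), (153, 0, 2, 42, 7),
  (157, 0, 6, 5, 34), (161, 0, 8, 39, 36), (169, 0, 2, 42, 59), (180, 0, 8, 11, 77), (181, 0, 8, 39, 45),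
  (185, 0, 2, 42, 62), (193, 0, 1, 46, 66), (196, 0, 1, 5, 36), (197, 0, 1, 46, 57), (201, 0, 1, 46, 35),
  (205, 0, 1, 46, 61), (217, 0, 8, 54, 7), (221, 0, 2, 49, 7), (228, 0, 6, 38, 11), (229, 0, 6, 45, 60),
  (237, 0, 2, 49, 62), (241, 0, 8, 54, 90), (253, 0, 2, 49, 60), (256, 0, 1, 5, 16), (257, 0, 1, 64, 35),
  (260, 0, 1, 5, 35), (261, 0, 1, 64, 16), (265, 0, 1, 64, 98), (269, 0, 1, 64, 48), (272, 0, 2, 18, 55),
  (273, 0, 2, 24, 7), (276, 0, 3, 45, 16), (277, 0, 3, 5, 34), (289, 0, 2, 24, 60), (297, 0, 4, 77, 55),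
  (305, 0, 2, 24, 58), (317, 0, 4, 46, 55), (320, 0, 1, 5, 35), (321, 0, 1, 64, 16), (324, 0, 1, 5, 16),
  (325, 0, 1, 64, 35), (329, 0, 1, 64, 66), (333, 0, 1, 64, 26), (336, 0, 3, 62, 11), (337, 0, 3, 5, 34),
  (340, 0, 2, 18, 55), (341, 0, 2, 24, 7), (356, 0, 2, 18, 48), (357, 0, 2, 24, 47), (365, 0, 8, 38, 26),
  (372, 0, 2, 18, 91), (373, 0, 2, 24, 66), (377, 0, 8, 38, 69), (400, 0, 3, 62, 59), (401, 0, 3, 5, 58),
  (404, 0, 3, 45, 36), (405, 0, 3, 5, 58), (420, 0, 10, 38, 26), (421, 0, 10, 11, 77), (429, 0, 17, 18, 48),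
  (433, 0, 10, 11, 83), (445, 0, 13, 54, 34), (464, 0, 3, 62, 87), (465, 0, 3, 5, 36), (468, 0, 3, 45, 95),
  (469, 0, 3, 5, 59), (481, 0, 6, 45, 16), (489, 0, 9, 62, 34), (500, 0, 9, 69, 38), (501, 0, 9, 76, 16),
  (505, 0, 6, 76, 34), (513, 0, 1, 76, 36), (516, 0, 1, 5, 56), (517, 0, 1, 76, 16), (521, 0, 1, 76, 98),
  (525, 0, 1, 76, 24), (528, 0, 2, 18, 56), (529, 0, 2, 26, 7), (532, 0, 4, 11, 71), (533, 0, 4, 5, 59),
  (545, 0, 2, 26, 60), (553, 0, 3, 78, 59), (561, 0, 2, 26, 38), (573, 0, 4, 46, 35), (601, 0, 9, 5, 36),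
  (605, 0, 6, 5, 59), (609, 0, 3, 49, 47), (617, 0, 3, 78, 26), (625, 0, 6, 49, 60), (637, 0, 9, 76, 16),
  (641, 0, 1, 94, 49), (644, 0, 1, 5, 56), (645, 0, 1, 94, 35), (649, 0, 1, 94, 87), (653, 0, 1, 94, 26),
  (665, 0, 2, 69, 7), (669, 0, 8, 66, 7), (673, 0, 3, 49, 87), (681, 0, 2, 69, 91), (692, 0, 8, 11, 71),
  (693, 0, 8, 66, 24), (697, 0, 2, 69, 38), (720, 0, 10, 38, 56), (721, 0, 10, 48, 7), (724, 0, 13, 24, 71),
  (725, 0, 13, 5, 90), (737, 0, 3, 49, 16), (745, 0, 3, 78, 34), (756, 0, 17, 24, 47), (757, 0, 17, 98, 11),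
  (761, 0, 10, 99, 18), (769, 0, 1, 54, 39), (772, 0, 1, 5, 36), (773, 0, 1, 54, 16), (777, 0, 1, 54, 57),
  (781, 0, 1, 54, 60), (784, 0, 2, 18, 59), (785, 0, 2, 42, 7), (788, 0, 4, 11, 36), (789, 0, 4, 5, 56),
  (801, 0, 2, 42, 59), (809, 0, 4, 77, 26), (817, 0, 2, 42, 46), (829, 0, 3, 39, 46), (857, 0, 17, 65, 45),
  (861, 0, 10, 48, 7), (865, 0, 10, 42, 62), (873, 0, 13, 47, 48), (881, 0, 3, 42, 66), (893, 0, 3, 39, 69),
  (912, 0, 6, 38, 91), (913, 0, 6, 5, 35), (916, 0, 9, 24, 61), (917, 0, 9, 5, 36), (932, 0, 6, 49, 35),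
  (933, 0, 6, 65, 16), (941, 0, 9, 48, 18), (945, 0, 3, 42, 16), (957, 0, 3, 39, 34), (961, 0, 1, 46, 39),
  (964, 0, 1, 5, 60), (965, 0, 1, 46, 35), (969, 0, 1, 46, 57), (973, 0, 1, 46, 36), (985, 0, 8, 47, 7),
  (989, 0, 2, 26, 7), (996, 0, 8, 11, 61), (997, 0, 8, 47, 24), (1005, 0, 2, 26, 38), (1009, 0, 3, 42, 59),
  (1021, 0, 2, 26, 56), (1024, 1, 3, 56, 15), (1025, 1, 3, 39, 15), (1028, 1, 3, 23, 8), (1029, 1, 3, 23, 8),
  (1033, 1, 3, 19, 41), (1037, 1, 3, 29, 27), (1040, 4, 7, 21, 12), (1041, 4, 5, 21, 12), (1044, 2, 4, 7, 14),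
  (1045, 2, 4, 5, 14), (1060, 2, 4, 25, 20), (1061, 2, 4, 25, 20), (1069, 4, 8, 10, 15), (1076, 2, 4, 46, 12),
  (1077, 2, 4, 48, 12), (1081, 4, 8, 10, 9), (1088, 1, 3, 56, 8), (1089, 1, 3, 39, 8), (1092, 1, 3, 23, 16),
  (1093, 1, 3, 23, 11), (1097, 1, 3, 19, 15), (1101, 1, 3, 29, 6), (1104, 2, 17, 13, 7), (1105, 2, 17, 13, 5),
  (1108, 6, 7, 11, 8), (1109, 5, 6, 50, 62), (1121, 2, 17, 6, 40), (1129, 8, 10, 9, 41), (1137, 2, 17, 22, 27),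
  (1149, 8, 10, 15, 12), (1153, 1, 3, 39, 12), (1156, 1, 3, 23, 6), (1157, 1, 3, 23, 6), (1161, 1, 3, 19, 18),
  (1165, 1, 3, 29, 16), (1177, 5, 9, 10, 8), (1181, 2, 17, 6, 5), (1188, 8, 10, 13, 12), (1189, 8, 10, 13, 12),
  (1197, 2, 17, 13, 27), (1201, 6, 45, 10, 8), (1213, 2, 17, 39, 20), (1217, 1, 3, 39, 40), (1220, 1, 3, 23, 22),
  (1221, 1, 3, 23, 22), (1225, 1, 3, 19, 34), (1229, 1, 3, 29, 11), (1241, 2, 17, 22, 5), (1245, 5, 14, 8, 10),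
  (1249, 8, 10, 42, 22), (1257, 2, 17, 39, 15), (1268, 8, 10, 13, 36), (1269, 8, 10, 13, 26), (1273, 2, 17, 13, 40),
  (1280, 1, 4, 16, 10), (1281, 1, 4, 11, 10), (1284, 1, 4, 2, 26), (1285, 1, 4, 2, 24), (1289, 1, 4, 67, 14),
  (1293, 1, 4, 28, 30), (1296, 3, 7, 4, 8), (1297, 3, 5, 4, 8), (1300, 2, 4, 7, 3), (1301, 2, 4, 5, 3),
  (1316, 2, 4, 25, 44), (1317, 2, 4, 25, 44), (1325, 4, 8, 38, 30), (1332, 2, 4, 46, 31), (1333, 2, 4, 48, 31),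
  (1337, 4, 8, 38, 26), (1344, 1, 5, 35, 2), (1345, 1, 7, 24, 2), (1348, 1, 5, 14, 29), (1349, 1, 7, 11, 10),
  (1353, 1, 7, 6, 40), (1357, 1, 7, 15, 12), (1360, 2, 18, 7, 3), (1361, 2, 24, 25, 41), (1364, 3, 7, 9, 65),
  (1365, 3, 5, 9, 67), (1377, 2, 24, 15, 19), (1385, 8, 16, 12, 51), (1393, 2, 24, 9, 51), (1405, 6, 23, 8, 47),
  (1424, 3, 7, 15, 50), (1425, 3, 5, 15, 50), (1428, 3, 7, 22, 28), (1429, 3, 5, 22, 28), (1441, 10, 11, 29, 50),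
  (1449, 17, 18, 32, 20), (1460, 6, 38, 10, 16), (1461, 6, 45, 10, 11), (1465, 9, 35, 13, 36), (1488, 3, 7, 9, 67),
  (1489, 3, 5, 9, 65), (1492, 3, 7, 6, 68), (1493, 3, 5, 6, 65), (1508, 10, 13, 12, 56), (1509, 10, 11, 12, 39),
  (1517, 13, 17, 18, 32), (1521, 10, 11, 20, 39), (1533, 14, 18, 17, 35), (1537, 1, 4, 11, 12), (1540, 1, 4, 2, 30),
  (1541, 1, 4, 2, 30), (1545, 1, 4, 67, 9), (1549, 1, 4, 28, 26), (1552, 4, 7, 6, 40), (1553, 4, 5, 6, 40),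
  (1556, 2, 4, 7, 9), (1557, 2, 4, 5, 9), (1572, 2, 4, 25, 38), (1573, 2, 4, 25, 47), (1581, 3, 37, 9, 35),
  (1588, 2, 4, 46, 27), (1589, 2, 4, 48, 19), (1593, 4, 8, 39, 12), (1625, 5, 9, 41, 17), (1629, 5, 6, 29, 24),
  (1636, 3, 23, 22, 27), (1637, 3, 23, 22, 27), (1645, 3, 37, 15, 12), (1652, 10, 13, 36, 19), (1653, 10, 13, 26, 19),
  (1657, 11, 20, 22, 17), (1665, 1, 7, 24, 28), (1668, 1, 5, 15, 10), (1669, 1, 7, 15, 10), (1673, 1, 7, 11, 41),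
  (1677, 1, 7, 6, 23), (1689, 5, 16, 8, 68), (1693, 2, 30, 5, 14), (1700, 3, 23, 8, 47), (1701, 3, 23, 8, 52),
  (1709, 2, 30, 40, 10), (1713, 8, 16, 24, 15), (1725, 2, 30, 25, 41), (1744, 7, 13, 17, 56), (1745, 5, 13, 17, 39),
  (1748, 7, 13, 10, 65), (1749, 5, 13, 10, 42), (1764, 3, 23, 16, 21), (1765, 3, 23, 11, 21), (1773, 3, 37, 18, 14),
  (1777, 11, 23, 17, 56), (1789, 10, 32, 12, 44), (1793, 1, 4, 11, 20), (1796, 1, 4, 2, 21), (1797, 1, 4, 2, 21),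
  (1801, 1, 4, 67, 36), (1805, 1, 4, 28, 9), (1808, 4, 7, 9, 51), (1809, 4, 5, 9, 51), (1812, 2, 4, 7, 6),
  (1813, 2, 4, 5, 6), (1828, 2, 4, 25, 19), (1829, 2, 4, 25, 19), (1837, 4, 8, 14, 29), (1844, 2, 4, 46, 10),
  (1845, 2, 4, 48, 9), (1849, 3, 19, 15, 35), (1881, 5, 21, 37, 10), (1885, 5, 14, 23, 17), (1892, 9, 10, 13, 12),
  (1893, 9, 10, 13, 12), (1901, 6, 17, 13, 26), (1908, 3, 20, 40, 6), (1909, 3, 20, 40, 6), (1913, 3, 19, 41, 9),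
  (1936, 6, 7, 13, 80), (1937, 5, 6, 17, 78), (1940, 7, 9, 10, 61), (1941, 5, 9, 10, 49), (1953, 11, 12, 17, 85),
  (1961, 10, 27, 14, 41), (1972, 3, 20, 16, 26), (1973, 3, 20, 11, 33), (1977, 3, 19, 18, 44), (1985, 1, 7, 24, 20),
  (1988, 1, 5, 6, 17), (1989, 1, 7, 6, 17), (1993, 1, 7, 15, 37), (1997, 1, 7, 11, 12), (2009, 2, 34, 5, 9),
  (2013, 5, 6, 23, 8), (2017, 8, 16, 24, 9), (2025, 2, 34, 38, 6), (2036, 3, 20, 11, 8), (2037, 3, 20, 16, 8),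
  (2041, 2, 34, 19, 3), (2052, 1, 3, 29, 26), (2065, 4, 5, 21, 40), (2069, 4, 5, 14, 41), (2085, 4, 11, 31, 22),
  (2093, 4, 16, 24, 15), (2097, 4, 7, 21, 51), (2100, 4, 8, 10, 15), (2109, 4, 7, 14, 29), (2112, 1, 3, 56, 40),
  (2116, 1, 3, 29, 16), (2129, 5, 9, 67, 26), (2133, 5, 6, 68, 42), (2145, 6, 23, 11, 20), (2148, 7, 11, 8, 28),
  (2153, 9, 24, 16, 12), (2165, 7, 9, 41, 12), (2169, 6, 7, 18, 27), (2180, 1, 3, 29, 6), (2192, 2, 17, 22, 27),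
  (2196, 8, 10, 15, 12), (2201, 5, 9, 37, 29), (2205, 5, 6, 23, 48), (2213, 13, 24, 16, 21), (2221, 11, 12, 13, 40),
  (2229, 7, 18, 19, 23), (2233, 7, 11, 20, 37), (2244, 1, 3, 29, 11), (2256, 6, 38, 8, 44), (2260, 2, 17, 56, 20),
  (2265, 5, 21, 37, 29), (2269, 5, 14, 23, 26), (2273, 14, 18, 16, 20), (2276, 2, 17, 6, 7), (2281, 11, 21, 37, 15),
  (2289, 7, 9, 41, 79), (2292, 2, 17, 13, 27), (2301, 6, 7, 11, 31), (2304, 1, 4, 16, 20), (2308, 1, 4, 28, 9),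
  (2321, 3, 5, 4, 28), (2325, 3, 5, 4, 50), (2341, 4, 11, 10, 40), (2349, 4, 16, 20, 37), (2353, 4, 7, 6, 23),
  (2356, 4, 8, 14, 29), (2365, 4, 7, 9, 37), (2368, 1, 5, 35, 20), (2372, 1, 5, 14, 27), (2385, 3, 5, 6, 40),
  (2389, 3, 5, 9, 41), (2401, 10, 11, 12, 39), (2404, 6, 7, 11, 8), (2409, 16, 18, 17, 22), (2421, 7, 11, 10, 40),
  (2425, 7, 14, 41, 17), (2433, 1, 46, 12, 32), (2437, 1, 46, 10, 11), (2441, 1, 46, 35, 15), (2445, 1, 46, 23, 14),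
  (2449, 2, 24, 15, 5), (2453, 3, 5, 22, 17), (2465, 2, 24, 25, 40), (2468, 7, 14, 23, 17), (2473, 8, 32, 35, 25),
  (2481, 2, 24, 7, 14), (2484, 6, 17, 13, 27), (2493, 7, 13, 31, 34), (2497, 1, 53, 11, 10), (2501, 1, 53, 24, 2),
  (2505, 1, 53, 16, 12), (2509, 1, 53, 6, 23), (2513, 3, 5, 9, 41), (2517, 2, 24, 25, 40), (2533, 2, 24, 13, 27),
  (2541, 8, 32, 12, 13), (2549, 2, 24, 7, 39), (2553, 6, 7, 32, 8), (2564, 1, 4, 28, 30), (2577, 4, 5, 6, 17),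
  (2581, 4, 5, 9, 10), (2597, 3, 20, 11, 4), (2605, 3, 19, 18, 4), (2609, 4, 7, 9, 37), (2612, 4, 8, 39, 33),
  (2621, 4, 7, 6, 23), (2625, 1, 25, 24, 15), (2629, 1, 25, 40, 6), (2633, 1, 25, 19, 18), (2637, 1, 25, 26, 2),
  (2640, 10, 16, 20, 56), (2644, 14, 23, 17, 65), (2649, 5, 9, 28, 8), (2653, 2, 26, 32, 5), (2661, 3, 20, 22, 17),
  (2669, 2, 26, 15, 10), (2673, 6, 7, 13, 31), (2676, 13, 17, 34, 32), (2685, 2, 26, 7, 9), (2692, 1, 5, 15, 12),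
  (2704, 2, 18, 32, 20), (2708, 6, 23, 8, 59), (2713, 5, 16, 12, 17), (2717, 5, 14, 27, 10), (2725, 3, 20, 16, 18),
  (2733, 3, 19, 25, 24), (2741, 7, 9, 10, 40), (2745, 6, 7, 11, 41), (2753, 1, 31, 11, 23), (2757, 1, 31, 45, 2),
  (2761, 1, 31, 16, 24), (2765, 1, 31, 15, 10), (2769, 5, 13, 12, 46), (2773, 2, 21, 5, 13), (2789, 2, 21, 40, 10),
  (2797, 3, 19, 41, 14), (2805, 2, 21, 6, 22), (2809, 7, 14, 8, 68), (2820, 1, 4, 28, 24), (2833, 4, 5, 9, 10),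
  (2837, 4, 5, 6, 17), (2853, 4, 11, 12, 17), (2861, 4, 16, 10, 27), (2865, 3, 7, 4, 25), (2868, 3, 37, 9, 24),
  (2877, 3, 7, 4, 25), (2881, 1, 25, 33, 16), (2885, 1, 25, 19, 15), (2889, 1, 25, 40, 18), (2893, 1, 25, 30, 2),
  (2896, 16, 23, 17, 39), (2900, 10, 32, 12, 44), (2905, 5, 21, 51, 18), (2909, 2, 30, 5, 14), (2917, 8, 28, 9, 37),
  (2925, 2, 30, 38, 6), (2929, 3, 7, 15, 12), (2932, 3, 37, 34, 14), (2941, 2, 30, 7, 3), (2945, 1, 31, 15, 26),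
  (2949, 1, 31, 11, 23), (2953, 1, 31, 57, 6), (2957, 1, 31, 16, 10), (2961, 2, 21, 5, 13), (2965, 5, 9, 37, 18),
  (2977, 2, 21, 63, 25), (2980, 6, 7, 32, 10), (2985, 8, 14, 57, 12), (2993, 2, 21, 7, 3), (2996, 3, 37, 15, 12),
  (3005, 3, 7, 6, 17), (3012, 1, 5, 6, 23), (3024, 8, 11, 35, 15), (3028, 2, 18, 55, 22), (3033, 5, 9, 51, 12),
  (3037, 5, 6, 29, 20), (3041, 9, 10, 16, 12), (3044, 2, 18, 7, 15), (3049, 6, 17, 34, 11), (3057, 3, 7, 6, 50),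
  (3060, 2, 18, 32, 10), (3069, 3, 7, 9, 28), (3076, 1, 3, 19, 41), (3089, 4, 5, 21, 51), (3093, 4, 5, 14, 29),
  (3105, 4, 7, 21, 40), (3108, 4, 8, 10, 9), (3113, 4, 7, 14, 41), (3125, 4, 11, 31, 15), (3129, 4, 16, 24, 9),
  (3136, 1, 3, 56, 12), (3140, 1, 3, 19, 34), (3153, 5, 9, 41, 54), (3157, 5, 6, 29, 48), (3173, 7, 11, 12, 51),
  (3181, 7, 18, 27, 29), (3185, 11, 20, 22, 54), (3188, 7, 9, 10, 8), (3197, 15, 19, 18, 16), (3204, 1, 3, 19, 18),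
  (3216, 8, 10, 57, 22), (3220, 2, 17, 56, 15), (3225, 5, 9, 41, 12), (3229, 5, 6, 40, 20), (3233, 7, 9, 65, 36),
  (3236, 2, 17, 13, 40), (3241, 6, 7, 11, 20), (3249, 6, 23, 16, 18), (3252, 2, 17, 22, 7), (3261, 9, 35, 11, 12),
  (3268, 1, 3, 19, 15), (3280, 2, 17, 6, 40), (3284, 8, 10, 9, 41), (3289, 5, 21, 68, 19), (3293, 5, 14, 67, 20),
  (3301, 6, 7, 18, 31), (3309, 7, 9, 37, 29), (3317, 12, 13, 24, 18), (3321, 11, 21, 63, 25), (3328, 1, 4, 16, 12),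
  (3332, 1, 4, 67, 9), (3345, 3, 5, 4, 25), (3349, 3, 5, 4, 25), (3361, 4, 7, 9, 10), (3364, 4, 8, 44, 12),
  (3369, 4, 7, 6, 17), (3381, 4, 11, 10, 27), (3385, 4, 16, 12, 17), (3392, 1, 5, 35, 28), (3396, 1, 5, 14, 41),
  (3409, 3, 5, 6, 50), (3413, 3, 5, 9, 28), (3429, 6, 7, 11, 10), (3437, 7, 9, 51, 12), (3441, 9, 10, 11, 12),
  (3444, 7, 11, 8, 68), (3453, 6, 17, 18, 16), (3457, 1, 25, 26, 29), (3461, 1, 25, 24, 2), (3465, 1, 25, 19, 15),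
  (3469, 1, 25, 40, 21), (3473, 3, 5, 15, 12), (3477, 2, 24, 32, 5), (3493, 2, 24, 7, 14), (3501, 6, 21, 51, 19),
  (3509, 2, 24, 13, 12), (3513, 8, 28, 9, 37), (3521, 1, 31, 15, 24), (3525, 1, 31, 11, 10), (3529, 1, 31, 16, 23),
  (3533, 1, 31, 45, 6), (3537, 2, 21, 5, 3), (3541, 3, 5, 6, 17), (3553, 2, 21, 6, 23), (3556, 13, 17, 22, 20),
  (3561, 7, 9, 37, 34), (3569, 2, 21, 62, 25), (3572, 7, 9, 41, 17), (3581, 8, 14, 45, 12), (3588, 1, 4, 67, 26),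
  (3601, 4, 5, 6, 23), (3605, 4, 5, 9, 37), (3617, 3, 7, 4, 28), (3620, 3, 19, 15, 24), (3625, 3, 7, 4, 50),
  (3637, 4, 11, 20, 37), (3641, 4, 16, 10, 40), (3649, 1, 46, 10, 15), (3653, 1, 46, 23, 6), (3657, 1, 46, 35, 2),
  (3661, 1, 46, 12, 11), (3664, 12, 16, 23, 62), (3668, 10, 27, 14, 41), (3673, 2, 35, 5, 44), (3677, 5, 6, 68, 8),
  (3681, 3, 7, 9, 41), (3684, 3, 19, 25, 44), (3689, 2, 35, 25, 40), (3701, 8, 32, 12, 13), (3705, 2, 35, 13, 27),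
  (3716, 1, 5, 15, 37), (3728, 8, 11, 35, 9), (3732, 2, 18, 55, 6), (3737, 5, 16, 10, 40), (3741, 5, 14, 41, 17),
  (3745, 3, 7, 6, 40), (3748, 2, 18, 19, 3), (3753, 3, 7, 9, 41), (3761, 10, 15, 12, 41), (3764, 2, 18, 7, 9),
  (3773, 11, 29, 27, 22), (3777, 1, 53, 6, 45), (3781, 1, 53, 11, 23), (3785, 1, 53, 16, 10), (3789, 1, 53, 24, 15),
  (3793, 2, 33, 5, 13), (3797, 5, 13, 31, 18), (3809, 2, 33, 7, 3), (3812, 3, 19, 41, 9), (3817, 3, 7, 22, 17),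
  (3825, 2, 33, 25, 38), (3828, 6, 21, 37, 10), (3837, 8, 32, 24, 25), (3844, 1, 4, 67, 14), (3857, 4, 5, 9, 37),
  (3861, 4, 5, 6, 23), (3873, 4, 7, 6, 17), (3876, 4, 8, 39, 36), (3881, 4, 7, 9, 10), (3893, 3, 19, 34, 4),
  (3897, 3, 20, 16, 4), (3905, 1, 31, 16, 23), (3909, 1, 31, 15, 10), (3913, 1, 31, 57, 2), (3917, 1, 31, 11, 29),
  (3920, 10, 16, 29, 50), (3924, 17, 23, 26, 28), (3929, 2, 21, 5, 22), (3933, 5, 14, 8, 66), (3937, 7, 13, 12, 50),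
  (3940, 9, 24, 13, 26), (3945, 2, 21, 7, 13), (3957, 3, 19, 41, 14), (3961, 2, 21, 40, 10), (3969, 1, 25, 30, 11),
  (3973, 1, 25, 33, 2), (3977, 1, 25, 40, 6), (3981, 1, 25, 19, 34), (3985, 5, 6, 29, 37), (3989, 2, 33, 5, 9),
  (4005, 2, 33, 7, 6), (4013, 7, 9, 28, 8), (4021, 2, 33, 19, 3), (4025, 3, 20, 22, 17), (4036, 1, 5, 6, 40),
  (4048, 2, 18, 19, 15), (4052, 8, 11, 12, 46), (4057, 5, 9, 10, 40), (4061, 5, 6, 17, 41), (4069, 7, 14, 27, 10),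
  (4077, 7, 11, 12, 17), (4085, 3, 19, 18, 16), (4089, 3, 20, 11, 34)]

end CfsgLib.SporFischer.SliceData
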